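import Cfsg.Agent.Lib.Lie.GolayCover

/-!
Generators of the linear group of degree three over four elements (generated).
-/

set_option autoImplicit false
set_option maxRecDepth 100000
set_option maxHeartbeats 0
set_option Elab.async false

namespace Cfsg.Agent.Lie.LThreeFourMult

open Cfsg.Agent.Lie GolayCover

/-- generators as commutators -/
def gensC : List ((ℕ × ℕ) × (ℕ × ℕ) × (ℕ × ℕ)) := [((982126463649512714436272436299542560, 966242166634848049722509338174952480), (961243732277506167911664368681920544, 971499022122117724544769583374351392), (966222941893292843215830278880172064, 977833114287772947879927533170474016)),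
  ((972878353442982355945272500889956384, 980309837668828678877901104711180320), (983116602824505370004689366610642976, 982254446836519378489618241843431456), (984203019240106444409651789235373088, 984147256934707331662265376751299616))]

/-- generators -/
def gensX : List (ℕ × ℕ) := [(982126463649512714436272436299542560, 966242166634848049722509338174952480), (972878353442982355945272500889956384, 980309837668828678877901104711180320)]

theorem gensX_eq : gensC.map Prod.fst = gensX := by decide +kernel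

/-- a chain -/
def chainX : List Spor.WordChain.Lev := [⟨2, [[0], [1]], [[0, 1, 12, 11, 13, 2, 10, 16, 22, 6, 17, 21, 3, 7, 18, 4, 14, 8, 15, 5, 9, 19, 20, 23], [0, 1, 12, 19, 14, 5, 21, 3, 2, 4, 6, 8, 18, 7, 16, 17, 20, 10, 11, 22, 9, 15, 13, 23]], [(2, 0, 0), (12, 0, 0), (3, 1, 0), (18, 1, 1), (11, 2, 0), (19, 2, 1), (15, 3, 0), (21, 4, 0), (8, 4, 1), (5, 5, 0), (22, 5, 1), (4, 6, 0), (17, 6, 1), (20, 10, 0), (13, 10, 1), (14, 11, 1), (10, 12, 1), (9, 13, 0), (7, 14, 0), (16, 15, 1), (6, 16, 1)]⟩,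
  ⟨3, [[0, 1, 1, 0, 0, 1, 1, 0, 1, 1, 0, 0], [0, 0, 0, 1, 1], [0, 0, 0, 0, 1, 1, 1, 0, 1, 0, 0, 0, 1, 1, 1, 1, 0, 0]], [[0, 1, 2, 7, 11, 6, 4, 16, 15, 3, 5, 10, 20, 8, 21, 14, 18, 19, 9, 22, 17, 13, 12, 23], [0, 1, 2, 13, 9, 22, 12, 8, 14, 6, 7, 5, 17, 20, 16, 19, 10, 4, 3, 11, 21, 18, 15, 23], [0, 1, 2, 17, 20, 3, 6, 19, 4, 18, 12, 16, 22, 9, 14, 11, 15, 5, 13, 21, 8, 7, 10, 23]], [(3, 0, 0), (7, 0, 0), (13, 0, 1), (17, 0, 2), (16, 1, 0), (8, 1, 1), (19, 1, 2), (20, 2, 1), (9, 2, 2), (4, 3, 1), (5, 3, 2), (18, 4, 0), (10, 4, 1), (15, 4, 2), (14, 5, 1), (22, 6, 0), (11, 6, 1), (21, 6, 2), (6, 8, 1), (12, 12, 2)]⟩,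
  ⟨4, [[1, 2, 1, 1, 0, 1, 1, 0, 0], [2, 1, 2, 2, 2, 0, 2, 0, 2, 0, 1, 1, 0, 0, 0], [1, 1, 1, 2, 0, 1, 0, 0, 1, 0, 1, 2, 1, 2, 2, 1, 1, 1]], [[0, 1, 2, 3, 9, 5, 12, 11, 21, 4, 22, 7, 6, 15, 14, 13, 20, 17, 19, 18, 16, 8, 10, 23], [0, 1, 2, 3, 11, 14, 21, 6, 15, 13, 22, 20, 9, 12, 17, 16, 8, 5, 10, 19, 4, 7, 18, 23], [0, 1, 2, 3, 16, 5, 21, 19, 12, 20, 15, 18, 8, 22, 14, 10, 4, 17, 11, 7, 9, 6, 13, 23]], [(4, 0, 0), (9, 0, 0), (11, 0, 1), (16, 0, 2), (13, 1, 1), (20, 1, 2), (7, 2, 0), (18, 2, 2), (8, 3, 1), (15, 4, 0), (12, 4, 1), (22, 4, 2), (6, 6, 1), (19, 6, 2), (10, 7, 1), (21, 8, 0)]⟩,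
  ⟨5, [[0, 2, 2, 1, 0, 2, 2, 0, 0, 1, 1, 1, 1, 1, 0, 2, 0, 1, 0]], [[0, 1, 2, 3, 4, 14, 15, 10, 21, 8, 12, 19, 7, 22, 17, 18, 13, 5, 6, 20, 11, 9, 16, 23]], [(5, 0, 0), (14, 0, 0), (17, 1, 0)]⟩]

theorem chainX_ok : Spor.WordChain.chainOK (gensX.map fun e => toL e.1) chainX [] = true := by decide +kernel

theorem chainX_size : Spor.WordChain.chainSize chainX = 20160 := by decide +kernel

theorem gens_ok : gensC.all (commOK [23, 0, 1]) = true ∧ gensX.all (memOK [23, 0, 1]) = true := by decide +kernel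

end Cfsg.Agent.Lie.LThreeFourMult
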