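import Cfsg.Agent.Lib.Lie.LThreeFourMult.Six
import Cfsg.Agent.Lib.Lie.LThreeFourMult.Gens

/-!
Cocycles and cosets for the part at 3 of the covering of the linear group of degree three over four elements (generated).
-/

set_option autoImplicit false
set_option maxRecDepth 100000
set_option maxHeartbeats 0
set_option Elab.async false

namespace Cfsg.Agent.Lie.LThreeFourMult

open Cfsg.Agent.Lie GolayCover

def sixVala0 : Janko.Tree (ℕ) :=
  (.node (.node (.node (.node (.node (.node (.node (.leaf 0) (.leaf 0)) (.leaf 0)) (.node (.node (.leaf 0) (.leaf 0)) (.leaf 1))) (.node (.node (.node (.leaf 0) (.leaf 0)) (.leaf 1)) (.node (.node (.leaf 0) (.leaf 1)) (.leaf 1)))) (.node (.node (.node (.node (.leaf 0) (.leaf 1)) (.leaf 0)) (.node (.node (.leaf 0) (.leaf 1)) (.leaf 0))) (.node (.node (.node (.leaf 1) (.leaf 1)) (.leaf 1)) (.node (.leaf 1) (.leaf 0))))) (.node (.node (.node (.node (.node (.leaf 0) (.leaf 0)) (.leaf 1)) (.node (.node (.leaf 0) (.leaf 0)) (.leaf 0))) (.node (.node (.node (.leaf 0) (.leaf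 0)) (.leaf 1)) (.node (.leaf 0) (.leaf 0)))) (.node (.node (.node (.node (.leaf 0) (.leaf 1)) (.leaf 0)) (.node (.node (.leaf 0) (.leaf 1)) (.leaf 1))) (.node (.node (.node (.leaf 0) (.leaf 1)) (.leaf 1)) (.node (.leaf 0) (.leaf 0)))))) (.node (.node (.node (.node (.node (.node (.leaf 1) (.leaf 0)) (.leaf 0)) (.node (.node (.leaf 1) (.leaf 0)) (.leaf 1))) (.node (.node (.node (.leaf 0) (.leaf 0)) (.leaf 0)) (.node (.node (.leaf 0) (.leaf 1)) (.leaf 1)))) (.node (.node (.node (.node (.leaf 0) (.leaf 1)) (.leaf 1)) (.node (.node (.leaf 0) (.leaf 1)) (.leaf 0))) (.node (.node (.node (.leaf 1) (.leaf 1)) (.leaf 1)) (.node (.leaf 1) (.leaf 0))))) (.node (.node (.node (.node (.node (.leaf 1) (.leaf 0)) (.leaf 0)) (.node (.node (.leaf 0) (.leaf 0)) (.leaf 1))) (.node (.node (.node (.leaf 0) (.leaf 0)) (.leaf 0)) (.node (.leaf 1) (.leaf 1)))) (.node (.node (.node (.node (.leaf 0) (.leaf 1)) (.leaf 1)) (.node (.node (.leaf 0) (.leaf 0)) (.leaf 0))) (.node (.node (.node (.leaf 1) (.leaf 0)) (.leaf 1)) (.node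 (.leaf 0) (.leaf 0)))))))

def sixVala1 : Janko.Tree (ℕ) :=
  (.node (.node (.node (.node (.node (.node (.node (.leaf 0) (.leaf 0)) (.leaf 0)) (.node (.node (.leaf 2) (.leaf 0)) (.leaf 0))) (.node (.node (.node (.leaf 0) (.leaf 2)) (.leaf 0)) (.node (.node (.leaf 2) (.leaf 0)) (.leaf 0)))) (.node (.node (.node (.node (.leaf 0) (.leaf 0)) (.leaf 0)) (.node (.node (.leaf 0) (.leaf 0)) (.leaf 0))) (.node (.node (.node (.leaf 0) (.leaf 0)) (.leaf 0)) (.node (.leaf 0) (.leaf 1))))) (.node (.node (.node (.node (.node (.leaf 0) (.leaf 0)) (.leaf 0)) (.node (.node (.leaf 0) (.leaf 1)) (.leaf 2))) (.node (.node (.node (.leaf 2) (.leaf 0)) (.leaf 0)) (.node (.leaf 0) (.leaf 1)))) (.node (.node (.node (.node (.leaf 2) (.leaf 0)) (.leaf 0)) (.node (.node (.leaf 0) (.leaf 2)) (.leaf 0))) (.node (.node (.node (.leaf 0) (.leaf 2)) (.leaf 0)) (.node (.leaf 0) (.leaf 2)))))) (.node (.node (.node (.node (.node (.node (.leaf 0) (.leaf 0)) (.leaf 0)) (.node (.node (.leaf 2) (.leaf 2)) (.leaf 0))) (.node (.node (.node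 (.leaf 0) (.leaf 1)) (.leaf 0)) (.node (.node (.leaf 0) (.leaf 1)) (.leaf 2)))) (.node (.node (.node (.node (.leaf 0) (.leaf 0)) (.leaf 0)) (.node (.node (.leaf 0) (.leaf 2)) (.leaf 0))) (.node (.node (.node (.leaf 0) (.leaf 2)) (.leaf 1)) (.node (.leaf 0) (.leaf 1))))) (.node (.node (.node (.node (.node (.leaf 0) (.leaf 0)) (.leaf 0)) (.node (.node (.leaf 0) (.leaf 2)) (.leaf 2))) (.node (.node (.node (.leaf 0) (.leaf 2)) (.leaf 1)) (.node (.leaf 0) (.leaf 2)))) (.node (.node (.node (.node (.leaf 0) (.leaf 0)) (.leaf 0)) (.node (.node (.leaf 2) (.leaf 0)) (.leaf 0))) (.node (.node (.node (.leaf 0) (.leaf 0)) (.leaf 0)) (.node (.leaf 0) (.leaf 0)))))))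

def sixVala2 : Janko.Tree (ℕ) :=
  (.node (.node (.node (.node (.node (.node (.node (.leaf 1) (.leaf 1)) (.leaf 1)) (.node (.node (.leaf 1) (.leaf 1)) (.leaf 0))) (.node (.node (.node (.leaf 0) (.leaf 1)) (.leaf 0)) (.node (.node (.leaf 1) (.leaf 1)) (.leaf 1)))) (.node (.node (.node (.node (.leaf 1) (.leaf 0)) (.leaf 1)) (.node (.node (.leaf 1) (.leaf 0)) (.leaf 0))) (.node (.node (.node (.leaf 0) (.leaf 1)) (.leaf 0)) (.node (.leaf 0) (.leaf 0))))) (.node (.node (.node (.node (.node (.leaf 1) (.leaf 1)) (.leaf 1)) (.node (.node (.leaf 1) (.leaf 0)) (.leaf 1))) (.node (.node (.node (.leaf 1) (.leaf 1)) (.leaf 0)) (.node (.leaf 1) (.leaf 1)))) (.node (.node (.node (.node (.leaf 1) (.leaf 0)) (.leaf 0)) (.node (.node (.leaf 1) (.leaf 1)) (.leaf 1))) (.node (.node (.node (.leaf 1) (.leaf 0)) (.leaf 0)) (.node (.leaf 0) (.leaf 1)))))) (.node (.node (.node (.node (.node (.node (.leaf 0) (.leaf 1)) (.leaf 1)) (.node (.node (.leaf 0) (.leaf 1)) (.leaf 1))) (.node (.node (.node (.leaf 1) (.leaf 0)) (.leaf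 1)) (.node (.node (.leaf 0) (.leaf 1)) (.leaf 0)))) (.node (.node (.node (.node (.leaf 1) (.leaf 1)) (.leaf 0)) (.node (.node (.leaf 1) (.leaf 0)) (.leaf 1))) (.node (.node (.node (.leaf 0) (.leaf 1)) (.leaf 0)) (.node (.leaf 0) (.leaf 1))))) (.node (.node (.node (.node (.node (.leaf 0) (.leaf 1)) (.leaf 1)) (.node (.node (.leaf 1) (.leaf 1)) (.leaf 0))) (.node (.node (.node (.leaf 0) (.leaf 1)) (.leaf 0)) (.node (.leaf 0) (.leaf 0)))) (.node (.node (.node (.node (.leaf 1) (.leaf 0)) (.leaf 0)) (.node (.node (.leaf 1) (.leaf 0)) (.leaf 1))) (.node (.node (.node (.leaf 0) (.leaf 1)) (.leaf 0)) (.node (.leaf 1) (.leaf 1)))))))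

def sixVala3 : Janko.Tree (ℕ) :=
  (.node (.node (.node (.node (.node (.node (.node (.leaf 0) (.leaf 0)) (.leaf 0)) (.node (.node (.leaf 0) (.leaf 0)) (.leaf 2))) (.node (.node (.node (.leaf 0) (.leaf 2)) (.leaf 0)) (.node (.node (.leaf 0) (.leaf 2)) (.leaf 0)))) (.node (.node (.node (.node (.leaf 0) (.leaf 0)) (.leaf 2)) (.node (.node (.leaf 0) (.leaf 2)) (.leaf 0))) (.node (.node (.node (.leaf 2) (.leaf 0)) (.leaf 0)) (.node (.leaf 0) (.leaf 0))))) (.node (.node (.node (.node (.node (.leaf 0) (.leaf 1)) (.leaf 0)) (.node (.node (.leaf 0) (.leaf 1)) (.leaf 0))) (.node (.node (.node (.leaf 0) (.leaf 0)) (.leaf 0)) (.node (.leaf 2) (.leaf 2)))) (.node (.node (.node (.node (.leaf 0) (.leaf 2)) (.leaf 0)) (.node (.node (.leaf 0) (.leaf 2)) (.leaf 0))) (.node (.node (.node (.leaf 2) (.leaf 0)) (.leaf 0)) (.node (.leaf 0) (.leaf 1)))))) (.node (.node (.node (.node (.node (.node (.leaf 0) (.leaf 0)) (.leaf 0)) (.node (.node (.leaf 0) (.leaf 0)) (.leaf 2))) (.node (.node (.node (.leaf 0) (.leaf 2)) (.leaf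 2)) (.node (.node (.leaf 2) (.leaf 1)) (.leaf 2)))) (.node (.node (.node (.node (.leaf 0) (.leaf 0)) (.leaf 0)) (.node (.node (.leaf 2) (.leaf 2)) (.leaf 0))) (.node (.node (.node (.leaf 2) (.leaf 0)) (.leaf 0)) (.node (.leaf 2) (.leaf 2))))) (.node (.node (.node (.node (.node (.leaf 2) (.leaf 0)) (.leaf 0)) (.node (.node (.leaf 0) (.leaf 0)) (.leaf 0))) (.node (.node (.node (.leaf 0) (.leaf 0)) (.leaf 0)) (.node (.leaf 0) (.leaf 1)))) (.node (.node (.node (.node (.leaf 0) (.leaf 2)) (.leaf 0)) (.node (.node (.leaf 0) (.leaf 0)) (.leaf 0))) (.node (.node (.node (.leaf 0) (.leaf 1)) (.leaf 2)) (.node (.leaf 0) (.leaf 0)))))))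

def sixVala4 : Janko.Tree (ℕ) :=
  (.node (.node (.node (.node (.node (.node (.node (.leaf 0) (.leaf 0)) (.leaf 0)) (.node (.node (.leaf 0) (.leaf 1)) (.leaf 1))) (.node (.node (.node (.leaf 1) (.leaf 1)) (.leaf 1)) (.node (.node (.leaf 0) (.leaf 2)) (.leaf 1)))) (.node (.node (.node (.node (.leaf 1) (.leaf 1)) (.leaf 0)) (.node (.node (.leaf 0) (.leaf 1)) (.leaf 1))) (.node (.node (.node (.leaf 1) (.leaf 0)) (.leaf 0)) (.node (.leaf 1) (.leaf 0))))) (.node (.node (.node (.node (.node (.leaf 0) (.leaf 0)) (.leaf 0)) (.node (.node (.leaf 0) (.leaf 0)) (.leaf 1))) (.node (.node (.node (.leaf 0) (.leaf 1)) (.leaf 0)) (.node (.leaf 0) (.leaf 0)))) (.node (.node (.node (.node (.leaf 0) (.leaf 1)) (.leaf 1)) (.node (.node (.leaf 0) (.leaf 1)) (.leaf 0))) (.node (.node (.node (.leaf 0) (.leaf 0)) (.leaf 1)) (.node (.leaf 1) (.leaf 1)))))) (.node (.node (.node (.node (.node (.node (.leaf 1) (.leaf 0)) (.leaf 0)) (.node (.node (.leaf 0) (.leaf 1)) (.leaf 1))) (.node (.node (.node (.leaf 0) (.leaf 1)) (.leaf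 0)) (.node (.node (.leaf 1) (.leaf 2)) (.leaf 1)))) (.node (.node (.node (.node (.leaf 0) (.leaf 1)) (.leaf 0)) (.node (.node (.leaf 0) (.leaf 1)) (.leaf 1))) (.node (.node (.node (.leaf 1) (.leaf 0)) (.leaf 1)) (.node (.leaf 1) (.leaf 0))))) (.node (.node (.node (.node (.node (.leaf 1) (.leaf 0)) (.leaf 0)) (.node (.node (.leaf 0) (.leaf 1)) (.leaf 0))) (.node (.node (.node (.leaf 1) (.leaf 0)) (.leaf 1)) (.node (.leaf 1) (.leaf 0)))) (.node (.node (.node (.node (.leaf 0) (.leaf 1)) (.leaf 1)) (.node (.node (.leaf 0) (.leaf 1)) (.leaf 0))) (.node (.node (.node (.leaf 1) (.leaf 0)) (.leaf 1)) (.node (.leaf 0) (.leaf 1)))))))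

def sixVala5 : Janko.Tree (ℕ) :=
  (.node (.node (.node (.node (.node (.node (.node (.leaf 0) (.leaf 0)) (.leaf 0)) (.node (.node (.leaf 0) (.leaf 0)) (.leaf 0))) (.node (.node (.node (.leaf 2) (.leaf 2)) (.leaf 0)) (.node (.node (.leaf 0) (.leaf 0)) (.leaf 2)))) (.node (.node (.node (.node (.leaf 0) (.leaf 0)) (.leaf 0)) (.node (.node (.leaf 2) (.leaf 1)) (.leaf 0))) (.node (.node (.node (.leaf 0) (.leaf 2)) (.leaf 0)) (.node (.leaf 0) (.leaf 0))))) (.node (.node (.node (.node (.node (.leaf 2) (.leaf 2)) (.leaf 2)) (.node (.node (.leaf 0) (.leaf 0)) (.leaf 0))) (.node (.node (.node (.leaf 2) (.leaf 2)) (.leaf 0)) (.node (.leaf 0) (.leaf 0)))) (.node (.node (.node (.node (.leaf 0) (.leaf 0)) (.leaf 0)) (.node (.node (.leaf 0) (.leaf 2)) (.leaf 2))) (.node (.node (.node (.leaf 0) (.leaf 0)) (.leaf 0)) (.node (.leaf 2) (.leaf 0)))))) (.node (.node (.node (.node (.node (.node (.leaf 0) (.leaf 1)) (.leaf 2)) (.node (.node (.leaf 0) (.leaf 2)) (.leaf 1))) (.node (.node (.node (.leaf 0) (.leaf 2)) (.leaf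 0)) (.node (.node (.leaf 0) (.leaf 0)) (.leaf 2)))) (.node (.node (.node (.node (.leaf 0) (.leaf 2)) (.leaf 0)) (.node (.node (.leaf 0) (.leaf 2)) (.leaf 2))) (.node (.node (.node (.leaf 0) (.leaf 1)) (.leaf 0)) (.node (.leaf 0) (.leaf 0))))) (.node (.node (.node (.node (.node (.leaf 0) (.leaf 2)) (.leaf 2)) (.node (.node (.leaf 2) (.leaf 1)) (.leaf 0))) (.node (.node (.node (.leaf 0) (.leaf 0)) (.leaf 0)) (.node (.leaf 0) (.leaf 2)))) (.node (.node (.node (.node (.leaf 2) (.leaf 0)) (.leaf 0)) (.node (.node (.leaf 0) (.leaf 1)) (.leaf 0))) (.node (.node (.node (.leaf 0) (.leaf 2)) (.leaf 1)) (.node (.leaf 0) (.leaf 2)))))))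

def sixVala6 : Janko.Tree (ℕ) :=
  (.node (.node (.node (.node (.node (.node (.node (.leaf 0) (.leaf 0)) (.leaf 1)) (.node (.node (.leaf 0) (.leaf 1)) (.leaf 0))) (.node (.node (.node (.leaf 0) (.leaf 0)) (.leaf 0)) (.node (.node (.leaf 1) (.leaf 2)) (.leaf 0)))) (.node (.node (.node (.node (.leaf 0) (.leaf 1)) (.leaf 0)) (.node (.node (.leaf 1) (.leaf 1)) (.leaf 1))) (.node (.node (.node (.leaf 0) (.leaf 1)) (.leaf 0)) (.node (.leaf 0) (.leaf 1))))) (.node (.node (.node (.node (.node (.leaf 0) (.leaf 1)) (.leaf 1)) (.node (.node (.leaf 1) (.leaf 1)) (.leaf 0))) (.node (.node (.node (.leaf 1) (.leaf 1)) (.leaf 1)) (.node (.leaf 0) (.leaf 0)))) (.node (.node (.node (.node (.leaf 0) (.leaf 0)) (.leaf 0)) (.node (.node (.leaf 1) (.leaf 1)) (.leaf 1))) (.node (.node (.node (.leaf 0) (.leaf 0)) (.leaf 0)) (.node (.leaf 0) (.leaf 0)))))) (.node (.node (.node (.node (.node (.node (.leaf 0) (.leaf 0)) (.leaf 1)) (.node (.node (.leaf 1) (.leaf 1)) (.leaf 0))) (.node (.node (.node (.leaf 1) (.leaf 1)) (.leaf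 0)) (.node (.node (.leaf 0) (.leaf 2)) (.leaf 0)))) (.node (.node (.node (.node (.leaf 1) (.leaf 1)) (.leaf 1)) (.node (.node (.leaf 0) (.leaf 1)) (.leaf 1))) (.node (.node (.node (.leaf 0) (.leaf 0)) (.leaf 0)) (.node (.leaf 1) (.leaf 1))))) (.node (.node (.node (.node (.node (.leaf 0) (.leaf 1)) (.leaf 1)) (.node (.node (.leaf 1) (.leaf 1)) (.leaf 1))) (.node (.node (.node (.leaf 0) (.leaf 0)) (.leaf 0)) (.node (.leaf 0) (.leaf 1)))) (.node (.node (.node (.node (.leaf 1) (.leaf 1)) (.leaf 0)) (.node (.node (.leaf 1) (.leaf 1)) (.leaf 0))) (.node (.node (.node (.leaf 1) (.leaf 1)) (.leaf 1)) (.node (.leaf 1) (.leaf 1)))))))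

def sixVala7 : Janko.Tree (ℕ) :=
  (.node (.node (.node (.node (.node (.node (.node (.leaf 0) (.leaf 0)) (.leaf 0)) (.node (.node (.leaf 0) (.leaf 0)) (.leaf 0))) (.node (.node (.node (.leaf 0) (.leaf 0)) (.leaf 2)) (.node (.node (.leaf 2) (.leaf 2)) (.leaf 0)))) (.node (.node (.node (.node (.leaf 0) (.leaf 2)) (.leaf 2)) (.node (.node (.leaf 0) (.leaf 2)) (.leaf 0))) (.node (.node (.node (.leaf 0) (.leaf 2)) (.leaf 0)) (.node (.leaf 0) (.leaf 1))))) (.node (.node (.node (.node (.node (.leaf 0) (.leaf 0)) (.leaf 0)) (.node (.node (.leaf 0) (.leaf 2)) (.leaf 0))) (.node (.node (.node (.leaf 0) (.leaf 0)) (.leaf 2)) (.node (.leaf 0) (.leaf 0)))) (.node (.node (.node (.node (.leaf 0) (.leaf 0)) (.leaf 0)) (.node (.node (.leaf 0) (.leaf 2)) (.leaf 0))) (.node (.node (.node (.leaf 2) (.leaf 1)) (.leaf 0)) (.node (.leaf 0) (.leaf 2)))))) (.node (.node (.node (.node (.node (.node (.leaf 0) (.leaf 0)) (.leaf 0)) (.node (.node (.leaf 0) (.leaf 2)) (.leaf 0))) (.node (.node (.node (.leaf 0) (.leaf 2)) (.leaf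 2)) (.node (.node (.leaf 0) (.leaf 0)) (.leaf 0)))) (.node (.node (.node (.node (.leaf 0) (.leaf 2)) (.leaf 2)) (.node (.node (.leaf 2) (.leaf 0)) (.leaf 2))) (.node (.node (.node (.leaf 0) (.leaf 0)) (.leaf 0)) (.node (.leaf 1) (.leaf 0))))) (.node (.node (.node (.node (.node (.leaf 0) (.leaf 1)) (.leaf 0)) (.node (.node (.leaf 0) (.leaf 0)) (.leaf 2))) (.node (.node (.node (.leaf 0) (.leaf 2)) (.leaf 1)) (.node (.leaf 0) (.leaf 0)))) (.node (.node (.node (.node (.leaf 0) (.leaf 2)) (.leaf 2)) (.node (.node (.leaf 0) (.leaf 0)) (.leaf 2))) (.node (.node (.node (.leaf 0) (.leaf 0)) (.leaf 0)) (.node (.leaf 0) (.leaf 2)))))))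

def sixVala : Janko.Tree (ℕ) := (.node (.node (.node sixVala0 sixVala4) (.node sixVala2 sixVala6)) (.node (.node sixVala1 sixVala5) (.node sixVala3 sixVala7)))

theorem six_lefta0 : ((List.range 64).all fun i => CoverCocycle.leftOK sixCert sixVala.get 3 (Nat.add 0 i)) = true := by decide +kernel

theorem six_lefta1 : ((List.range 64).all fun i => CoverCocycle.leftOK sixCert sixVala.get 3 (Nat.add 64 i)) = true := by decide +kernel

theorem six_lefta2 : ((List.range 64).all fun i => CoverCocycle.leftOK sixCert sixVala.get 3 (Nat.add 128 i)) = true := by decide +kernel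

theorem six_lefta3 : ((List.range 64).all fun i => CoverCocycle.leftOK sixCert sixVala.get 3 (Nat.add 192 i)) = true := by decide +kernel

theorem six_lefta4 : ((List.range 64).all fun i => CoverCocycle.leftOK sixCert sixVala.get 3 (Nat.add 256 i)) = true := by decide +kernel

theorem six_lefta5 : ((List.range 40).all fun i => CoverCocycle.leftOK sixCert sixVala.get 3 (Nat.add 320 i)) = true := by decide +kernel

theorem six_lefta : ∀ i < 360, CoverCocycle.leftOK sixCert sixVala.get 3 i = true := by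
  intro i hi
  by_cases h0 : i < 64
  · have := List.all_eq_true.1 six_lefta0 (i - 0) (List.mem_range.2 (by omega)); rwa [show Nat.add 0 (i - 0) = i from Nat.add_sub_cancel' (by omega)] at this
  by_cases h1 : i < 128
  · have := List.all_eq_true.1 six_lefta1 (i - 64) (List.mem_range.2 (by omega)); rwa [show Nat.add 64 (i - 64) = i from Nat.add_sub_cancel' (by omega)] at this
  by_cases h2 : i < 192
  · have := List.all_eq_true.1 six_lefta2 (i - 128) (List.mem_range.2 (by omega)); rwa [show Nat.add 128 (i - 128) = i from Nat.add_sub_cancel' (by omega)] at this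
  by_cases h3 : i < 256
  · have := List.all_eq_true.1 six_lefta3 (i - 192) (List.mem_range.2 (by omega)); rwa [show Nat.add 192 (i - 192) = i from Nat.add_sub_cancel' (by omega)] at this
  by_cases h4 : i < 320
  · have := List.all_eq_true.1 six_lefta4 (i - 256) (List.mem_range.2 (by omega)); rwa [show Nat.add 256 (i - 256) = i from Nat.add_sub_cancel' (by omega)] at this
  have := List.all_eq_true.1 six_lefta5 (i - 320) (List.mem_range.2 (by omega)); rwa [show Nat.add 320 (i - 320) = i from Nat.add_sub_cancel' (by omega)] at this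


theorem six_wda0 : ((List.range 360).all fun i => CoverCocycle.treeOK sixCert sixVala.get 3 (Nat.add 0 i)) = true := by decide +kernel

theorem six_wda : ∀ i < 360, CoverCocycle.treeOK sixCert sixVala.get 3 i = true := by
  intro i hi
  have := List.all_eq_true.1 six_wda0 (i - 0) (List.mem_range.2 (by omega)); rwa [show Nat.add 0 (i - 0) = i from Nat.add_sub_cancel' (by omega)] at this


def sixT : Janko.Tree (ℕ) :=
  (.node (.node (.node (.node (.node (.node (.leaf 984818244535754528103549039458486304) (.leaf 978834770263012195989662174163521568)) (.node (.leaf 983137286299700889388191458496552992) (.leaf 970052513583269163578975966040071200))) (.node (.node (.leaf 960804856804216651825443570166778912) (.leaf 962340932316810989631477807319404576)) (.leaf 974457619806198367130386505822146592))) (.node (.node (.node (.leaf 967963005739716276003870733749209120) (.leaf 962446496410197765584765352864206880)) (.node (.leaf 972564458606537184020091914509767712) (.leaf 978189492764012031978092848029798432)))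 (.node (.node (.leaf 959871748233435518260156358685019168) (.leaf 975357173784030688858924788489069600)) (.leaf 980181017272554896773969598043805728)))) (.node (.node (.node (.node (.leaf 972878353442982355945272500889956384) (.leaf 979414834244990836154640318246017056)) (.node (.leaf 973778232971419645132108199202707488) (.leaf 980498675284944172925629064643987488))) (.node (.node (.leaf 961120219525868594162844022227414048) (.leaf 960013688371602219053265728386084896)) (.leaf 977582175091907015767181765594139680))) (.node (.node (.node (.leaf 965164339131741573065189757186426912) (.leaf 976683758823339465434268235382011936)) (.node (.leaf 981635851695404221423295657969852448) (.leaf 982897549423776366446373605309268000))) (.node (.node (.leaf 959700520506706375111769160837147680) (.leaf 976724934377840558177026773953647648)) (.leaf 964962712522822163995993679966144544))))) (.node (.node (.node (.node (.node (.leaf 982126463649512714436272436299542560) (.leaf 965137679045159069766697846135966752))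 (.node (.leaf 972362943182430986604480312173007904) (.leaf 962210762755832717248946597822342176))) (.node (.node (.leaf 963998932713700088600064065962458144) (.leaf 984719291174203952669309448178938912)) (.leaf 980309837668828678877901104711180320))) (.node (.node (.node (.leaf 964639825600496128754182045082749984) (.leaf 979580102697043078195767158827594784)) (.node (.leaf 973860103325361848103263807150104608) (.leaf 966518086099142732735654559370055712))) (.node (.node (.leaf 976493112344021766931005061865290784) (.leaf 970166657306435287968382068525704224)) (.leaf 975610962234533296455118896623945760)))) (.node (.node (.node (.node (.leaf 967275804955026083722479141249518624) (.leaf 976299081372053436616390857229666336)) (.node (.leaf 983016615965756284295240189169026080) (.leaf 960706021100889568500574925590501408))) (.node (.node (.leaf 976692208925428354250192751795711008) (.leaf 960024372987085142161145682400384032)) (.leaf 963914667063740011688129051633040416))) (.node (.node (.node (.leaf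 963265365656939138026900740039617568) (.leaf 969136973475804685231201563209783328)) (.node (.leaf 980714263665590709861814830310283296) (.leaf 984271594459173906510283084787199008))) (.node (.node (.leaf 968871819868887755116613862640768032) (.leaf 974013386419330510718589003259949088)) (.leaf 964984574036370079491354211769586720))))))

def sixTPar : Janko.Tree (ℕ) :=
  (.node (.node (.node (.node (.node (.node (.leaf 0) (.leaf 288)) (.node (.leaf 113) (.leaf 593))) (.node (.node (.leaf 49) (.leaf 448)) (.leaf 208))) (.node (.node (.node (.leaf 17) (.leaf 368)) (.node (.leaf 160) (.leaf 705))) (.node (.node (.leaf 81) (.leaf 512)) (.leaf 256)))) (.node (.node (.node (.node (.leaf 1) (.leaf 336)) (.node (.leaf 129) (.leaf 673))) (.node (.node (.leaf 65) (.leaf 481)) (.leaf 240))) (.node (.node (.node (.leaf 33) (.leaf 385)) (.node (.leaf 177) (.leaf 768))) (.node (.node (.leaf 97) (.leaf 528)) (.leaf 272))))) (.node (.node (.node (.node (.node (.leaf 0) (.leaf 320)) (.node (.leaf 128) (.leaf 641)))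 (.node (.node (.leaf 64) (.leaf 449)) (.leaf 225))) (.node (.node (.node (.leaf 32) (.leaf 384)) (.node (.leaf 161) (.leaf 721))) (.node (.node (.leaf 96) (.leaf 513)) (.leaf 257)))) (.node (.node (.node (.node (.leaf 16) (.leaf 337)) (.node (.leaf 145) (.leaf 704))) (.node (.node (.leaf 80) (.leaf 497)) (.leaf 241))) (.node (.node (.node (.leaf 48) (.leaf 417)) (.node (.leaf 193) (.leaf 801))) (.node (.node (.leaf 112) (.leaf 560)) (.leaf 273))))))

theorem six_T0 : ((List.range 56).all fun i => treeT gensX sixT sixTPar (Nat.add 0 i)) = true := by decide +kernel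

theorem six_T : ∀ i < 56, treeT gensX sixT sixTPar i = true := by
  intro i hi
  have := List.all_eq_true.1 six_T0 (i - 0) (List.mem_range.2 (by omega)); rwa [show Nat.add 0 (i - 0) = i from Nat.add_sub_cancel' (by omega)] at this


def sixMvX0 : Janko.Tree (ℕ) :=
  (.node (.node (.node (.node (.node (.node (.leaf 1024) (.leaf 45056)) (.node (.leaf 28672) (.leaf 55296))) (.node (.node (.leaf 17408) (.leaf 46180)) (.leaf 37888))) (.node (.node (.node (.leaf 9216) (.leaf 44370)) (.node (.leaf 33792) (.leaf 51263))) (.node (.node (.leaf 16420) (.leaf 52224)) (.leaf 40960)))) (.node (.node (.node (.node (.leaf 5120) (.leaf 43279)) (.node (.leaf 32768) (.leaf 12331))) (.node (.node (.leaf 20480) (.leaf 39149)) (.leaf 29732))) (.node (.node (.node (.leaf 13312) (.leaf 2332)) (.node (.leaf 10355) (.leaf 50383))) (.node (.node (.leaf 4100) (.leaf 54318)) (.leaf 6377))))) (.node (.node (.node (.node (.node (.leaf 3072) (.leaf 47104)) (.node (.leaf 30720) (.leaf 23864))) (.node (.node (.leaf 18652) (.leaf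 19469)) (.leaf 27812))) (.node (.node (.node (.leaf 11264) (.leaf 8479)) (.node (.leaf 34816) (.leaf 56535))) (.node (.node (.leaf 24576) (.leaf 53476)) (.leaf 107)))) (.node (.node (.node (.node (.leaf 7168) (.leaf 48128)) (.node (.leaf 25600) (.leaf 14538))) (.node (.node (.leaf 21707) (.leaf 40009)) (.leaf 31829))) (.node (.node (.node (.leaf 15360) (.leaf 49165)) (.node (.leaf 36864) (.leaf 22784))) (.node (.node (.leaf 26624) (.leaf 42228)) (.leaf 35840))))))

theorem six_mvX00 : ((List.range 56).all fun i => movesOK sixCert sixT 56 982126463649512714436272436299542560 sixMvX0 (Nat.add 0 i)) = true := by decide +kernel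

theorem six_mvX0 : ∀ i < 56, movesOK sixCert sixT 56 982126463649512714436272436299542560 sixMvX0 i = true := by
  intro i hi
  have := List.all_eq_true.1 six_mvX00 (i - 0) (List.mem_range.2 (by omega)); rwa [show Nat.add 0 (i - 0) = i from Nat.add_sub_cancel' (by omega)] at this


def sixMvX1 : Janko.Tree (ℕ) :=
  (.node (.node (.node (.node (.node (.node (.leaf 2048) (.leaf 46080)) (.node (.leaf 29696) (.leaf 55622))) (.node (.node (.leaf 18432) (.leaf 50176)) (.leaf 38912))) (.node (.node (.node (.leaf 10240) (.leaf 35154)) (.node (.leaf 30911) (.leaf 38088))) (.node (.node (.leaf 23552) (.leaf 53248)) (.leaf 41984)))) (.node (.node (.node (.node (.leaf 6144) (.leaf 5178)) (.node (.leaf 9229) (.leaf 56320))) (.node (.node (.leaf 21504) (.leaf 51200)) (.leaf 39936))) (.node (.node (.node (.leaf 14336) (.leaf 48412)) (.node (.leaf 32955) (.leaf 45358))) (.node (.node (.leaf 25600) (.leaf 52465)) (.leaf 43008))))) (.node (.node (.node (.node (.node (.leaf 4096) (.leaf 41055)) (.node (.leaf 31744)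 (.leaf 15508))) (.node (.node (.leaf 19456) (.leaf 17670)) (.leaf 0))) (.node (.node (.node (.leaf 12288) (.leaf 49152)) (.node (.leaf 35840) (.leaf 11457))) (.node (.node (.leaf 13440) (.leaf 54272)) (.leaf 26787)))) (.node (.node (.node (.node (.leaf 8192) (.leaf 1024)) (.node (.leaf 3076) (.leaf 24862))) (.node (.node (.leaf 22528) (.leaf 28991)) (.leaf 33947))) (.node (.node (.node (.leaf 16384) (.leaf 7359)) (.node (.leaf 37035) (.leaf 20643))) (.node (.node (.leaf 27648) (.leaf 47335)) (.leaf 44032))))))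

theorem six_mvX10 : ((List.range 56).all fun i => movesOK sixCert sixT 56 972878353442982355945272500889956384 sixMvX1 (Nat.add 0 i)) = true := by decide +kernel

theorem six_mvX1 : ∀ i < 56, movesOK sixCert sixT 56 972878353442982355945272500889956384 sixMvX1 i = true := by
  intro i hi
  have := List.all_eq_true.1 six_mvX10 (i - 0) (List.mem_range.2 (by omega)); rwa [show Nat.add 0 (i - 0) = i from Nat.add_sub_cancel' (by omega)] at this


def sixMv0 : Janko.Tree (ℕ) :=
  (.node (.node (.node (.node (.node (.node (.leaf 108) (.leaf 47115)) (.node (.leaf 34004) (.leaf 50214))) (.node (.node (.leaf 21862) (.leaf 42343)) (.leaf 14546))) (.node (.node (.node (.leaf 9394) (.leaf 4363)) (.node (.leaf 30790) (.leaf 23808))) (.node (.node (.leaf 38940) (.leaf 6484)) (.leaf 32773)))) (.node (.node (.node (.node (.leaf 35008) (.leaf 17655)) (.node (.leaf 56343) (.leaf 7344))) (.node (.node (.leaf 13661) (.leaf 19793)) (.leaf 18585))) (.node (.node (.node (.leaf 38021) (.leaf 54388)) (.node (.leaf 55611)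 (.leaf 11510))) (.node (.node (.leaf 25750) (.leaf 28709)) (.leaf 27923))))) (.node (.node (.node (.node (.node (.leaf 53483) (.leaf 46104)) (.node (.leaf 2238) (.leaf 5183))) (.node (.node (.leaf 37069) (.leaf 3323)) (.leaf 24905))) (.node (.node (.node (.leaf 49361) (.leaf 45136)) (.node (.leaf 48252) (.leaf 12482))) (.node (.node (.leaf 39977) (.leaf 16568)) (.leaf 29982)))) (.node (.node (.node (.node (.leaf 41174) (.leaf 51499)) (.node (.leaf 15504) (.leaf 31814))) (.node (.node (.leaf 22561) (.leaf 52314)) (.leaf 20547))) (.node (.node (.node (.leaf 35922) (.leaf 10408)) (.node (.leaf 1039) (.leaf 26691))) (.node (.node (.leaf 43303) (.leaf 8541)) (.leaf 44293))))))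

theorem six_mv00 : ((List.range 56).all fun i => movesOK sixCert sixT 56 (sixElt.get 108) sixMv0 (Nat.add 0 i)) = true := by decide +kernel

theorem six_mv0 : ∀ i < 56, movesOK sixCert sixT 56 (sixElt.get 108) sixMv0 i = true := by
  intro i hi
  have := List.all_eq_true.1 six_mv00 (i - 0) (List.mem_range.2 (by omega)); rwa [show Nat.add 0 (i - 0) = i from Nat.add_sub_cancel' (by omega)] at this


def sixMv1 : Janko.Tree (ℕ) :=
  (.node (.node (.node (.node (.node (.node (.leaf 306) (.leaf 22690)) (.node (.leaf 56451) (.leaf 46335))) (.node (.node (.leaf 17419) (.leaf 19535)) (.leaf 41145))) (.node (.node (.node (.leaf 37995) (.leaf 6444)) (.node (.leaf 9288) (.leaf 47306))) (.node (.node (.leaf 52427) (.leaf 20528)) (.leaf 11544)))) (.node (.node (.node (.node (.leaf 10286) (.leaf 13571)) (.node (.leaf 49369) (.leaf 39008))) (.node (.node (.leaf 21543) (.leaf 25850)) (.leaf 5379))) (.node (.node (.node (.leaf 30930) (.leaf 32016)) (.node (.leaf 1324) (.leaf 53515))) (.node (.node (.leaf 42003)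 (.leaf 55302)) (.leaf 36956))))) (.node (.node (.node (.node (.node (.leaf 33126) (.leaf 26848)) (.node (.leaf 40218) (.leaf 16694))) (.node (.node (.leaf 45325) (.leaf 15425)) (.leaf 3100))) (.node (.node (.node (.leaf 33840) (.leaf 27957)) (.node (.leaf 2092) (.leaf 44047))) (.node (.node (.leaf 48223) (.leaf 18525)) (.leaf 29807)))) (.node (.node (.node (.node (.leaf 43209) (.leaf 12390)) (.node (.leaf 24879) (.leaf 35981))) (.node (.node (.leaf 23836) (.leaf 7230)) (.leaf 4446))) (.node (.node (.node (.leaf 54472) (.leaf 8419)) (.node (.leaf 28774) (.leaf 50284))) (.node (.node (.leaf 14367) (.leaf 34869)) (.leaf 51408))))))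

theorem six_mv10 : ((List.range 56).all fun i => movesOK sixCert sixT 56 (sixElt.get 306) sixMv1 (Nat.add 0 i)) = true := by decide +kernel

theorem six_mv1 : ∀ i < 56, movesOK sixCert sixT 56 (sixElt.get 306) sixMv1 i = true := by
  intro i hi
  have := List.all_eq_true.1 six_mv10 (i - 0) (List.mem_range.2 (by omega)); rwa [show Nat.add 0 (i - 0) = i from Nat.add_sub_cancel' (by omega)] at this


theorem six_comm : CoverCocycle.mI sixCert 108 306 = CoverCocycle.mI sixCert 306 108 := by decide +kernel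

theorem six_value0a : ((CoverTable.evalSum sixCert sixVala.get 56 (fun j => sixMv0.get j % 1024) (fun j => sixMv1.get j / 1024) (fun j => sixMv1.get j % 1024) : ℕ) : ZMod 3) - ((CoverTable.evalSum sixCert sixVala.get 56 (fun j => sixMv1.get j % 1024) (fun j => sixMv0.get j / 1024) (fun j => sixMv0.get j % 1024) : ℕ) : ZMod 3) = 2 := by
  decide +kernel

end Cfsg.Agent.Lie.LThreeFourMult
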