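import Cfsg.Agent.Lib.Lie.GolayCover

/-!
A central table on a Sylow 3-subgroup of the linear group of degree three over four elements (generated).
-/

set_option autoImplicit false
set_option maxRecDepth 100000
set_option maxHeartbeats 0
set_option Elab.async false

namespace Cfsg.Agent.Lie.LThreeFourMult

open Cfsg.Agent.Lie GolayCover

/-- generators of the subgroup -/
def threeGens : List (ℕ × ℕ) := [(979037747421335847153138073498388512, 968621477650857569167789942210922528),
  (968575168394869326011110945874086944, 979212049425701338101385107598298144)]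

def threeElt : Janko.Tree (ℕ) :=
  (.node (.node (.node (.node (.leaf 984818244535754528103549039458486304) (.leaf 984108993628445061788276343009528864)) (.leaf 984515870019919856138034001319922720)) (.node (.leaf 968575168394869326011110945874086944) (.leaf 979464272824142220131700187718061088))) (.node (.node (.leaf 979037747421335847153138073498388512) (.leaf 979212049425701338101385107598298144)) (.node (.leaf 968621477650857569167789942210922528) (.leaf 969196357470335120158413881093475360))))

def threeNext : Janko.Tree (ℕ) :=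
  (.node (.node (.node (.node (.node (.leaf 1) (.leaf 5)) (.leaf 6)) (.node (.leaf 4) (.leaf 2))) (.node (.node (.leaf 3) (.leaf 7)) (.node (.leaf 0) (.leaf 8)))) (.node (.node (.node (.node (.leaf 2) (.leaf 3)) (.leaf 7)) (.node (.leaf 5) (.leaf 8))) (.node (.node (.leaf 4) (.leaf 0)) (.node (.leaf 6) (.leaf 1)))))

def threeWord : Janko.Tree (ℕ) :=
  (.node (.node (.node (.node (.leaf 1) (.leaf 65553)) (.leaf 257)) (.node (.leaf 17) (.leaf 4097))) (.node (.node (.leaf 16) (.leaf 273)) (.node (.leaf 256) (.leaf 4113))))

def threePar : Janko.Tree (ℕ) :=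
  (.node (.node (.node (.node (.leaf 0) (.leaf 97)) (.leaf 17)) (.node (.leaf 1) (.leaf 49))) (.node (.node (.leaf 0) (.leaf 33)) (.node (.leaf 16) (.leaf 65))))

def threeL : Janko.Tree (List ℤ) :=
  (.node (.node (.node (.node (.node (.leaf []) (.leaf [-1, -2, 2])) (.leaf [-1, -1, 1])) (.node (.node (.leaf [-1, -1, 1]) (.leaf [0, 0, 1])) (.leaf [0, -1, 1]))) (.node (.node (.node (.leaf []) (.leaf [1, 0, 0])) (.leaf [1, 1, -1])) (.node (.leaf [1]) (.leaf [1, 1, -1])))) (.node (.node (.node (.node (.leaf []) (.leaf [0, 1])) (.leaf [])) (.node (.node (.leaf []) (.leaf [-1, -1, 2])) (.leaf []))) (.node (.node (.node (.leaf []) (.leaf [0, 1, 0])) (.leaf [0, 1])) (.node (.leaf []) (.leaf [0, 1])))))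

def threeKind : Janko.Tree (ℕ) :=
  (.node (.node (.node (.node (.node (.leaf 0) (.leaf 3)) (.leaf 3)) (.node (.node (.leaf 3) (.leaf 2)) (.leaf 3))) (.node (.node (.node (.leaf 0) (.leaf 2)) (.leaf 3)) (.node (.leaf 3) (.leaf 3)))) (.node (.node (.node (.node (.leaf 0) (.leaf 3)) (.leaf 0)) (.node (.node (.leaf 0) (.leaf 3)) (.leaf 0))) (.node (.node (.node (.leaf 0) (.leaf 2)) (.leaf 3)) (.node (.leaf 0) (.leaf 3)))))

def threeRank : Janko.Tree (ℕ) :=
  (.node (.node (.node (.node (.node (.leaf 0) (.leaf 20)) (.leaf 15)) (.node (.node (.leaf 16) (.leaf 14)) (.leaf 18))) (.node (.node (.node (.leaf 2) (.leaf 8)) (.leaf 21)) (.node (.leaf 9) (.leaf 19)))) (.node (.node (.node (.node (.leaf 1) (.leaf 11)) (.leaf 6)) (.node (.node (.leaf 4) (.leaf 17)) (.leaf 7))) (.node (.node (.node (.leaf 3) (.leaf 10)) (.leaf 13)) (.node (.leaf 5) (.leaf 12)))))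

def threeVia : Janko.Tree (ℕ × ℕ) :=
  (.node (.node (.node (.node (.node (.leaf (0, 0)) (.leaf (3, 7))) (.leaf (2, 3))) (.node (.node (.leaf (2, 1)) (.leaf (2, 0))) (.leaf (3, 6)))) (.node (.node (.node (.leaf (0, 0)) (.leaf (0, 0))) (.leaf (3, 8))) (.node (.leaf (0, 3)) (.leaf (2, 6))))) (.node (.node (.node (.node (.leaf (0, 0)) (.leaf (1, 8))) (.leaf (0, 0))) (.node (.node (.leaf (0, 0)) (.leaf (3, 2))) (.leaf (0, 0)))) (.node (.node (.node (.leaf (0, 0)) (.leaf (1, 0))) (.leaf (1, 5))) (.node (.leaf (0, 0)) (.leaf (1, 7))))))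

def threeOrd : Janko.Tree (ℕ) :=
  (.node (.node (.node (.node (.leaf 2) (.leaf 0)) (.leaf 5)) (.node (.leaf 7) (.leaf 8))) (.node (.node (.leaf 3) (.leaf 6)) (.node (.leaf 1) (.leaf 4))))

def threeRels : List (List ℕ) := [[0, 0, 0],
  [1, 1, 1],
  [0, 0, 1, 0, 1, 1],
  [0, 0, 1, 1, 0, 1]]

/-- the certificate -/
def threeCert : CentralLocal.Cert :=
  { act := actP threeGens, one := idP, N := 9, k := 2, q := 0, rels := threeRels, P := 3,
    elt := threeElt, next := threeNext, word := threeWord, par := threePar, L := threeL, kind := threeKind, rank := threeRank,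
    via := threeVia, pv := [18, 19, 20] }

theorem three_edges0 : ((List.range 9).all fun i => threeCert.edgeCheck (Nat.add 0 i)) = true := by decide +kernel

theorem three_edges : ∀ i < 9, threeCert.edgeCheck i = true := by
  intro i hi
  have := List.all_eq_true.1 three_edges0 (i - 0) (List.mem_range.2 (by omega)); rwa [show Nat.add 0 (i - 0) = i from Nat.add_sub_cancel' (by omega)] at this


theorem three_tree0 : ((List.range 9).all fun i => threeCert.treeCheck (Nat.add 0 i)) = true := by decide +kernel

theorem three_tree : ∀ i < 9, threeCert.treeCheck i = true := by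
  intro i hi
  have := List.all_eq_true.1 three_tree0 (i - 0) (List.mem_range.2 (by omega)); rwa [show Nat.add 0 (i - 0) = i from Nat.add_sub_cancel' (by omega)] at this


theorem three_vars0 : ((List.range 22).all fun i => threeCert.varCheck (Nat.add 0 i)) = true := by decide +kernel

theorem three_vars : ∀ i < 22, threeCert.varCheck i = true := by
  intro i hi
  have := List.all_eq_true.1 three_vars0 (i - 0) (List.mem_range.2 (by omega)); rwa [show Nat.add 0 (i - 0) = i from Nat.add_sub_cancel' (by omega)] at this


theorem three_ord0 : ((List.range 9).all fun i => threeCert.ordCheck threeOrd (Nat.add 0 i)) = true := by decide +kernel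

theorem three_ord : ∀ i < 9, threeCert.ordCheck threeOrd i = true := by
  intro i hi
  have := List.all_eq_true.1 three_ord0 (i - 0) (List.mem_range.2 (by omega)); rwa [show Nat.add 0 (i - 0) = i from Nat.add_sub_cancel' (by omega)] at this


theorem three_rels : (threeCert.rels.all fun w => threeCert.relCheck w) = true := by decide +kernel

theorem three_valid : threeCert.Valid where
  npos := Nat.succ_pos _
  kpos := Nat.succ_pos _
  edges := three_edges
  tree := three_tree
  rels := List.all_eq_true.1 three_rels
  vars := three_vars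

/-- the lattice -/
def threeLat : CentralBound.Lat :=
  { basis := [[-1, -1, 1]],
    compl := [[1, 0, 0], [0, 1, 0]],
    counts := [[3, 0], [0, 3]],
    piv := [0, 1],
    coord := [([0], [1, 0]),
      ([0], [0, 1]),
      ([1], [1, 1])],
    gens := [[-1, -1, 1]],
    ord := [3],
    red := [([1], ([], []), [0])],
    kill := [(([], [(1, (0, 2))]), [0])] }

/-- conjugate commuting pairs -/
def threeSpecs : List Spec := []

theorem three_gens : threeGens.all (memOK [23, 0, 1]) = true ∧ threeSpecs.all (specOK [23, 0, 1] threeCert threeGens) = true := by decide +kernel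

theorem three_lat : CentralBound.latOK threeCert (threeSpecs.map extOf) (3 ^ 2) threeLat = true := by decide +kernel

end Cfsg.Agent.Lie.LThreeFourMult
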