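import Cfsg.Agent.Lib.Lie.LThreeFourMult.Two
import Cfsg.Agent.Lib.Lie.LThreeFourMult.Gens

/-!
Cocycles and cosets for the part at 2 of the covering of the linear group of degree three over four elements (generated).
-/

set_option autoImplicit false
set_option maxRecDepth 100000
set_option maxHeartbeats 0
set_option Elab.async false

namespace Cfsg.Agent.Lie.LThreeFourMult

open Cfsg.Agent.Lie GolayCover

def twoVala0 : Janko.Tree (ℕ) :=
  (.node (.node (.node (.node (.node (.node (.node (.leaf 0) (.leaf 1)) (.node (.leaf 0) (.leaf 0))) (.node (.node (.leaf 3) (.leaf 2)) (.node (.leaf 2) (.leaf 3)))) (.node (.node (.node (.leaf 0) (.leaf 2)) (.node (.leaf 0) (.leaf 2))) (.node (.node (.leaf 0) (.leaf 0)) (.node (.leaf 3) (.leaf 0))))) (.node (.node (.node (.node (.leaf 0) (.leaf 2)) (.node (.leaf 1) (.leaf 2))) (.node (.node (.leaf 2) (.leaf 1)) (.node (.leaf 2) (.leaf 2)))) (.node (.node (.node (.leaf 0) (.leaf 2)) (.node (.leaf 3) (.leaf 3))) (.node (.node (.leaf 0) (.leaf 2)) (.node (.leaf 1) (.leaf 2)))))) (.node (.node (.node (.node (.node (.leaf 0) (.leaf 0)) (.node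 (.leaf 0) (.leaf 1))) (.node (.node (.leaf 2) (.leaf 2)) (.node (.leaf 0) (.leaf 3)))) (.node (.node (.node (.leaf 0) (.leaf 3)) (.node (.leaf 0) (.leaf 1))) (.node (.node (.leaf 2) (.leaf 2)) (.node (.leaf 2) (.leaf 0))))) (.node (.node (.node (.node (.leaf 0) (.leaf 2)) (.node (.leaf 2) (.leaf 0))) (.node (.node (.leaf 0) (.leaf 0)) (.node (.leaf 0) (.leaf 0)))) (.node (.node (.node (.leaf 0) (.leaf 0)) (.node (.leaf 2) (.leaf 3))) (.node (.node (.leaf 3) (.leaf 2)) (.node (.leaf 0) (.leaf 1))))))) (.node (.node (.node (.node (.node (.node (.leaf 0) (.leaf 0)) (.node (.leaf 0) (.leaf 0))) (.node (.node (.leaf 0) (.leaf 1)) (.node (.leaf 0) (.leaf 0)))) (.node (.node (.node (.leaf 0) (.leaf 0)) (.node (.leaf 0) (.leaf 0))) (.node (.node (.leaf 0) (.leaf 0)) (.node (.leaf 0) (.leaf 0))))) (.node (.node (.node (.node (.leaf 0) (.leaf 3)) (.node (.leaf 0) (.leaf 1))) (.node (.node (.leaf 0) (.leaf 3)) (.node (.leaf 0) (.leaf 3)))) (.node (.node (.node (.leaf 0) (.leaf 0)) (.node (.leaf 0) (.leaf 3))) (.node (.node (.leaf 0) (.leaf 0)) (.node (.leaf 0) (.leaf 0)))))) (.node (.node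 (.node (.node (.node (.leaf 0) (.leaf 0)) (.node (.leaf 0) (.leaf 0))) (.node (.node (.leaf 0) (.leaf 3)) (.node (.leaf 0) (.leaf 3)))) (.node (.node (.node (.leaf 0) (.leaf 3)) (.node (.leaf 0) (.leaf 0))) (.node (.node (.leaf 2) (.leaf 1)) (.node (.leaf 0) (.leaf 1))))) (.node (.node (.node (.node (.leaf 0) (.leaf 1)) (.node (.leaf 2) (.leaf 0))) (.node (.node (.leaf 0) (.leaf 0)) (.node (.leaf 0) (.leaf 1)))) (.node (.node (.node (.leaf 0) (.leaf 0)) (.node (.leaf 0) (.leaf 0))) (.node (.node (.leaf 0) (.leaf 1)) (.node (.leaf 0) (.leaf 0))))))))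

def twoVala1 : Janko.Tree (ℕ) :=
  (.node (.node (.node (.node (.node (.node (.node (.leaf 0) (.leaf 0)) (.node (.leaf 1) (.leaf 3))) (.node (.node (.leaf 0) (.leaf 1)) (.node (.leaf 2) (.leaf 0)))) (.node (.node (.node (.leaf 0) (.leaf 1)) (.node (.leaf 0) (.leaf 0))) (.node (.node (.leaf 3) (.leaf 0)) (.node (.leaf 0) (.leaf 0))))) (.node (.node (.node (.node (.leaf 0) (.leaf 3)) (.node (.leaf 0) (.leaf 0))) (.node (.node (.leaf 2) (.leaf 3)) (.node (.leaf 2) (.leaf 3)))) (.node (.node (.node (.leaf 0) (.leaf 0)) (.node (.leaf 0) (.leaf 2))) (.node (.node (.leaf 2) (.leaf 0)) (.node (.leaf 0) (.leaf 2)))))) (.node (.node (.node (.node (.node (.leaf 0) (.leaf 1)) (.node (.leaf 0) (.leaf 1))) (.node (.node (.leaf 2) (.leaf 2)) (.node (.leaf 0) (.leaf 2)))) (.node (.node (.node (.leaf 0) (.leaf 3)) (.node (.leaf 0) (.leaf 1))) (.node (.node (.leaf 0) (.leaf 2)) (.node (.leaf 0) (.leaf 0))))) (.node (.node (.node (.node (.leaf 0) (.leaf 1)) (.node (.leaf 0) (.leaf 1))) (.node (.node (.leaf 0) (.leaf 0)) (.node (.leaf 2) (.leaf 2)))) (.node (.node (.node (.leaf 0) (.leaf 2))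 (.node (.leaf 0) (.leaf 3))) (.node (.node (.leaf 0) (.leaf 1)) (.node (.leaf 1) (.leaf 3))))))) (.node (.node (.node (.node (.node (.node (.leaf 0) (.leaf 2)) (.node (.leaf 2) (.leaf 1))) (.node (.node (.leaf 3) (.leaf 3)) (.node (.leaf 0) (.leaf 0)))) (.node (.node (.node (.leaf 3) (.leaf 3)) (.node (.leaf 0) (.leaf 2))) (.node (.node (.leaf 1) (.leaf 1)) (.node (.leaf 3) (.leaf 3))))) (.node (.node (.node (.node (.leaf 0) (.leaf 3)) (.node (.leaf 0) (.leaf 0))) (.node (.node (.leaf 0) (.leaf 1)) (.node (.leaf 1) (.leaf 0)))) (.node (.node (.node (.leaf 0) (.leaf 0)) (.node (.leaf 1) (.leaf 3))) (.node (.node (.leaf 0) (.leaf 1)) (.node (.leaf 0) (.leaf 1)))))) (.node (.node (.node (.node (.node (.leaf 0) (.leaf 3)) (.node (.leaf 0) (.leaf 3))) (.node (.node (.leaf 1) (.leaf 0)) (.node (.leaf 0) (.leaf 0)))) (.node (.node (.node (.leaf 0) (.leaf 1)) (.node (.leaf 0) (.leaf 3))) (.node (.node (.leaf 0) (.leaf 0)) (.node (.leaf 0) (.leaf 1))))) (.node (.node (.node (.node (.leaf 0) (.leaf 2)) (.node (.leaf 3) (.leaf 1))) (.node (.node (.leaf 0) (.leaf 0)) (.node (.leaf 0)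 (.leaf 0)))) (.node (.node (.node (.leaf 0) (.leaf 2)) (.node (.leaf 1) (.leaf 1))) (.node (.node (.leaf 1) (.leaf 3)) (.node (.leaf 3) (.leaf 1))))))))

def twoVala : Janko.Tree (ℕ) := (.node twoVala0 twoVala1)

theorem two_lefta0 : ((List.range 64).all fun i => CoverCocycle.leftOK twoCert twoVala.get 4 (Nat.add 0 i)) = true := by decide +kernel

theorem two_lefta : ∀ i < 64, CoverCocycle.leftOK twoCert twoVala.get 4 i = true := by
  intro i hi
  have := List.all_eq_true.1 two_lefta0 (i - 0) (List.mem_range.2 (by omega)); rwa [show Nat.add 0 (i - 0) = i from Nat.add_sub_cancel' (by omega)] at this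


theorem two_wda0 : ((List.range 64).all fun i => CoverCocycle.treeOK twoCert twoVala.get 4 (Nat.add 0 i)) = true := by decide +kernel

theorem two_wda : ∀ i < 64, CoverCocycle.treeOK twoCert twoVala.get 4 i = true := by
  intro i hi
  have := List.all_eq_true.1 two_wda0 (i - 0) (List.mem_range.2 (by omega)); rwa [show Nat.add 0 (i - 0) = i from Nat.add_sub_cancel' (by omega)] at this


def twoValb0 : Janko.Tree (ℕ) :=
  (.node (.node (.node (.node (.node (.node (.node (.leaf 0) (.leaf 3)) (.node (.leaf 0) (.leaf 0))) (.node (.node (.leaf 0) (.leaf 2)) (.node (.leaf 0) (.leaf 0)))) (.node (.node (.node (.leaf 0) (.leaf 3)) (.node (.leaf 0) (.leaf 0))) (.node (.node (.leaf 0) (.leaf 2)) (.node (.leaf 0) (.leaf 2))))) (.node (.node (.node (.node (.leaf 0) (.leaf 1)) (.node (.leaf 0) (.leaf 3))) (.node (.node (.leaf 0) (.leaf 1)) (.node (.leaf 3) (.leaf 0)))) (.node (.node (.node (.leaf 0) (.leaf 3)) (.node (.leaf 0) (.leaf 0))) (.node (.node (.leaf 0) (.leaf 2)) (.node (.leaf 0) (.leaf 2)))))) (.node (.node (.node (.node (.node (.leaf 0) (.leaf 0)) (.node (.leaf 0) (.leaf 0)))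 (.node (.node (.leaf 2) (.leaf 1)) (.node (.leaf 2) (.leaf 2)))) (.node (.node (.node (.leaf 0) (.leaf 0)) (.node (.leaf 0) (.leaf 0))) (.node (.node (.leaf 0) (.leaf 0)) (.node (.leaf 3) (.leaf 0))))) (.node (.node (.node (.node (.leaf 0) (.leaf 2)) (.node (.leaf 0) (.leaf 0))) (.node (.node (.leaf 2) (.leaf 0)) (.node (.leaf 0) (.leaf 0)))) (.node (.node (.node (.leaf 0) (.leaf 0)) (.node (.leaf 2) (.leaf 2))) (.node (.node (.leaf 0) (.leaf 3)) (.node (.leaf 0) (.leaf 0))))))) (.node (.node (.node (.node (.node (.node (.leaf 0) (.leaf 0)) (.node (.leaf 0) (.leaf 0))) (.node (.node (.leaf 0) (.leaf 0)) (.node (.leaf 0) (.leaf 2)))) (.node (.node (.node (.leaf 0) (.leaf 0)) (.node (.leaf 0) (.leaf 0))) (.node (.node (.leaf 0) (.leaf 0)) (.node (.leaf 3) (.leaf 0))))) (.node (.node (.node (.node (.leaf 0) (.leaf 3)) (.node (.leaf 0) (.leaf 1))) (.node (.node (.leaf 0) (.leaf 1)) (.node (.leaf 0) (.leaf 1)))) (.node (.node (.node (.leaf 0) (.leaf 2)) (.node (.leaf 0) (.leaf 0))) (.node (.node (.leaf 0) (.leaf 0)) (.node (.leaf 0) (.leaf 0)))))) (.node (.node (.node (.node (.node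 (.leaf 0) (.leaf 1)) (.node (.leaf 2) (.leaf 3))) (.node (.node (.leaf 0) (.leaf 3)) (.node (.leaf 0) (.leaf 0)))) (.node (.node (.node (.leaf 0) (.leaf 3)) (.node (.leaf 0) (.leaf 1))) (.node (.node (.leaf 0) (.leaf 3)) (.node (.leaf 2) (.leaf 3))))) (.node (.node (.node (.node (.leaf 0) (.leaf 0)) (.node (.leaf 0) (.leaf 0))) (.node (.node (.leaf 0) (.leaf 0)) (.node (.leaf 0) (.leaf 1)))) (.node (.node (.node (.leaf 0) (.leaf 0)) (.node (.leaf 0) (.leaf 0))) (.node (.node (.leaf 3) (.leaf 1)) (.node (.leaf 0) (.leaf 1))))))))

def twoValb1 : Janko.Tree (ℕ) :=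
  (.node (.node (.node (.node (.node (.node (.node (.leaf 0) (.leaf 1)) (.node (.leaf 1) (.leaf 1))) (.node (.node (.leaf 0) (.leaf 1)) (.node (.leaf 3) (.leaf 3)))) (.node (.node (.node (.leaf 0) (.leaf 2)) (.node (.leaf 0) (.leaf 1))) (.node (.node (.leaf 2) (.leaf 1)) (.node (.leaf 0) (.leaf 1))))) (.node (.node (.node (.node (.leaf 0) (.leaf 0)) (.node (.leaf 0) (.leaf 2))) (.node (.node (.leaf 3) (.leaf 2)) (.node (.leaf 2) (.leaf 2)))) (.node (.node (.node (.leaf 0) (.leaf 3)) (.node (.leaf 0) (.leaf 0))) (.node (.node (.leaf 2) (.leaf 1)) (.node (.leaf 0) (.leaf 1)))))) (.node (.node (.node (.node (.node (.leaf 0) (.leaf 0)) (.node (.leaf 2) (.leaf 3))) (.node (.node (.leaf 1) (.leaf 1)) (.node (.leaf 1) (.leaf 1)))) (.node (.node (.node (.leaf 0) (.leaf 3)) (.node (.leaf 0) (.leaf 1))) (.node (.node (.leaf 0) (.leaf 3)) (.node (.leaf 2) (.leaf 3))))) (.node (.node (.node (.node (.leaf 0) (.leaf 1)) (.node (.leaf 0) (.leaf 3))) (.node (.node (.leaf 1) (.leaf 0)) (.node (.leaf 2) (.leaf 0)))) (.node (.node (.node (.leaf 0) (.leaf 3)) (.node (.leaf 1) (.leaf 2))) (.node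 (.node (.leaf 0) (.leaf 2)) (.node (.leaf 1) (.leaf 0))))))) (.node (.node (.node (.node (.node (.node (.leaf 0) (.leaf 3)) (.node (.leaf 0) (.leaf 1))) (.node (.node (.leaf 0) (.leaf 1)) (.node (.leaf 0) (.leaf 1)))) (.node (.node (.node (.leaf 0) (.leaf 2)) (.node (.leaf 0) (.leaf 3))) (.node (.node (.leaf 2) (.leaf 2)) (.node (.leaf 0) (.leaf 1))))) (.node (.node (.node (.node (.leaf 0) (.leaf 2)) (.node (.leaf 0) (.leaf 1))) (.node (.node (.leaf 0) (.leaf 0)) (.node (.leaf 2) (.leaf 0)))) (.node (.node (.node (.leaf 0) (.leaf 1)) (.node (.leaf 0) (.leaf 2))) (.node (.node (.leaf 0) (.leaf 1)) (.node (.leaf 0) (.leaf 1)))))) (.node (.node (.node (.node (.node (.leaf 0) (.leaf 0)) (.node (.leaf 1) (.leaf 0))) (.node (.node (.leaf 1) (.leaf 1)) (.node (.leaf 0) (.leaf 1)))) (.node (.node (.node (.leaf 0) (.leaf 0)) (.node (.leaf 0) (.leaf 0))) (.node (.node (.leaf 0) (.leaf 0)) (.node (.leaf 1) (.leaf 0))))) (.node (.node (.node (.node (.leaf 0) (.leaf 0)) (.node (.leaf 0) (.leaf 1))) (.node (.node (.leaf 0) (.leaf 1)) (.node (.leaf 0) (.leaf 0)))) (.node (.node (.node (.leaf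 0) (.leaf 1)) (.node (.leaf 1) (.leaf 2))) (.node (.node (.leaf 0) (.leaf 2)) (.node (.leaf 1) (.leaf 0))))))))

def twoValb : Janko.Tree (ℕ) := (.node twoValb0 twoValb1)

theorem two_leftb0 : ((List.range 64).all fun i => CoverCocycle.leftOK twoCert twoValb.get 4 (Nat.add 0 i)) = true := by decide +kernel

theorem two_leftb : ∀ i < 64, CoverCocycle.leftOK twoCert twoValb.get 4 i = true := by
  intro i hi
  have := List.all_eq_true.1 two_leftb0 (i - 0) (List.mem_range.2 (by omega)); rwa [show Nat.add 0 (i - 0) = i from Nat.add_sub_cancel' (by omega)] at this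


theorem two_wdb0 : ((List.range 64).all fun i => CoverCocycle.treeOK twoCert twoValb.get 4 (Nat.add 0 i)) = true := by decide +kernel

theorem two_wdb : ∀ i < 64, CoverCocycle.treeOK twoCert twoValb.get 4 i = true := by
  intro i hi
  have := List.all_eq_true.1 two_wdb0 (i - 0) (List.mem_range.2 (by omega)); rwa [show Nat.add 0 (i - 0) = i from Nat.add_sub_cancel' (by omega)] at this


def twoT0 : Janko.Tree (ℕ) :=
  (.node (.node (.node (.node (.node (.node (.node (.leaf 984818244535754528103549039458486304) (.leaf 962387195544050887032775407750887456)) (.leaf 966504572009828391744029302107514912)) (.node (.leaf 970166657306435287968382068525704224) (.leaf 963668791045541435123739018104715296))) (.node (.node (.node (.leaf 975610962234533296455118896623945760) (.leaf 970541514010270372677881100464607264)) (.leaf 972873203365871110031504037263255584)) (.node (.leaf 984656853170766328973556534136377376) (.leaf 958267416297540463268138593941105696)))) (.node (.node (.node (.node (.leaf 983137286299700889388191458496552992) (.leaf 977990268093613201385274554695799840)) (.leaf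 973947489246751173335244839460740128)) (.node (.leaf 963760813350074888936031502251446304) (.leaf 965932706517911381672560605935084576))) (.node (.node (.node (.leaf 979580102697043078195767158827594784) (.leaf 958812135876157300872277559338310688)) (.leaf 971570811449816895959081055481925664)) (.node (.leaf 980501636936213066379225398541685792) (.leaf 972562143000913841936951424367334432))))) (.node (.node (.node (.node (.node (.leaf 960804856804216651825443570166778912) (.leaf 984120879518587675503829831120329760)) (.leaf 980941455646444205799036286008567840)) (.node (.leaf 978042334807755575000832603431475232) (.leaf 984393425290919052687206070263988256))) (.node (.node (.node (.leaf 965137679045159069766697846135966752) (.leaf 969283220882826374609633477040576544)) (.leaf 965852948198017340087119906298242080)) (.node (.leaf 958841310756365189243877113075016736) (.leaf 974422147566298280893119977435254816)))) (.node (.node (.node (.node (.leaf 970415933748604454575694750095053856) (.leaf 970355442568800741529513741072943136)) (.leaf 960841732846268725303619071623348256))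 (.node (.leaf 970052513583269163578975966040071200) (.leaf 975037037075783800939048518128143392))) (.node (.node (.node (.leaf 968993598677839004035921954270679072) (.leaf 982901323593276211886198469152710688)) (.leaf 962727886203021699428724744399469600)) (.node (.leaf 958242764186421564994679617957301280) (.leaf 963560975594111620644001808884730912)))))) (.node (.node (.node (.node (.node (.node (.leaf 967963005739716276003870733749209120) (.leaf 972345794247665154368135711542681632)) (.leaf 970037272850399878578596331340877856)) (.node (.leaf 969241342471679915837871078253927456) (.leaf 968534038157332391373312096717057056))) (.node (.node (.node (.leaf 976376644193682380188636551733130272) (.leaf 958400512553686866648315706734003232)) (.leaf 971303824798689095943309817049326624)) (.node (.leaf 964078796042286361040395739742155808) (.leaf 966460119322970095492733116165569568)))) (.node (.node (.node (.node (.leaf 983016615965756284295240189169026080) (.leaf 975447870168472221401133343317368864)) (.leaf 984523774350501701489810367000987680)) (.node (.leaf 980211509602300290706563371298304032)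 (.leaf 962700356939456870204937806917878816))) (.node (.node (.node (.leaf 982986272303880453464224437402881056) (.leaf 975315345160757136030854635561635872)) (.leaf 979603829319905633321818634496453664)) (.node (.leaf 979263384888812617945582390524264480) (.leaf 958761411516265464991182461702717472))))) (.node (.node (.node (.node (.node (.leaf 959871748233435518260156358685019168) (.leaf 983375246953076179065623323863236640)) (.leaf 979607907243325791478716549188160544)) (.node (.leaf 960058438733925628571248662885549088) (.leaf 984552020686888868994575346263835680))) (.node (.node (.node (.leaf 967727543744774797736084292654716960) (.leaf 962568387654362440340982063346175008)) (.leaf 966322946164418690442834526967274528)) (.node (.leaf 982130661803044400053198632968636448) (.leaf 961362704857126801746372668116575264)))) (.node (.node (.node (.node (.leaf 980309837668828678877901104711180320) (.leaf 962298498570630825781424917281388576)) (.leaf 968833165150287461120676039856017440)) (.node (.leaf 961330759472245986151833609123301408) (.leaf 975673408333849830588960371677138976)))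 (.node (.node (.leaf 976276876559183925993553814785077280) (.leaf 966396709984412574042381983182730272)) (.node (.leaf 980783389550888055918429034371266592) (.leaf 962778269554943841890682808068289568)))))))

def twoT1 : Janko.Tree (ℕ) :=
  (.node (.node (.node (.node (.node (.node (.node (.leaf 982126463649512714436272436299542560) (.leaf 964001712996606316169963497751499808)) (.leaf 969040620149925773072407178083161120)) (.node (.leaf 973647775295913548793210447369640992) (.leaf 961074914361994332220194964431392800))) (.node (.node (.node (.leaf 964962712522822163995993679966144544) (.leaf 970029225957875849535618074618020896)) (.leaf 984485790597356181129203765213664288)) (.node (.leaf 958692036071295317026085840362098720) (.leaf 962179868843892385053984529209117728)))) (.node (.node (.node (.node (.leaf 972362943182430986604480312173007904) (.leaf 980387329769888740499108985110467616)) (.leaf 982995027566016475191477460777093152)) (.node (.leaf 961394110279788990510658734678193184) (.leaf 984110459553222946759930096657013792))) (.node (.node (.node (.leaf 976683758823339465434268235382011936)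 (.leaf 964959073046749060812006752686594080)) (.leaf 958893477262543526472114418035890208)) (.node (.leaf 978189492764012031978092848029798432) (.leaf 978851527744781324169491465975992352))))) (.node (.node (.node (.node (.node (.leaf 963998932713700088600064065962458144) (.leaf 958694180307106681415453335058750496)) (.leaf 978113590865631967906190953409684512)) (.node (.leaf 976724934377840558177026773953647648) (.leaf 964610416066954779032108395043227680))) (.node (.node (.node (.leaf 964605268575926738113420435739196448) (.leaf 976479128890195577604030400560801824)) (.leaf 968589526734278766700401762535842848)) (.node (.leaf 962210762755832717248946597822342176) (.leaf 980460007989519185863954759042644000)))) (.node (.node (.node (.node (.leaf 974457619806198367130386505822146592) (.leaf 981885015623871568099212572344172576)) (.leaf 982897549423776366446373605309268000)) (.node (.leaf 973853923490926217465358538606299168) (.leaf 984195670858271961215613998218231840))) (.node (.node (.node (.leaf 983096894984531681407233447424082976) (.leaf 958325015638306625432054749478665248))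 (.leaf 984271594459173906510283084787199008)) (.node (.leaf 963791824953341312828933999870544928) (.leaf 975152363879210573890160666700155936)))))) (.node (.node (.node (.node (.node (.node (.leaf 964639825600496128754182045082749984) (.leaf 984278963845281441322847895320726560)) (.leaf 980424242633303801178912462158378016)) (.node (.leaf 968905254018983506915906010556352544) (.leaf 983337385793100910644200700396456992))) (.node (.node (.node (.leaf 977713698988906839463003807507854368) (.leaf 979545639594490674200553814833538080)) (.leaf 971379709300971210693239727528092704)) (.node (.leaf 977622389614892864048812944680956960) (.leaf 968613709740501675560958969265794080)))) (.node (.node (.node (.node (.leaf 972564458606537184020091914509767712) (.leaf 974017784323799884468069586551646240)) (.leaf 960902389109395289573266109986475040)) (.node (.leaf 975549921801236609599745565177491488) (.leaf 984483144926149814412613395595466784))) (.node (.node (.node (.leaf 966187623460497256536314753927199776) (.leaf 968655086662825324417598921933110304)) (.leaf 967981227661963326174726925323971616))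 (.node (.leaf 976641722030656638520358852372007968) (.leaf 962493366425701804584221533994617888))))) (.node (.node (.node (.node (.node (.leaf 976493112344021766931005061865290784) (.leaf 959990065720432451998797149862286368)) (.leaf 976481901753825680605941838097467424)) (.node (.leaf 975444956950638324850841782581579808) (.leaf 978044042086685843359506166196653088))) (.node (.node (.node (.leaf 967214176195332514964401156017162272) (.leaf 971717744848304086104496313210058784)) (.leaf 968934300962345412033932948644895776)) (.node (.leaf 970273327706884067387497090430536736) (.leaf 963510421377692999362508186933601312)))) (.node (.node (.node (.node (.leaf 977582175091907015767181765594139680) (.leaf 984806389853444040066933837858754592)) (.leaf 983433813815258518170948875251299360)) (.node (.leaf 963306924490143954147763111813628960) (.leaf 979015884779636832017593959811006496))) (.node (.node (.leaf 960013688371602219053265728386084896) (.leaf 975638510105531350037094770374431776)) (.node (.leaf 975530981742472249323941177605967904) (.leaf 971781567306616498688991548587354144)))))))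

def twoT2 : Janko.Tree (ℕ) :=
  (.node (.node (.node (.node (.node (.node (.node (.leaf 972878353442982355945272500889956384) (.leaf 961116626889161846031099936814866464)) (.leaf 974302768448246180724019439775418400)) (.node (.leaf 981559935669622105884889622508674080) (.leaf 971383795626608417004514979556731936))) (.node (.node (.node (.leaf 964984574036370079491354211769586720) (.leaf 971105827324016172390882554166091808)) (.leaf 981692953180137088393806939927786528)) (.node (.leaf 962137005357671798634685330376766496) (.leaf 982078763299857043577023751140850720)))) (.node (.node (.node (.node (.leaf 973778232971419645132108199202707488) (.leaf 975277428318074285499130759395039264)) (.leaf 974470433491853266296865188207675424)) (.node (.leaf 963642087471461468126114568679698464) (.leaf 982748842995989172761261786374199328))) (.node (.node (.node (.leaf 967572794973161300240140872309743648) (.leaf 982263569364147344442716090121399328)) (.leaf 961962387991208672355459249682714656)) (.node (.leaf 982787027247437795921459511308982304) (.leaf 971672727544457149672977103926280224)))))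 (.node (.node (.node (.node (.node (.leaf 961120219525868594162844022227414048) (.leaf 976945922466934395023451294031749152)) (.leaf 983025142513592888290029754885774368)) (.node (.leaf 960110406923301151459363931972818976) (.leaf 979425206527424853527940421750408224))) (.node (.node (.node (.leaf 979414834244990836154640318246017056) (.leaf 965136812641296295851818046769629216)) (.leaf 969178946417694658068307600036305952)) (.node (.leaf 973177041322962127482252664391212064) (.leaf 975711310195099856450481857816645664)))) (.node (.node (.node (.node (.leaf 981434244649046932564672490441589792) (.leaf 962261515709349327774351734991136800)) (.leaf 979423865997781068482302344118385696)) (.node (.leaf 981652507095402251478345801752068128) (.leaf 958152893109181329206913449902640160))) (.node (.node (.node (.leaf 962340932316810989631477807319404576) (.leaf 975728708050008715525885598301784096)) (.leaf 966460993382416806032918801105301536)) (.node (.leaf 977760636380785972028270263218289696) (.leaf 978195386402067805208139631143927840)))))) (.node (.node (.node (.node (.node (.node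 (.leaf 965164339131741573065189757186426912) (.leaf 958408671283586574376538328142596128)) (.leaf 981688404825187634474267142801373216)) (.node (.leaf 983234618589645783920398068221100064) (.leaf 968504653180629071063011611947254816))) (.node (.node (.node (.leaf 963337859382517426923798856900851744) (.leaf 962575885947039574304983790544570400)) (.leaf 958403044122143200788670434071845920)) (.node (.leaf 963873553948936423781490833127520288) (.leaf 960108961357804710213323298820993056)))) (.node (.node (.node (.node (.leaf 973860103325361848103263807150104608) (.leaf 982130303819265948531394336389223456)) (.leaf 977862706161820241601193022007396384)) (.node (.leaf 958320382665576822681666162529997856) (.leaf 969185245533177955710811641460363296))) (.node (.node (.node (.leaf 962296827990004062430173471116384288) (.leaf 967335860353300127902184353831206944)) (.leaf 982820471321747283970763108939934752)) (.node (.leaf 967168848735991625287425889601404960) (.leaf 984441345685293467505997507852933152))))) (.node (.node (.node (.node (.node (.leaf 959700520506706375111769160837147680)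 (.leaf 960059483013389360132335629245748256)) (.leaf 969104313748714095318107271377626144)) (.node (.leaf 970493500604959889757944492831912992) (.leaf 979366146916895804433401696496496672))) (.node (.node (.node (.leaf 983257403570942227315463843692808224) (.leaf 982832783013667702865630566725012512)) (.leaf 983055635245945343937386492633628704)) (.node (.leaf 980498675284944172925629064643987488) (.leaf 963515095949177277443875056653535264)))) (.node (.node (.node (.node (.leaf 963914667063740011688129051633040416) (.leaf 981757525330572471418956586527537184)) (.leaf 968836294559757800804682258278752288)) (.node (.leaf 961330046761335516466680338444654624) (.leaf 974951685590417668749911368573201440))) (.node (.node (.leaf 960024372987085142161145682400384032) (.leaf 984567158921626201312791167410222112)) (.node (.leaf 972568333974429980393604392814059552) (.leaf 971499987499916827412744978592683040)))))))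

def twoT3 : Janko.Tree (ℕ) :=
  (.node (.node (.node (.node (.node (.node (.node (.leaf 967275804955026083722479141249518624) (.leaf 962497403387952309069363009242285088)) (.leaf 982011659827752467840231932522927136)) (.node (.leaf 966191058702035879431627268137622560) (.leaf 971836823997827022130526746590039072))) (.node (.node (.node (.leaf 978834770263012195989662174163521568) (.leaf 962009118347819068294564393124976672)) (.leaf 972682429585630872093833062845265952)) (.node (.leaf 977668802928580468006572020242436128) (.leaf 972929703065883584099817504923921440)))) (.node (.node (.node (.node (.leaf 968737823785876066460245820405583904) (.leaf 977901891568301344145331443035611168)) (.leaf 962415885011601390195538128397503520)) (.node (.leaf 961365308360774751946601520853004320) (.leaf 965987200469983028679134508415944736))) (.node (.node (.node (.leaf 967556632848299464848072451159107616) (.leaf 971231348301265789852507981855632416)) (.leaf 965305204244265193430524987907162144)) (.node (.leaf 966518086099142732735654559370055712) (.leaf 971223705487656969869062166682930208)))))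 (.node (.node (.node (.node (.node (.leaf 976692208925428354250192751795711008) (.leaf 968513324949128420802471544391747616)) (.leaf 966158391528083897769862672347241504)) (.node (.leaf 976624783175338580107973687836643360) (.leaf 976276463213723050538437223432624160))) (.node (.node (.node (.leaf 976299081372053436616390857229666336) (.leaf 959620749470018741312803838806538272)) (.leaf 983192821839941870264555213785766944)) (.node (.leaf 974017855253864719604092464591801376) (.leaf 975446146067187088167985871098220576)))) (.node (.node (.node (.node (.leaf 970374507400415926884827576277390368) (.leaf 977843700145102601245801196595590176)) (.leaf 967215049291656661793076822118256672)) (.node (.leaf 963311361190994182245542859519645728) (.leaf 978086812024621670380624508077316128))) (.node (.node (.leaf 984719291174203952669309448178938912) (.leaf 984268868862367566157137751964947488)) (.node (.leaf 963465839562313704193049318350564384) (.leaf 980748405017243811383301049406699552)))))) (.node (.node (.node (.node (.node (.node (.leaf 963265365656939138026900740039617568) (.leaf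 982251114264959631096782468745988128)) (.leaf 969892758127072025279535047860985888)) (.node (.leaf 961116804384399050006382317568279584) (.leaf 962484771004262350663316335512242208))) (.node (.node (.node (.leaf 975020525777329671656175062400346144) (.leaf 978127059609238637933396032782743584)) (.leaf 962750314350914386192901413342059552)) (.node (.leaf 980911368942636420361235073644699680) (.leaf 979279678081845862720568846038118432)))) (.node (.node (.node (.node (.leaf 981635851695404221423295657969852448) (.leaf 969024344337150470125473939967891488)) (.leaf 971860988311219713093134432158058528)) (.node (.leaf 975237287013816696431477683866901536) (.leaf 980312696331769113805787169422393376))) (.node (.node (.node (.leaf 969136973475804685231201563209783328) (.leaf 963586407954129029924878421533834272)) (.leaf 966472547046372933841013950336617504)) (.node (.leaf 984653514404046376604942055011336224) (.leaf 958490016328244535348591843390787616))))) (.node (.node (.node (.node (.node (.leaf 968871819868887755116613862640768032) (.leaf 979368334565108090805220885345654816))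 (.leaf 983304018626892697708688811572339744)) (.node (.leaf 974013386419330510718589003259949088) (.leaf 982913620656797289933972989799375904))) (.node (.node (.node (.leaf 966242166634848049722509338174952480) (.leaf 966379943614707517844080126774622240)) (.leaf 962665634273779250701144692772722720)) (.node (.leaf 970279603893326650351860871936280608) (.leaf 965165448627488516204041658894227488)))) (.node (.node (.node (.node (.leaf 980181017272554896773969598043805728) (.leaf 969070087356488144504252891335971872)) (.leaf 983423276944912854894384303531337760)) (.node (.leaf 980944255441250182764418035272324128) (.leaf 979569766399977460149572986929364000))) (.node (.node (.leaf 975357173784030688858924788489069600) (.leaf 973692742658955992840641268660349984)) (.node (.leaf 973850453460389509731822776710998048) (.leaf 958478791229456411321183604916696096)))))))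

def twoT : Janko.Tree (ℕ) := (.node (.node twoT0 twoT2) (.node twoT1 twoT3))

def twoTPar0 : Janko.Tree (ℕ) :=
  (.node (.node (.node (.node (.node (.node (.node (.leaf 0) (.leaf 2849)) (.leaf 1152)) (.node (.leaf 561) (.leaf 1888))) (.node (.node (.node (.leaf 257) (.leaf 3537)) (.leaf 1504)) (.node (.leaf 848) (.leaf 2352)))) (.node (.node (.node (.node (.leaf 113) (.leaf 3136)) (.leaf 1297)) (.node (.leaf 704) (.leaf 2113))) (.node (.node (.node (.leaf 400) (.leaf 4032)) (.leaf 1665)) (.node (.leaf 993) (.leaf 2577))))) (.node (.node (.node (.node (.node (.leaf 49) (.leaf 3008)) (.leaf 1217)) (.node (.leaf 625) (.leaf 1985))) (.node (.node (.node (.leaf 336) (.leaf 3792)) (.leaf 1584)) (.node (.leaf 928) (.leaf 2433)))) (.node (.node (.node (.node (.leaf 192) (.leaf 3297)) (.leaf 1392)) (.node (.leaf 769) (.leaf 2209))) (.node (.node (.node (.leaf 480) (.leaf 4624)) (.leaf 1760)) (.node (.leaf 1073) (.leaf 2721)))))) (.node (.node (.node (.node (.node (.node (.leaf 17) (.leaf 2961)) (.leaf 1184)) (.node (.leaf 593) (.leaf 1936))) (.node (.node (.node (.leaf 289) (.leaf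 3649)) (.leaf 1552)) (.node (.leaf 881) (.leaf 2400)))) (.node (.node (.node (.node (.leaf 145) (.leaf 3232)) (.leaf 1345)) (.node (.leaf 736) (.leaf 2176))) (.node (.node (.node (.leaf 432) (.leaf 4289)) (.leaf 1712)) (.node (.leaf 1040) (.leaf 2672))))) (.node (.node (.node (.node (.node (.leaf 81) (.leaf 3073)) (.leaf 1264)) (.node (.leaf 657) (.leaf 2048))) (.node (.node (.node (.leaf 368) (.leaf 3921)) (.leaf 1616)) (.node (.leaf 961) (.leaf 2481)))) (.node (.node (.node (.node (.leaf 225) (.leaf 3440)) (.leaf 1456)) (.node (.leaf 801) (.leaf 2289))) (.node (.node (.leaf 528) (.leaf 1808)) (.node (.leaf 1120) (.leaf 2801)))))))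

def twoTPar1 : Janko.Tree (ℕ) :=
  (.node (.node (.node (.node (.node (.node (.node (.leaf 0) (.leaf 2896)) (.leaf 1153)) (.node (.leaf 576) (.leaf 1889))) (.node (.node (.node (.leaf 272) (.leaf 3569)) (.leaf 1521)) (.node (.leaf 864) (.leaf 2353)))) (.node (.node (.node (.node (.leaf 128) (.leaf 3152)) (.leaf 1313)) (.node (.leaf 705) (.leaf 2129))) (.node (.node (.node (.leaf 401) (.leaf 4160)) (.leaf 1680)) (.node (.leaf 1009) (.leaf 2625))))) (.node (.node (.node (.node (.node (.leaf 64) (.leaf 3009)) (.leaf 1233)) (.node (.leaf 640) (.leaf 2017))) (.node (.node (.node (.leaf 337) (.leaf 3824)) (.leaf 1585)) (.node (.leaf 929) (.leaf 2448)))) (.node (.node (.node (.node (.leaf 208) (.leaf 3344)) (.leaf 1408)) (.node (.leaf 784) (.leaf 2224))) (.node (.node (.node (.leaf 481) (.leaf 4704)) (.leaf 1761)) (.node (.leaf 1089) (.leaf 2737)))))) (.node (.node (.node (.node (.node (.node (.leaf 32) (.leaf 2976)) (.leaf 1185)) (.node (.leaf 608) (.leaf 1937))) (.node (.node (.node (.leaf 304) (.leaf 3712)) (.leaf 1553)) (.node (.leaf 896) (.leaf 2401)))) (.node (.node (.node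 (.node (.leaf 160) (.leaf 3248)) (.leaf 1360)) (.node (.leaf 737) (.leaf 2177))) (.node (.node (.node (.leaf 433) (.leaf 4353)) (.leaf 1729)) (.node (.leaf 1041) (.leaf 2673))))) (.node (.node (.node (.node (.node (.leaf 96) (.leaf 3104)) (.leaf 1265)) (.node (.leaf 672) (.leaf 2064))) (.node (.node (.node (.leaf 369) (.leaf 3953)) (.leaf 1617)) (.node (.leaf 976) (.leaf 2497)))) (.node (.node (.node (.node (.leaf 240) (.leaf 3441)) (.leaf 1457)) (.node (.leaf 816) (.leaf 2304))) (.node (.node (.leaf 529) (.leaf 1825)) (.node (.leaf 1121) (.leaf 2832)))))))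

def twoTPar2 : Janko.Tree (ℕ) :=
  (.node (.node (.node (.node (.node (.node (.node (.leaf 1) (.leaf 2897)) (.leaf 1168)) (.node (.leaf 577) (.leaf 1920))) (.node (.node (.node (.leaf 273) (.leaf 3585)) (.leaf 1536)) (.node (.leaf 865) (.leaf 2368)))) (.node (.node (.node (.node (.leaf 129) (.leaf 3153)) (.leaf 1329)) (.node (.leaf 720) (.leaf 2160))) (.node (.node (.node (.leaf 416) (.leaf 4176)) (.leaf 1681)) (.node (.leaf 1024) (.leaf 2656))))) (.node (.node (.node (.node (.node (.leaf 65) (.leaf 3057)) (.leaf 1248)) (.node (.leaf 641) (.leaf 2032))) (.node (.node (.node (.leaf 352) (.leaf 3840)) (.leaf 1600)) (.node (.leaf 945) (.leaf 2449)))) (.node (.node (.node (.node (.leaf 209) (.leaf 3393)) (.leaf 1424)) (.node (.leaf 785) (.leaf 2225))) (.node (.node (.node (.leaf 496) (.leaf 4993)) (.leaf 1777)) (.node (.leaf 1104) (.leaf 2768)))))) (.node (.node (.node (.node (.node (.node (.leaf 33) (.leaf 2977)) (.leaf 1201)) (.node (.leaf 609) (.leaf 1953))) (.node (.node (.node (.leaf 305) (.leaf 3728)) (.leaf 1568)) (.node (.leaf 897) (.leaf 2416)))) (.node (.node (.node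 (.node (.leaf 161) (.leaf 3249)) (.leaf 1361)) (.node (.leaf 753) (.leaf 2193))) (.node (.node (.node (.leaf 448) (.leaf 4577)) (.leaf 1744)) (.node (.leaf 1056) (.leaf 2688))))) (.node (.node (.node (.node (.node (.leaf 97) (.leaf 3120)) (.leaf 1280)) (.node (.leaf 673) (.leaf 2080))) (.node (.node (.node (.leaf 384) (.leaf 3969)) (.leaf 1633)) (.node (.leaf 977) (.leaf 2529)))) (.node (.node (.node (.node (.leaf 241) (.leaf 3472)) (.leaf 1488)) (.node (.leaf 817) (.leaf 2321))) (.node (.node (.leaf 545) (.leaf 1840)) (.node (.leaf 1136) (.leaf 2833)))))))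

def twoTPar3 : Janko.Tree (ℕ) :=
  (.node (.node (.node (.node (.node (.node (.node (.leaf 16) (.leaf 2945)) (.leaf 1169)) (.node (.leaf 592) (.leaf 1921))) (.node (.node (.node (.leaf 288) (.leaf 3601)) (.leaf 1537)) (.node (.leaf 880) (.leaf 2369)))) (.node (.node (.node (.node (.leaf 144) (.leaf 3168)) (.leaf 1344)) (.node (.leaf 721) (.leaf 2161))) (.node (.node (.node (.leaf 417) (.leaf 4193)) (.leaf 1696)) (.node (.leaf 1025) (.leaf 2657))))) (.node (.node (.node (.node (.node (.leaf 80) (.leaf 3072)) (.leaf 1249)) (.node (.leaf 656) (.leaf 2033))) (.node (.node (.node (.leaf 353) (.leaf 3872)) (.leaf 1601)) (.node (.leaf 960) (.leaf 2464)))) (.node (.node (.node (.node (.leaf 224) (.leaf 3424)) (.leaf 1441)) (.node (.leaf 800) (.leaf 2272))) (.node (.node (.leaf 497) (.leaf 1793)) (.node (.leaf 1105) (.leaf 2784)))))) (.node (.node (.node (.node (.node (.node (.leaf 48) (.leaf 2992)) (.leaf 1216)) (.node (.leaf 624) (.leaf 1984))) (.node (.node (.node (.leaf 321) (.leaf 3761)) (.leaf 1569)) (.node (.leaf 912) (.leaf 2417)))) (.node (.node (.node (.node (.leaf 177)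 (.leaf 3281)) (.leaf 1376)) (.node (.leaf 768) (.leaf 2208))) (.node (.node (.node (.leaf 465) (.leaf 4593)) (.leaf 1745)) (.node (.leaf 1072) (.leaf 2689))))) (.node (.node (.node (.node (.node (.leaf 112) (.leaf 3121)) (.leaf 1281)) (.node (.leaf 688) (.leaf 2112))) (.node (.node (.node (.leaf 385) (.leaf 4000)) (.leaf 1648)) (.node (.leaf 992) (.leaf 2561)))) (.node (.node (.node (.node (.leaf 256) (.leaf 3505)) (.leaf 1489)) (.node (.leaf 832) (.leaf 2336))) (.node (.node (.leaf 560) (.leaf 1872)) (.node (.leaf 1137) (.leaf 2848)))))))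

def twoTPar : Janko.Tree (ℕ) := (.node (.node twoTPar0 twoTPar2) (.node twoTPar1 twoTPar3))

theorem two_T0 : ((List.range 315).all fun i => treeT gensX twoT twoTPar (Nat.add 0 i)) = true := by decide +kernel

theorem two_T : ∀ i < 315, treeT gensX twoT twoTPar i = true := by
  intro i hi
  have := List.all_eq_true.1 two_T0 (i - 0) (List.mem_range.2 (by omega)); rwa [show Nat.add 0 (i - 0) = i from Nat.add_sub_cancel' (by omega)] at this


def twoMvX00 : Janko.Tree (ℕ) :=
  (.node (.node (.node (.node (.node (.node (.node (.leaf 1024) (.leaf 307262)) (.leaf 208896)) (.node (.leaf 116736) (.leaf 273408))) (.node (.node (.node (.leaf 39987) (.leaf 160802)) (.leaf 216126)) (.node (.leaf 165888) (.leaf 173086)))) (.node (.node (.node (.node (.leaf 31744) (.leaf 250923)) (.leaf 226304)) (.node (.leaf 145408) (.leaf 218112))) (.node (.node (.node (.leaf 89088) (.leaf 52228)) (.leaf 79881)) (.node (.leaf 171029) (.leaf 305152))))) (.node (.node (.node (.node (.node (.leaf 17408) (.leaf 34873)) (.leaf 217088)) (.node (.leaf 131072) (.leaf 190501))) (.node (.node (.node (.leaf 74752)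 (.leaf 146459)) (.leaf 251904)) (.node (.leaf 36907) (.leaf 300032)))) (.node (.node (.node (.node (.leaf 47104) (.leaf 302133)) (.leaf 166912)) (.node (.leaf 156672) (.leaf 10240))) (.node (.node (.node (.leaf 103424) (.leaf 262181)) (.leaf 125987)) (.node (.leaf 198656) (.leaf 234496)))))) (.node (.node (.node (.node (.node (.node (.leaf 9216) (.leaf 312320)) (.leaf 211968)) (.node (.leaf 32811) (.leaf 278528))) (.node (.node (.node (.leaf 66560) (.leaf 317499)) (.leaf 199737)) (.node (.leaf 174080) (.leaf 189485)))) (.node (.node (.node (.node (.leaf 28672) (.leaf 237569)) (.leaf 231424)) (.node (.leaf 150528) (.leaf 280635))) (.node (.node (.node (.leaf 97280) (.leaf 309263)) (.leaf 193536)) (.node (.leaf 16427) (.leaf 272403))))) (.node (.node (.node (.node (.node (.leaf 24576) (.leaf 236606)) (.leaf 115768)) (.node (.leaf 138240) (.leaf 82959))) (.node (.node (.node (.leaf 81920) (.leaf 88064)) (.leaf 153635)) (.node (.leaf 175139) (.leaf 294940)))) (.node (.node (.node (.node (.leaf 55296) (.leaf 271370)) (.leaf 134145)) (.node (.leaf 2048) (.leaf 104455))) (.node (.node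 (.leaf 109568) (.leaf 270336)) (.node (.leaf 203776) (.leaf 311296)))))))

def twoMvX01 : Janko.Tree (ℕ) :=
  (.node (.node (.node (.node (.node (.node (.node (.leaf 3072) (.leaf 225342)) (.leaf 209920)) (.node (.leaf 118784) (.leaf 242701))) (.node (.node (.node (.leaf 61440) (.leaf 319488)) (.leaf 92196)) (.node (.leaf 167936) (.leaf 264246)))) (.node (.node (.node (.node (.leaf 33792) (.leaf 258098)) (.leaf 139305)) (.node (.leaf 58398) (.leaf 287744))) (.node (.node (.node (.leaf 91136) (.leaf 207875)) (.leaf 259072)) (.node (.leaf 192512) (.leaf 180239))))) (.node (.node (.node (.node (.node (.leaf 19456) (.leaf 246841)) (.leaf 136221)) (.node (.leaf 133120) (.leaf 123944))) (.node (.node (.node (.leaf 76800) (.leaf 151566)) (.leaf 12316)) (.node (.leaf 181248) (.leaf 301056)))) (.node (.node (.node (.node (.leaf 49152) (.leaf 63514)) (.leaf 238592)) (.node (.leaf 157696) (.leaf 292864))) (.node (.node (.node (.leaf 105472) (.leaf 321571)) (.leaf 30755)) (.node (.leaf 200704) (.leaf 266280)))))) (.node (.node (.node (.node (.node (.node (.leaf 11264) (.leaf 313344)) (.leaf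 100362)) (.node (.leaf 124928) (.leaf 279552))) (.node (.node (.node (.leaf 68608) (.leaf 265231)) (.leaf 182299)) (.node (.leaf 176128) (.leaf 293899)))) (.node (.node (.node (.node (.leaf 40960) (.leaf 274454)) (.leaf 108582)) (.node (.leaf 152576) (.leaf 23593))) (.node (.node (.node (.leaf 98304) (.leaf 140322)) (.leaf 263168)) (.node (.leaf 195584) (.leaf 223253))))) (.node (.node (.node (.node (.node (.leaf 25600) (.leaf 308252)) (.leaf 149545)) (.node (.leaf 94249) (.leaf 65597))) (.node (.node (.node (.leaf 83968) (.leaf 291901)) (.leaf 256000)) (.node (.leaf 186368) (.leaf 303104)))) (.node (.node (.node (.node (.leaf 48128) (.leaf 110602)) (.leaf 119847)) (.node (.leaf 161792) (.leaf 26654))) (.node (.node (.leaf 111616) (.leaf 8192)) (.node (.leaf 178219) (.leaf 158734)))))))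

def twoMvX02 : Janko.Tree (ℕ) :=
  (.node (.node (.node (.node (.node (.node (.node (.leaf 5120) (.leaf 245765)) (.leaf 210944)) (.node (.leaf 120832) (.leaf 275456))) (.node (.node (.node (.leaf 44032) (.leaf 284727)) (.leaf 185382)) (.node (.leaf 169984) (.leaf 219145)))) (.node (.node (.node (.node (.leaf 35840) (.leaf 314405)) (.leaf 228352)) (.node (.leaf 69635) (.leaf 285703))) (.node (.node (.node (.leaf 93184) (.leaf 299009)) (.leaf 261120)) (.node (.leaf 112652) (.leaf 306176))))) (.node (.node (.node (.node (.node (.leaf 21504) (.leaf 18432)) (.leaf 220160)) (.node (.leaf 135168) (.leaf 282624))) (.node (.node (.node (.leaf 78848) (.leaf 315419)) (.leaf 248859)) (.node (.leaf 183296) (.leaf 241664)))) (.node (.node (.node (.node (.leaf 51200) (.leaf 162860)) (.leaf 240640)) (.node (.leaf 42043) (.leaf 260117))) (.node (.node (.node (.leaf 106496) (.leaf 84992)) (.leaf 267264)) (.node (.leaf 144386) (.leaf 310272)))))) (.node (.node (.node (.node (.node (.node (.leaf 13312) (.leaf 38951)) (.leaf 4096)) (.node (.leaf 126976) (.leaf 281600))) (.node (.node (.node (.leaf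 70656) (.leaf 320512)) (.leaf 247808)) (.node (.leaf 54323) (.leaf 295953)))) (.node (.node (.node (.node (.leaf 43008) (.leaf 288788)) (.leaf 233472)) (.node (.leaf 154624) (.leaf 289792))) (.node (.node (.node (.leaf 99328) (.leaf 318506)) (.leaf 87066)) (.node (.leaf 196608) (.leaf 75809))))) (.node (.node (.node (.node (.node (.leaf 27648) (.leaf 20536)) (.leaf 224256)) (.node (.leaf 141312) (.leaf 221184))) (.node (.node (.node (.leaf 86016) (.leaf 277530)) (.leaf 257024)) (.node (.leaf 188416) (.leaf 244789)))) (.node (.node (.node (.node (.leaf 57344) (.leaf 197639)) (.leaf 201751)) (.node (.leaf 163840) (.leaf 254008))) (.node (.node (.leaf 113664) (.leaf 77882)) (.node (.leaf 46115) (.leaf 205846)))))))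

def twoMvX03 : Janko.Tree (ℕ) :=
  (.node (.node (.node (.node (.node (.node (.node (.leaf 7168) (.leaf 232503)) (.leaf 147471)) (.node (.leaf 121856) (.leaf 276480))) (.node (.node (.node (.leaf 64512) (.leaf 117816)) (.leaf 6144)) (.node (.leaf 172032) (.leaf 130068)))) (.node (.node (.node (.node (.leaf 37888) (.leaf 148482)) (.leaf 229376)) (.node (.leaf 90152) (.leaf 50229))) (.node (.node (.node (.leaf 95232) (.leaf 202815)) (.leaf 62471)) (.node (.leaf 194560) (.leaf 14336))))) (.node (.node (.node (.node (.node (.leaf 22569) (.leaf 286780)) (.leaf 222208)) (.node (.leaf 71694) (.leaf 283648))) (.node (.node (.node (.leaf 80896) (.leaf 316474)) (.leaf 122907)) (.node (.leaf 184320) (.leaf 96292)))) (.node (.node (.node (.node (.leaf 53248) (.leaf 243730)) (.leaf 128061)) (.node (.leaf 159744) (.leaf 213033))) (.node (.node (.leaf 67584) (.leaf 269312)) (.node (.leaf 132096) (.leaf 107523)))))) (.node (.node (.node (.node (.node (.node (.leaf 15360) (.leaf 227385)) (.leaf 215040)) (.node (.leaf 129024) (.leaf 164865))) (.node (.node (.node (.leaf 72704) (.leaf 60456))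 (.leaf 249856)) (.node (.leaf 179200) (.leaf 254976)))) (.node (.node (.node (.node (.leaf 45056) (.leaf 298038)) (.leaf 235520)) (.node (.leaf 155648) (.leaf 290816))) (.node (.node (.node (.leaf 101376) (.leaf 204861)) (.leaf 191488)) (.node (.leaf 137216) (.leaf 239641))))) (.node (.node (.node (.node (.node (.leaf 29696) (.leaf 230456)) (.leaf 142361)) (.node (.leaf 143360) (.leaf 56383))) (.node (.node (.node (.leaf 0) (.leaf 214028)) (.leaf 73729)) (.node (.leaf 177171) (.leaf 304128)))) (.node (.node (.node (.node (.leaf 59392) (.leaf 187403)) (.leaf 168976)) (.node (.leaf 102462) (.leaf 268307))) (.node (.node (.leaf 114695) (.leaf 252936)) (.node (.leaf 206848) (.leaf 296970)))))))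

def twoMvX0 : Janko.Tree (ℕ) := (.node (.node twoMvX00 twoMvX02) (.node twoMvX01 twoMvX03))

theorem two_mvX00 : ((List.range 315).all fun i => movesOK twoCert twoT 315 982126463649512714436272436299542560 twoMvX0 (Nat.add 0 i)) = true := by decide +kernel

theorem two_mvX0 : ∀ i < 315, movesOK twoCert twoT 315 982126463649512714436272436299542560 twoMvX0 i = true := by
  intro i hi
  have := List.all_eq_true.1 two_mvX00 (i - 0) (List.mem_range.2 (by omega)); rwa [show Nat.add 0 (i - 0) = i from Nat.add_sub_cancel' (by omega)] at this


def twoMvX10 : Janko.Tree (ℕ) :=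
  (.node (.node (.node (.node (.node (.node (.node (.leaf 2048) (.leaf 222217)) (.leaf 118840)) (.node (.leaf 117760) (.leaf 274432))) (.node (.node (.node (.leaf 27699) (.leaf 310306)) (.leaf 244736)) (.node (.leaf 166912) (.leaf 296960)))) (.node (.node (.node (.node (.leaf 32768) (.leaf 316416)) (.leaf 181292)) (.node (.leaf 146432) (.leaf 275515))) (.node (.node (.node (.leaf 90112) (.leaf 155676)) (.leaf 256014)) (.node (.leaf 191488) (.leaf 206904))))) (.node (.node (.node (.node (.node (.leaf 18432) (.leaf 312377)) (.leaf 218112)) (.node (.leaf 132096) (.leaf 176177))) (.node (.node (.node (.leaf 75776) (.leaf 306183)) (.leaf 252928)) (.node (.leaf 180224) (.leaf 283649)))) (.node (.node (.node (.node (.leaf 48128) (.leaf 95259)) (.leaf 237568)) (.node (.leaf 152587) (.leaf 209920))) (.node (.node (.node (.leaf 104448) (.leaf 321536)) (.leaf 265216)) (.node (.leaf 199680) (.leaf 309248)))))) (.node (.node (.node (.node (.node (.node (.leaf 10240) (.leaf 33792)) (.leaf 212992)) (.node (.leaf 123904) (.leaf 81961))) (.node (.node (.node (.leaf 67584) (.leaf 196659)) (.leaf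 246784)) (.node (.leaf 175104) (.leaf 299008)))) (.node (.node (.node (.node (.leaf 39936) (.leaf 165889)) (.leaf 232448)) (.node (.leaf 151552) (.leaf 288768))) (.node (.node (.node (.leaf 19512) (.leaf 233487)) (.leaf 111628)) (.node (.leaf 24614) (.leaf 251926))))) (.node (.node (.node (.node (.node (.leaf 15390) (.leaf 315392)) (.leaf 113681)) (.node (.leaf 139264) (.leaf 278530))) (.node (.node (.node (.leaf 82944) (.leaf 55296)) (.leaf 156700)) (.node (.leaf 185344) (.leaf 25600)))) (.node (.node (.node (.node (.leaf 0) (.leaf 313400)) (.leaf 242688)) (.node (.leaf 80896) (.leaf 289837))) (.node (.node (.leaf 110592) (.leaf 271360)) (.node (.leaf 204800) (.leaf 150564)))))))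

def twoMvX11 : Janko.Tree (ℕ) :=
  (.node (.node (.node (.node (.node (.node (.node (.leaf 4096) (.leaf 141322)) (.leaf 9216)) (.node (.leaf 119808) (.leaf 133123))) (.node (.node (.node (.leaf 62464) (.leaf 203811)) (.leaf 245760)) (.node (.leaf 168960) (.leaf 297984)))) (.node (.node (.node (.node (.leaf 34816) (.leaf 72739)) (.leaf 227328)) (.node (.leaf 147456) (.leaf 259127))) (.node (.node (.node (.leaf 92160) (.leaf 305192)) (.leaf 260096)) (.node (.leaf 161804) (.leaf 35896))))) (.node (.node (.node (.node (.node (.leaf 20480) (.leaf 198666)) (.leaf 219136)) (.node (.leaf 134144) (.leaf 31748))) (.node (.node (.node (.leaf 77824) (.leaf 311318)) (.leaf 228380)) (.node (.leaf 182272) (.leaf 231459)))) (.node (.node (.node (.node (.leaf 50176) (.leaf 43034)) (.leaf 239616)) (.node (.leaf 61481) (.leaf 59401))) (.node (.node (.node (.leaf 5148) (.leaf 261134)) (.leaf 266240)) (.node (.leaf 201728) (.leaf 29696)))))) (.node (.node (.node (.node (.node (.node (.leaf 12288) (.leaf 270392)) (.leaf 214016)) (.node (.leaf 125952) (.leaf 280576))) (.node (.node (.node (.leaf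 69632) (.leaf 124990)) (.leaf 226307)) (.node (.leaf 177152) (.leaf 212001)))) (.node (.node (.node (.node (.leaf 41984) (.leaf 304149)) (.leaf 66598)) (.node (.leaf 153600) (.leaf 21504))) (.node (.node (.node (.leaf 7183) (.leaf 93229)) (.leaf 264192)) (.node (.leaf 49174) (.leaf 307200))))) (.node (.node (.node (.node (.node (.leaf 26624) (.leaf 238609)) (.leaf 89095)) (.node (.leaf 140288) (.leaf 285696))) (.node (.node (.node (.leaf 84992) (.leaf 320547)) (.leaf 78906)) (.node (.leaf 187392) (.leaf 106510)))) (.node (.node (.node (.node (.leaf 56320) (.leaf 163878)) (.leaf 208916)) (.node (.leaf 162816) (.leaf 294912))) (.node (.node (.leaf 112640) (.leaf 98355)) (.node (.leaf 53305) (.leaf 41014)))))))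

def twoMvX12 : Janko.Tree (ℕ) :=
  (.node (.node (.node (.node (.node (.node (.node (.leaf 6144) (.leaf 91177)) (.leaf 76803)) (.node (.leaf 3072) (.leaf 217141))) (.node (.node (.node (.leaf 63488) (.leaf 300068)) (.leaf 174093)) (.node (.leaf 171008) (.leaf 135201)))) (.node (.node (.node (.node (.leaf 36864) (.leaf 37888)) (.leaf 11264)) (.node (.leaf 148480) (.leaf 64544))) (.node (.node (.node (.leaf 94208) (.leaf 188477)) (.leaf 262144)) (.node (.leaf 193536) (.leaf 145428))))) (.node (.node (.node (.node (.node (.leaf 22528) (.leaf 269312)) (.leaf 221184)) (.node (.leaf 136192) (.leaf 276537))) (.node (.node (.node (.leaf 79872) (.leaf 235520)) (.leaf 253952)) (.node (.leaf 129046) (.leaf 127037)))) (.node (.node (.node (.node (.leaf 52224) (.leaf 192528)) (.leaf 86035)) (.node (.leaf 158720) (.leaf 287773))) (.node (.node (.node (.leaf 107520) (.leaf 224303)) (.leaf 268288)) (.node (.leaf 202752) (.leaf 159744)))))) (.node (.node (.node (.node (.node (.node (.leaf 14336) (.leaf 314368)) (.leaf 120832)) (.node (.leaf 128000) (.leaf 229429))) (.node (.node (.node (.leaf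 71680) (.leaf 290833)) (.leaf 248832)) (.node (.leaf 178176) (.leaf 267299)))) (.node (.node (.node (.node (.leaf 44032) (.leaf 279592)) (.leaf 234496)) (.node (.leaf 131096) (.leaf 103482))) (.node (.node (.node (.leaf 100352) (.leaf 186428)) (.leaf 240687)) (.node (.leaf 197632) (.leaf 257083))))) (.node (.node (.node (.node (.node (.leaf 28672) (.leaf 97280)) (.leaf 84015)) (.node (.leaf 142336) (.leaf 286720))) (.node (.node (.node (.leaf 87040) (.leaf 282645)) (.leaf 74753)) (.node (.leaf 189440) (.leaf 215074)))) (.node (.node (.node (.node (.leaf 58368) (.leaf 317440)) (.leaf 243712)) (.node (.leaf 109609) (.leaf 247812))) (.node (.node (.leaf 114688) (.leaf 210968)) (.node (.leaf 205824) (.leaf 45100)))))))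

def twoMvX13 : Janko.Tree (ℕ) :=
  (.node (.node (.node (.node (.node (.node (.node (.leaf 8192) (.leaf 301088)) (.leaf 57363)) (.node (.leaf 122880) (.leaf 277504))) (.node (.node (.node (.leaf 65536) (.leaf 179236)) (.leaf 105502)) (.node (.leaf 173056) (.leaf 183346)))) (.node (.node (.node (.node (.leaf 38912) (.leaf 68622)) (.leaf 230400)) (.node (.leaf 149504) (.leaf 195608))) (.node (.node (.node (.leaf 96256) (.leaf 143377)) (.leaf 157731)) (.node (.leaf 167993) (.leaf 184361))))) (.node (.node (.node (.node (.node (.leaf 23552) (.leaf 220220)) (.leaf 223232)) (.node (.leaf 137216) (.leaf 284672))) (.node (.node (.node (.leaf 1024) (.leaf 249867)) (.leaf 254976)) (.node (.leaf 13353) (.leaf 302080)))) (.node (.node (.node (.node (.leaf 54272) (.leaf 200738)) (.leaf 241664)) (.node (.leaf 160768) (.leaf 293888))) (.node (.node (.leaf 108544) (.leaf 17408)) (.node (.leaf 154685) (.leaf 303127)))))) (.node (.node (.node (.node (.node (.node (.leaf 16384) (.leaf 138301)) (.leaf 216064)) (.node (.leaf 130048) (.leaf 101390))) (.node (.node (.node (.leaf 73728) (.leaf 292897))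 (.leaf 250880)) (.node (.leaf 116797) (.leaf 121883)))) (.node (.node (.node (.node (.leaf 46080) (.leaf 263178)) (.leaf 236544)) (.node (.leaf 51207) (.leaf 291840))) (.node (.node (.node (.leaf 102400) (.leaf 319535)) (.leaf 170005)) (.node (.leaf 70670) (.leaf 308224))))) (.node (.node (.node (.node (.node (.leaf 30720) (.leaf 281614)) (.leaf 225280)) (.node (.leaf 144384) (.leaf 47167))) (.node (.node (.node (.leaf 88064) (.leaf 99378)) (.leaf 258048)) (.node (.leaf 190464) (.leaf 273426)))) (.node (.node (.node (.node (.leaf 60416) (.leaf 318464)) (.leaf 194608)) (.node (.leaf 164864) (.leaf 295936))) (.node (.node (.leaf 115712) (.leaf 272384)) (.node (.leaf 207872) (.leaf 172060)))))))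

def twoMvX1 : Janko.Tree (ℕ) := (.node (.node twoMvX10 twoMvX12) (.node twoMvX11 twoMvX13))

theorem two_mvX10 : ((List.range 315).all fun i => movesOK twoCert twoT 315 972878353442982355945272500889956384 twoMvX1 (Nat.add 0 i)) = true := by decide +kernel

theorem two_mvX1 : ∀ i < 315, movesOK twoCert twoT 315 972878353442982355945272500889956384 twoMvX1 i = true := by
  intro i hi
  have := List.all_eq_true.1 two_mvX10 (i - 0) (List.mem_range.2 (by omega)); rwa [show Nat.add 0 (i - 0) = i from Nat.add_sub_cancel' (by omega)] at this


def twoMv00 : Janko.Tree (ℕ) :=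
  (.node (.node (.node (.node (.node (.node (.node (.leaf 2) (.leaf 230425)) (.leaf 225341)) (.node (.leaf 19481) (.leaf 210978))) (.node (.node (.node (.leaf 169010) (.leaf 181260)) (.leaf 119842)) (.node (.leaf 105521) (.leaf 9276)))) (.node (.node (.node (.node (.leaf 208932) (.leaf 290841)) (.leaf 3099)) (.node (.leaf 24590) (.leaf 248851))) (.node (.node (.node (.leaf 177162) (.leaf 21557)) (.leaf 64550)) (.node (.leaf 182272) (.leaf 113701))))) (.node (.node (.node (.node (.node (.leaf 103460) (.leaf 134160)) (.leaf 171008)) (.node (.leaf 112640) (.leaf 106498))) (.node (.node (.node (.leaf 243757) (.leaf 7225)) (.leaf 57396)) (.node (.leaf 313385) (.leaf 204849)))) (.node (.node (.node (.node (.leaf 268309) (.leaf 125992)) (.leaf 2049)) (.node (.leaf 266260) (.leaf 317479))) (.node (.node (.node (.leaf 312354) (.leaf 67640)) (.leaf 11308)) (.node (.leaf 228366) (.leaf 224291)))))) (.node (.node (.node (.node (.node (.node (.leaf 59398) (.leaf 233531)) (.leaf 17457)) (.node (.leaf 159772) (.leaf 124976))) (.node (.node (.node (.leaf 203834) (.leaf 23588)) (.leaf 89105))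 (.node (.leaf 274443) (.leaf 136243)))) (.node (.node (.node (.node (.leaf 164869) (.leaf 88123)) (.leaf 58418)) (.node (.leaf 101399) (.leaf 145467))) (.node (.node (.node (.leaf 4156) (.leaf 261180)) (.leaf 244752)) (.node (.leaf 26650) (.leaf 102461))))) (.node (.node (.node (.node (.node (.leaf 284707) (.leaf 27678)) (.leaf 303151)) (.node (.leaf 298047) (.leaf 16389))) (.node (.node (.node (.leaf 176151) (.leaf 85030)) (.leaf 45059)) (.node (.leaf 271400) (.leaf 307249)))) (.node (.node (.node (.node (.leaf 269351) (.leaf 216118)) (.leaf 156691)) (.node (.leaf 293937) (.leaf 245761))) (.node (.node (.leaf 70675) (.leaf 51232)) (.node (.leaf 55317) (.leaf 309296)))))))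

def twoMv01 : Janko.Tree (ℕ) :=
  (.node (.node (.node (.node (.node (.node (.node (.leaf 29722) (.leaf 69671)) (.leaf 221238)) (.node (.leaf 79884) (.leaf 87103))) (.node (.node (.node (.leaf 109598) (.leaf 270344)) (.leaf 146444)) (.node (.leaf 1071) (.leaf 38927)))) (.node (.node (.node (.node (.leaf 148519) (.leaf 175112)) (.leaf 185393)) (.node (.leaf 209925) (.leaf 201775))) (.node (.node (.node (.leaf 144433) (.leaf 123954)) (.leaf 190495)) (.node (.leaf 262175) (.leaf 219172))))) (.node (.node (.node (.node (.node (.leaf 133124) (.leaf 110626)) (.leaf 25630)) (.node (.leaf 308243) (.leaf 166966))) (.node (.node (.node (.leaf 93234) (.leaf 142336)) (.leaf 5137)) (.node (.leaf 196638) (.leaf 310291)))) (.node (.node (.node (.node (.leaf 288793) (.leaf 315427)) (.leaf 263187)) (.node (.leaf 240659) (.leaf 184342))) (.node (.node (.node (.leaf 50201) (.leaf 299035)) (.leaf 141354)) (.node (.leaf 172056) (.leaf 314380)))))) (.node (.node (.node (.node (.node (.node (.leaf 52248) (.leaf 150541)) (.leaf 90174)) (.node (.leaf 46141) (.leaf 139286))) (.node (.node (.node (.leaf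 126988) (.leaf 173077)) (.leaf 254986)) (.node (.leaf 257029) (.leaf 207896)))) (.node (.node (.node (.node (.leaf 80940) (.leaf 167942)) (.leaf 289795)) (.node (.leaf 36923) (.leaf 187422))) (.node (.node (.node (.leaf 43066) (.leaf 215079)) (.leaf 135198)) (.node (.leaf 192554) (.leaf 253965))))) (.node (.node (.node (.node (.node (.leaf 97306) (.leaf 276516)) (.leaf 151571)) (.node (.leaf 65538) (.leaf 235549))) (.node (.node (.node (.leaf 242746) (.leaf 280614)) (.leaf 121912)) (.node (.leaf 252969) (.leaf 61447)))) (.node (.node (.node (.node (.leaf 31749) (.leaf 297019)) (.leaf 258052)) (.node (.leaf 63536) (.leaf 186427))) (.node (.node (.leaf 202754) (.leaf 272441)) (.node (.leaf 246838) (.leaf 282671)))))))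

def twoMv02 : Janko.Tree (ℕ) :=
  (.node (.node (.node (.node (.node (.node (.node (.leaf 238647) (.leaf 165940)) (.leaf 6187)) (.node (.leaf 178200) (.leaf 213016))) (.node (.node (.node (.leaf 74779) (.leaf 291877)) (.leaf 147506)) (.node (.leaf 96266) (.leaf 143422)))) (.node (.node (.node (.node (.leaf 75830) (.leaf 34879)) (.leaf 294917)) (.node (.leaf 48189) (.leaf 30757))) (.node (.node (.node (.leaf 163878) (.leaf 237578)) (.leaf 77833)) (.node (.leaf 199723) (.leaf 193539))))) (.node (.node (.node (.node (.node (.leaf 302127) (.leaf 39997)) (.leaf 108559)) (.node (.leaf 12320) (.leaf 95284))) (.node (.node (.node (.leaf 54286) (.leaf 14397)) (.leaf 22579)) (.node (.leaf 137245) (.leaf 251919)))) (.node (.node (.node (.node (.leaf 33846) (.leaf 72721)) (.leaf 68623)) (.node (.leaf 81953) (.leaf 53256))) (.node (.node (.node (.leaf 223254) (.leaf 321562)) (.leaf 149532)) (.node (.leaf 28684) (.leaf 56380)))))) (.node (.node (.node (.node (.node (.node (.leaf 229429) (.leaf 92177)) (.leaf 189449)) (.node (.leaf 316446) (.leaf 42029))) (.node (.node (.node (.leaf 115763)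 (.leaf 241674)) (.leaf 183347)) (.node (.leaf 278568) (.leaf 195602)))) (.node (.node (.node (.node (.leaf 83990) (.leaf 18432)) (.leaf 212026)) (.node (.leaf 227365) (.leaf 130108))) (.node (.node (.node (.leaf 265268) (.leaf 236562)) (.leaf 98338)) (.node (.leaf 287762) (.leaf 239664))))) (.node (.node (.node (.node (.node (.leaf 205835) (.leaf 66619)) (.leaf 286777)) (.node (.leaf 275486) (.leaf 15410))) (.node (.node (.node (.leaf 154670) (.leaf 161798)) (.leaf 281609)) (.node (.leaf 73771) (.leaf 41018)))) (.node (.node (.node (.node (.leaf 71708) (.leaf 91168)) (.leaf 160807)) (.node (.leaf 153600) (.leaf 259110))) (.node (.node (.leaf 273430) (.leaf 194576)) (.node (.leaf 78887) (.leaf 283701)))))))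

def twoMv03 : Janko.Tree (ℕ) :=
  (.node (.node (.node (.node (.node (.node (.node (.leaf 264196) (.leaf 37914)) (.leaf 60447)) (.node (.leaf 44033) (.leaf 116764))) (.node (.node (.node (.leaf 292875) (.leaf 114728)) (.leaf 305215)) (.node (.leaf 86019) (.leaf 304160)))) (.node (.node (.node (.node (.leaf 129057) (.leaf 319525)) (.leaf 218152)) (.node (.leaf 301116) (.leaf 104491))) (.node (.node (.node (.leaf 300086) (.leaf 32768)) (.leaf 111624)) (.node (.leaf 311323) (.leaf 277508))))) (.node (.node (.node (.node (.node (.leaf 13358) (.leaf 206877)) (.leaf 138275)) (.node (.leaf 320514) (.leaf 318522))) (.node (.node (.node (.leaf 306199) (.leaf 157753)) (.leaf 10268)) (.node (.leaf 118800) (.leaf 35883)))) (.node (.node (.node (.node (.leaf 249903) (.leaf 256013)) (.leaf 234553)) (.node (.leaf 62486) (.leaf 285748))) (.node (.node (.leaf 295961) (.leaf 20530)) (.node (.leaf 217127) (.leaf 179217)))))) (.node (.node (.node (.node (.node (.node (.leaf 231444) (.leaf 200723)) (.leaf 232502)) (.node (.leaf 140298) (.leaf 197664))) (.node (.node (.node (.leaf 247825) (.leaf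 279593)) (.leaf 214018)) (.node (.leaf 226330) (.leaf 132137)))) (.node (.node (.node (.node (.leaf 76835) (.leaf 250920)) (.leaf 47153)) (.node (.leaf 260141) (.leaf 222252))) (.node (.node (.node (.leaf 152619) (.leaf 158755)) (.leaf 267307)) (.node (.leaf 162848) (.leaf 170024))))) (.node (.node (.node (.node (.node (.leaf 107573) (.leaf 198719)) (.leaf 191533)) (.node (.leaf 117799) (.leaf 100365))) (.node (.node (.node (.leaf 174132) (.leaf 155705)) (.leaf 8224)) (.node (.leaf 131109) (.leaf 220162)))) (.node (.node (.node (.node (.leaf 99347) (.leaf 122887)) (.leaf 49192)) (.node (.leaf 188450) (.leaf 94265))) (.node (.node (.leaf 180241) (.leaf 82975)) (.node (.leaf 128043) (.leaf 120845)))))))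

def twoMv0 : Janko.Tree (ℕ) := (.node (.node twoMv00 twoMv02) (.node twoMv01 twoMv03))

theorem two_mv00 : ((List.range 315).all fun i => movesOK twoCert twoT 315 (twoElt.get 2) twoMv0 (Nat.add 0 i)) = true := by decide +kernel

theorem two_mv0 : ∀ i < 315, movesOK twoCert twoT 315 (twoElt.get 2) twoMv0 i = true := by
  intro i hi
  have := List.all_eq_true.1 two_mv00 (i - 0) (List.mem_range.2 (by omega)); rwa [show Nat.add 0 (i - 0) = i from Nat.add_sub_cancel' (by omega)] at this


def twoMv10 : Janko.Tree (ℕ) :=
  (.node (.node (.node (.node (.node (.node (.node (.leaf 8) (.leaf 10275)) (.leaf 67634)) (.node (.leaf 102441) (.leaf 60479))) (.node (.node (.node (.leaf 188439) (.leaf 123951)) (.leaf 58401)) (.node (.leaf 51211) (.leaf 256046)))) (.node (.node (.node (.node (.leaf 116795) (.leaf 90175)) (.leaf 22543)) (.node (.leaf 106557) (.leaf 201784))) (.node (.node (.node (.leaf 173105) (.leaf 145431)) (.leaf 296973)) (.node (.leaf 306235) (.leaf 281622))))) (.node (.node (.node (.node (.node (.leaf 304132) (.leaf 24628)) (.leaf 130102)) (.node (.leaf 43037) (.leaf 196656)))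 (.node (.node (.node (.leaf 271393) (.leaf 37914)) (.leaf 49212)) (.node (.leaf 210961) (.leaf 107547)))) (.node (.node (.node (.node (.leaf 313352) (.leaf 103459)) (.leaf 25657)) (.node (.leaf 76808) (.leaf 53260))) (.node (.node (.node (.leaf 177177) (.leaf 236601)) (.leaf 283674)) (.node (.leaf 278580) (.leaf 191515)))))) (.node (.node (.node (.node (.node (.node (.leaf 245769) (.leaf 320528)) (.leaf 111653)) (.node (.leaf 230459) (.leaf 213041))) (.node (.node (.node (.leaf 108584) (.leaf 94241)) (.leaf 30736)) (.node (.leaf 285757) (.leaf 299033)))) (.node (.node (.node (.node (.leaf 78882) (.leaf 7174)) (.leaf 33794)) (.node (.leaf 176130) (.leaf 179262))) (.node (.node (.node (.leaf 225290) (.leaf 156682)) (.leaf 203818)) (.node (.leaf 226339) (.leaf 224314))))) (.node (.node (.node (.node (.node (.leaf 205838) (.leaf 250898)) (.leaf 265263)) (.node (.leaf 68616) (.leaf 199683))) (.node (.node (.node (.leaf 101400) (.leaf 62522)) (.leaf 86078)) (.node (.leaf 243764) (.leaf 93208)))) (.node (.node (.node (.node (.leaf 277520) (.leaf 266268)) (.leaf 38916)) (.node (.leaf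 216106) (.leaf 178223))) (.node (.node (.leaf 18441) (.leaf 144437)) (.node (.leaf 150591) (.leaf 238621)))))))

def twoMv11 : Janko.Tree (ℕ) :=
  (.node (.node (.node (.node (.node (.node (.node (.leaf 70661) (.leaf 262150)) (.leaf 223283)) (.node (.leaf 207924) (.leaf 189460))) (.node (.node (.node (.leaf 98337) (.leaf 81932)) (.leaf 65587)) (.node (.leaf 61466) (.leaf 302128)))) (.node (.node (.node (.node (.leaf 252982) (.leaf 287755)) (.leaf 169992)) (.node (.leaf 95259) (.leaf 246808))) (.node (.node (.node (.leaf 118810) (.leaf 121870)) (.leaf 172093)) (.node (.leaf 175105) (.leaf 269371))))) (.node (.node (.node (.node (.node (.leaf 56368) (.leaf 40989)) (.leaf 280600)) (.node (.leaf 160792) (.leaf 29738))) (.node (.node (.node (.leaf 275467) (.leaf 311306)) (.leaf 181304)) (.node (.leaf 134146) (.leaf 72719)))) (.node (.node (.node (.node (.leaf 34858) (.leaf 159791)) (.leaf 115770)) (.node (.leaf 244768) (.leaf 36880))) (.node (.node (.node (.leaf 109626) (.leaf 228397)) (.leaf 91192)) (.node (.leaf 162849) (.leaf 13349)))))) (.node (.node (.node (.node (.node (.node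 (.leaf 190466) (.leaf 259089)) (.leaf 23610)) (.node (.leaf 75806) (.leaf 219143))) (.node (.node (.node (.leaf 267291) (.leaf 294913)) (.leaf 11290)) (.node (.leaf 142350) (.leaf 241698)))) (.node (.node (.node (.node (.leaf 286741) (.leaf 215102)) (.leaf 165892)) (.node (.leaf 141348) (.leaf 88089))) (.node (.node (.node (.leaf 112675) (.leaf 314412)) (.leaf 183304)) (.node (.leaf 50200) (.leaf 146492))))) (.node (.node (.node (.node (.node (.leaf 89113) (.leaf 158738)) (.leaf 26673)) (.node (.leaf 249886) (.leaf 63512))) (.node (.node (.node (.leaf 12351) (.leaf 258111)) (.leaf 5168)) (.node (.leaf 212019) (.leaf 284718)))) (.node (.node (.node (.node (.leaf 46092) (.leaf 64534)) (.leaf 2099)) (.node (.leaf 77887) (.leaf 119832))) (.node (.node (.leaf 66604) (.leaf 135187)) (.node (.leaf 28712) (.leaf 303150)))))))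

def twoMv12 : Janko.Tree (ℕ) :=
  (.node (.node (.node (.node (.node (.node (.node (.leaf 288776) (.leaf 48145)) (.leaf 152613)) (.node (.leaf 132134) (.leaf 214048))) (.node (.node (.node (.leaf 161821) (.leaf 180259)) (.leaf 174127)) (.node (.leaf 272401) (.leaf 55359)))) (.node (.node (.node (.node (.leaf 305164) (.leaf 309253)) (.leaf 312330)) (.node (.leaf 229395) (.leaf 32806))) (.node (.node (.node (.leaf 151570) (.leaf 15396)) (.leaf 157744)) (.node (.leaf 16428) (.leaf 185377))))) (.node (.node (.node (.node (.node (.leaf 261149) (.leaf 17431)) (.leaf 240652)) (.node (.leaf 14339) (.leaf 182313))) (.node (.node (.node (.leaf 73767) (.leaf 99330)) (.leaf 133174)) (.node (.leaf 35898) (.leaf 47125)))) (.node (.node (.node (.node (.leaf 186384) (.leaf 74784)) (.leaf 195621)) (.node (.leaf 204826) (.leaf 131094))) (.node (.node (.node (.leaf 113694) (.leaf 321538)) (.leaf 57388)) (.node (.leaf 248858) (.leaf 3093)))))) (.node (.node (.node (.node (.node (.node (.leaf 289842) (.leaf 237605)) (.leaf 292886)) (.node (.leaf 254979) (.leaf 79898))) (.node (.node (.node (.leaf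 279573) (.leaf 42010)) (.leaf 96274)) (.node (.leaf 136195) (.leaf 273410)))) (.node (.node (.node (.node (.leaf 6154) (.leaf 166914)) (.leaf 247869)) (.node (.leaf 231487) (.leaf 200750))) (.node (.node (.node (.leaf 218139) (.leaf 4148)) (.leaf 192530)) (.node (.leaf 69672) (.leaf 154665))))) (.node (.node (.node (.node (.node (.leaf 1083) (.leaf 234526)) (.leaf 8204)) (.node (.leaf 318511) (.leaf 295997))) (.node (.node (.node (.leaf 239661) (.leaf 310323)) (.leaf 221229)) (.node (.leaf 54311) (.leaf 110603)))) (.node (.node (.node (.node (.leaf 169019) (.leaf 184328)) (.leaf 155693)) (.node (.leaf 39971) (.leaf 143362))) (.node (.node (.leaf 297998) (.leaf 194595)) (.node (.leaf 27698) (.leaf 316425)))))))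

def twoMv13 : Janko.Tree (ℕ) :=
  (.node (.node (.node (.node (.node (.node (.node (.leaf 83974) (.leaf 187446)) (.leaf 268351)) (.node (.leaf 82990) (.leaf 208934))) (.node (.node (.node (.leaf 222233) (.leaf 44042)) (.leaf 31773)) (.node (.leaf 45088) (.leaf 117803)))) (.node (.node (.node (.node (.leaf 274486) (.leaf 317481)) (.leaf 282682)) (.node (.leaf 202768) (.leaf 233512))) (.node (.node (.node (.leaf 149538) (.leaf 97329)) (.leaf 153605)) (.node (.leaf 217137) (.leaf 139278))))) (.node (.node (.node (.node (.node (.leaf 167962) (.leaf 114701)) (.leaf 21512)) (.node (.leaf 122901) (.leaf 307209))) (.node (.node (.node (.leaf 209951) (.leaf 235558)) (.leaf 315395)) (.node (.leaf 105531) (.leaf 220185)))) (.node (.node (.node (.node (.leaf 253955) (.leaf 147504)) (.leaf 301080)) (.node (.leaf 276540) (.leaf 20526))) (.node (.node (.leaf 92167) (.leaf 129083)) (.node (.leaf 257034) (.leaf 138270)))))) (.node (.node (.node (.node (.node (.node (.leaf 127012) (.leaf 198674)) (.leaf 80957)) (.node (.leaf 308279) (.leaf 137268))) (.node (.node (.node (.leaf 148514) (.leaf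 120874)) (.leaf 128049)) (.node (.leaf 163861) (.leaf 59439)))) (.node (.node (.node (.node (.leaf 293938) (.leaf 164870)) (.leaf 251951)) (.node (.leaf 71714) (.leaf 87046))) (.node (.node (.node (.leaf 264233) (.leaf 85025)) (.leaf 227355)) (.node (.leaf 52246) (.leaf 100414))))) (.node (.node (.node (.node (.node (.leaf 270396) (.leaf 171049)) (.leaf 19517)) (.node (.leaf 126001) (.leaf 193541))) (.node (.node (.node (.leaf 9236) (.leaf 140318)) (.leaf 232481)) (.node (.leaf 319521) (.leaf 197648)))) (.node (.node (.node (.node (.leaf 242742) (.leaf 104474)) (.leaf 300076)) (.node (.leaf 260147) (.leaf 290837))) (.node (.node (.leaf 291854) (.leaf 206855)) (.node (.leaf 124988) (.leaf 263212)))))))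

def twoMv1 : Janko.Tree (ℕ) := (.node (.node twoMv10 twoMv12) (.node twoMv11 twoMv13))

theorem two_mv10 : ((List.range 315).all fun i => movesOK twoCert twoT 315 (twoElt.get 8) twoMv1 (Nat.add 0 i)) = true := by decide +kernel

theorem two_mv1 : ∀ i < 315, movesOK twoCert twoT 315 (twoElt.get 8) twoMv1 i = true := by
  intro i hi
  have := List.all_eq_true.1 two_mv10 (i - 0) (List.mem_range.2 (by omega)); rwa [show Nat.add 0 (i - 0) = i from Nat.add_sub_cancel' (by omega)] at this


def twoMv20 : Janko.Tree (ℕ) :=
  (.node (.node (.node (.node (.node (.node (.node (.leaf 37) (.leaf 244761)) (.leaf 191543)) (.node (.leaf 4146) (.leaf 49161))) (.node (.node (.node (.leaf 105483) (.leaf 268325)) (.leaf 215091)) (.node (.leaf 314415) (.leaf 152599)))) (.node (.node (.node (.node (.leaf 116744) (.leaf 122928)) (.leaf 22581)) (.node (.leaf 294969) (.leaf 309305))) (.node (.node (.node (.leaf 15385) (.leaf 304174)) (.leaf 297021)) (.node (.leaf 63532) (.leaf 164922))))) (.node (.node (.node (.node (.node (.leaf 145457) (.leaf 172057)) (.leaf 34821)) (.node (.leaf 54298) (.leaf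 52247))) (.node (.node (.node (.leaf 110636) (.leaf 247828)) (.leaf 60424)) (.node (.leaf 5139) (.leaf 300093)))) (.node (.node (.node (.node (.leaf 149520) (.leaf 103463)) (.leaf 269336)) (.node (.leaf 299063) (.leaf 274482))) (.node (.node (.node (.leaf 134170) (.leaf 250902)) (.leaf 26678)) (.node (.leaf 216102) (.leaf 67607)))))) (.node (.node (.node (.node (.node (.node (.leaf 129076) (.leaf 320524)) (.leaf 227382)) (.node (.leaf 87044) (.leaf 2072))) (.node (.node (.node (.leaf 159762) (.leaf 233475)) (.leaf 151599)) (.node (.leaf 132102) (.leaf 76824)))) (.node (.node (.node (.node (.leaf 225312) (.leaf 135203)) (.leaf 260101)) (.node (.leaf 45069) (.leaf 179261))) (.node (.node (.node (.leaf 78898) (.leaf 141362)) (.leaf 115728)) (.node (.leaf 97292) (.leaf 221214))))) (.node (.node (.node (.node (.node (.leaf 242713) (.leaf 236570)) (.leaf 193554)) (.node (.leaf 206892) (.leaf 199730))) (.node (.node (.node (.leaf 86025) (.leaf 318466)) (.leaf 101383)) (.node (.leaf 40971) (.leaf 158733)))) (.node (.node (.node (.node (.leaf 310281) (.leaf 293920)) (.leaf 197669))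 (.node (.leaf 278582) (.leaf 146470))) (.node (.node (.leaf 284731) (.leaf 71726)) (.node (.leaf 211999) (.leaf 198678)))))))

def twoMv21 : Janko.Tree (ℕ) :=
  (.node (.node (.node (.node (.node (.node (.node (.leaf 305212) (.leaf 36879)) (.leaf 27711)) (.node (.leaf 202810) (.leaf 263198))) (.node (.node (.node (.leaf 11270) (.leaf 57373)) (.leaf 131085)) (.node (.leaf 14395) (.leaf 184328)))) (.node (.node (.node (.node (.leaf 88100) (.leaf 91154)) (.leaf 282674)) (.node (.leaf 157699) (.leaf 308245))) (.node (.node (.node (.leaf 167961) (.leaf 270351)) (.leaf 24585)) (.node (.leaf 220162) (.leaf 25631))))) (.node (.node (.node (.node (.node (.leaf 56326) (.leaf 243775)) (.leaf 128013)) (.node (.leaf 171033) (.leaf 1076))) (.node (.node (.node (.leaf 79926) (.leaf 80911)) (.leaf 204808)) (.node (.leaf 177190) (.leaf 124950)))) (.node (.node (.node (.node (.leaf 130074) (.leaf 108574)) (.leaf 203809)) (.node (.leaf 10262) (.leaf 262190))) (.node (.node (.node (.leaf 89100) (.leaf 136249)) (.leaf 287751)) (.node (.leaf 295991) (.leaf 186406)))))) (.node (.node (.node (.node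 (.node (.node (.leaf 237623) (.leaf 183350)) (.leaf 23600)) (.node (.leaf 12297) (.leaf 74807))) (.node (.node (.node (.leaf 100385) (.leaf 106550)) (.leaf 98349)) (.node (.leaf 217114) (.leaf 307248)))) (.node (.node (.node (.node (.leaf 232488) (.leaf 58377)) (.leaf 133142)) (.node (.leaf 156675) (.leaf 252976))) (.node (.node (.node (.leaf 73761) (.leaf 51255)) (.leaf 259121)) (.node (.leaf 316472) (.leaf 178224))))) (.node (.node (.node (.node (.node (.leaf 109601) (.leaf 93188)) (.leaf 283681)) (.node (.leaf 59421) (.leaf 306211))) (.node (.node (.node (.leaf 75824) (.leaf 139312)) (.leaf 210981)) (.node (.leaf 150537) (.leaf 18481)))) (.node (.node (.node (.node (.leaf 166973) (.leaf 64535)) (.leaf 213016)) (.node (.leaf 298018) (.leaf 168987))) (.node (.node (.leaf 276516) (.leaf 7184)) (.node (.leaf 288822) (.leaf 17438)))))))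

def twoMv22 : Janko.Tree (ℕ) :=
  (.node (.node (.node (.node (.node (.node (.node (.leaf 28711) (.leaf 48184)) (.leaf 256016)) (.node (.leaf 285745) (.leaf 161829))) (.node (.node (.node (.leaf 214036) (.leaf 180282)) (.leaf 84008)) (.node (.leaf 55342) (.leaf 272426)))) (.node (.node (.node (.node (.leaf 70689) (.leaf 201773)) (.leaf 92187)) (.node (.leaf 3120) (.leaf 192526))) (.node (.node (.node (.leaf 30774) (.leaf 173069)) (.leaf 95290)) (.node (.leaf 16409) (.leaf 231480))))) (.node (.node (.node (.node (.node (.leaf 35890) (.leaf 303112)) (.leaf 120862)) (.node (.leaf 61451) (.leaf 114693))) (.node (.node (.node (.leaf 112678) (.leaf 31760)) (.leaf 165944)) (.node (.leaf 261162) (.leaf 47107)))) (.node (.node (.node (.node (.leaf 13359) (.leaf 219172)) (.leaf 235574)) (.node (.leaf 181285) (.leaf 65537))) (.node (.node (.node (.leaf 19492) (.leaf 321551)) (.leaf 81940)) (.node (.leaf 155694) (.leaf 229385)))))) (.node (.node (.node (.node (.node (.node (.leaf 289846) (.leaf 190474)) (.leaf 315420)) (.node (.leaf 163891) (.leaf 275479))) (.node (.node (.node (.leaf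 222247) (.leaf 234508)) (.leaf 187437)) (.node (.leaf 228378) (.leaf 44052)))) (.node (.node (.node (.node (.leaf 264206) (.leaf 46096)) (.leaf 37910)) (.node (.leaf 185401) (.leaf 140309))) (.node (.node (.node (.leaf 153648) (.leaf 102401)) (.leaf 32810)) (.node (.leaf 137233) (.leaf 154627))))) (.node (.node (.node (.node (.node (.leaf 29729) (.leaf 42035)) (.leaf 257047)) (.node (.leaf 62494) (.leaf 162864))) (.node (.node (.node (.leaf 239654) (.leaf 277550)) (.leaf 224260)) (.node (.leaf 43036) (.leaf 271397)))) (.node (.node (.node (.node (.leaf 119865) (.leaf 302128)) (.leaf 248869)) (.node (.leaf 126978) (.leaf 148516))) (.node (.node (.leaf 77829) (.leaf 194621)) (.node (.leaf 223266) (.leaf 50215)))))))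

def twoMv23 : Janko.Tree (ℕ) :=
  (.node (.node (.node (.node (.node (.node (.node (.leaf 174082) (.leaf 96265)) (.leaf 123958)) (.node (.leaf 209953) (.leaf 208938))) (.node (.node (.node (.leaf 279586) (.leaf 273453)) (.leaf 99373)) (.node (.leaf 176134) (.leaf 117812)))) (.node (.node (.node (.node (.leaf 53303) (.leaf 253997)) (.leaf 170030)) (.node (.leaf 207880) (.leaf 94270))) (.node (.node (.node (.leaf 313382) (.leaf 226343)) (.leaf 218113)) (.node (.leaf 142355) (.leaf 258081))))) (.node (.node (.node (.node (.node (.leaf 118815) (.leaf 182307)) (.leaf 21559)) (.node (.leaf 90162) (.leaf 241693))) (.node (.node (.node (.leaf 83003) (.leaf 195635)) (.leaf 292883)) (.node (.leaf 188446) (.leaf 175136)))) (.node (.node (.node (.node (.leaf 317490) (.leaf 9237)) (.leaf 85054)) (.node (.leaf 66614) (.leaf 319502))) (.node (.node (.leaf 312322) (.leaf 245815)) (.node (.leaf 8255) (.leaf 125998)))))) (.node (.node (.node (.node (.node (.node (.leaf 39967) (.leaf 238646)) (.leaf 311326)) (.node (.leaf 246801) (.leaf 69653))) (.node (.node (.node (.leaf 143383) (.leaf 240684))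 (.leaf 280639)) (.node (.leaf 255027) (.leaf 249874)))) (.node (.node (.node (.node (.leaf 266246) (.leaf 281638)) (.leaf 251940)) (.node (.leaf 144408) (.leaf 230423))) (.node (.node (.node (.leaf 6207) (.leaf 301097)) (.leaf 111674)) (.node (.leaf 196626) (.leaf 267327))))) (.node (.node (.node (.node (.node (.leaf 121919) (.leaf 160831)) (.leaf 113724)) (.node (.leaf 138267) (.leaf 265230))) (.node (.node (.node (.leaf 147461) (.leaf 200760)) (.leaf 286751)) (.node (.leaf 20502) (.leaf 38927)))) (.node (.node (.node (.node (.leaf 205860) (.leaf 104470)) (.leaf 107578)) (.node (.leaf 33828) (.leaf 290878))) (.node (.node (.leaf 291851) (.leaf 68664)) (.node (.leaf 72715) (.leaf 189489)))))))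

def twoMv2 : Janko.Tree (ℕ) := (.node (.node twoMv20 twoMv22) (.node twoMv21 twoMv23))

theorem two_mv20 : ((List.range 315).all fun i => movesOK twoCert twoT 315 (twoElt.get 37) twoMv2 (Nat.add 0 i)) = true := by decide +kernel

theorem two_mv2 : ∀ i < 315, movesOK twoCert twoT 315 (twoElt.get 37) twoMv2 i = true := by
  intro i hi
  have := List.all_eq_true.1 two_mv20 (i - 0) (List.mem_range.2 (by omega)); rwa [show Nat.add 0 (i - 0) = i from Nat.add_sub_cancel' (by omega)] at this


def twoMv30 : Janko.Tree (ℕ) :=
  (.node (.node (.node (.node (.node (.node (.node (.leaf 49) (.leaf 219167)) (.leaf 255005)) (.node (.leaf 192557) (.leaf 111621))) (.node (.node (.node (.leaf 132103) (.leaf 267313)) (.leaf 285703)) (.node (.leaf 146435) (.leaf 6156)))) (.node (.node (.node (.node (.leaf 208908) (.leaf 290817)) (.leaf 133138)) (.node (.leaf 252954) (.leaf 38923))) (.node (.node (.node (.leaf 150533) (.leaf 21555)) (.leaf 64562)) (.node (.leaf 95293) (.leaf 32829))))) (.node (.node (.node (.node (.node (.leaf 103453) (.leaf 212018)) (.leaf 69664)) (.node (.leaf 43071) (.leaf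 148530))) (.node (.node (.node (.leaf 271364) (.leaf 190503)) (.leaf 265242)) (.node (.leaf 153630) (.leaf 100361)))) (.node (.node (.node (.node (.leaf 39997) (.leaf 304150)) (.leaf 240683)) (.node (.leaf 136253) (.leaf 314380))) (.node (.node (.node (.leaf 259105) (.leaf 316478)) (.leaf 4101)) (.node (.leaf 293932) (.leaf 109579)))))) (.node (.node (.node (.node (.node (.node (.leaf 71695) (.leaf 122888)) (.leaf 60429)) (.node (.leaf 269348) (.leaf 263228))) (.node (.node (.node (.leaf 280604) (.leaf 23574)) (.leaf 221189)) (.node (.leaf 58419) (.leaf 266297)))) (.node (.node (.node (.node (.leaf 151555) (.leaf 172057)) (.leaf 274442)) (.node (.leaf 176189) (.leaf 138298))) (.node (.node (.node (.leaf 11288) (.leaf 246824)) (.leaf 258065)) (.node (.leaf 250927) (.leaf 98343))))) (.node (.node (.node (.node (.node (.leaf 305210) (.leaf 226341)) (.leaf 49196)) (.node (.leaf 273457) (.leaf 16418))) (.node (.node (.node (.leaf 101437) (.leaf 41992)) (.leaf 86076)) (.node (.leaf 243718) (.leaf 318506)))) (.node (.node (.node (.node (.leaf 159782) (.leaf 299015)) (.leaf 201747))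 (.node (.leaf 228411) (.leaf 260141))) (.node (.node (.leaf 18459) (.leaf 253976)) (.node (.leaf 173088) (.leaf 141330)))))))

def twoMv31 : Janko.Tree (ℕ) :=
  (.node (.node (.node (.node (.node (.node (.node (.leaf 166944) (.leaf 171016)) (.leaf 89140)) (.node (.leaf 158778) (.leaf 74796))) (.node (.node (.node (.leaf 224261) (.leaf 185400)) (.leaf 105492)) (.node (.leaf 46136) (.leaf 248872)))) (.node (.node (.node (.node (.leaf 106509) (.leaf 200740)) (.leaf 270386)) (.node (.leaf 306233) (.leaf 156719))) (.node (.node (.node (.leaf 249873) (.leaf 126995)) (.leaf 7181)) (.node (.leaf 198685) (.leaf 230438))))) (.node (.node (.node (.node (.node (.leaf 3116) (.leaf 41001)) (.leaf 108575)) (.node (.leaf 35889) (.leaf 29706))) (.node (.node (.node (.leaf 275478) (.leaf 232449)) (.leaf 227367)) (.node (.leaf 247866) (.leaf 292868)))) (.node (.node (.node (.node (.leaf 184330) (.leaf 277541)) (.leaf 124980)) (.node (.leaf 2092) (.leaf 288825))) (.node (.node (.node (.leaf 191491) (.leaf 216103)) (.leaf 309289)) (.node (.leaf 88118) (.leaf 317479)))))) (.node (.node (.node (.node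 (.node (.node (.leaf 37909) (.leaf 177204)) (.leaf 94215)) (.node (.leaf 1045) (.leaf 10248))) (.node (.node (.node (.leaf 123905) (.leaf 55328)) (.leaf 225292)) (.node (.leaf 80904) (.leaf 276486)))) (.node (.node (.node (.node (.leaf 257071) (.leaf 131135)) (.leaf 289817)) (.node (.leaf 238651) (.leaf 162826))) (.node (.node (.node (.leaf 112670) (.leaf 53292)) (.leaf 237618)) (.node (.leaf 19462) (.leaf 51205))))) (.node (.node (.node (.node (.node (.leaf 223268) (.leaf 207923)) (.leaf 164877)) (.node (.leaf 118799) (.leaf 206881))) (.node (.node (.node (.leaf 12303) (.leaf 203787)) (.leaf 231445)) (.node (.leaf 24620) (.leaf 31770)))) (.node (.node (.node (.node (.leaf 61474) (.leaf 297022)) (.leaf 244762)) (.node (.leaf 82983) (.leaf 20488))) (.node (.node (.leaf 66588) (.leaf 15364)) (.node (.leaf 261131) (.leaf 300057)))))))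

def twoMv32 : Janko.Tree (ℕ) :=
  (.node (.node (.node (.node (.node (.node (.node (.leaf 36919) (.leaf 229435)) (.leaf 9251)) (.node (.leaf 188424) (.leaf 120891))) (.node (.node (.node (.leaf 87089) (.leaf 291868)) (.leaf 264238)) (.node (.leaf 295950) (.leaf 294949)))) (.node (.node (.node (.node (.leaf 205840) (.leaf 91197)) (.leaf 143372)) (.node (.leaf 48148) (.leaf 281631))) (.node (.node (.node (.leaf 78896) (.leaf 135195)) (.leaf 44033)) (.node (.leaf 199739) (.leaf 81957))))) (.node (.node (.node (.node (.node (.leaf 28683) (.leaf 268309)) (.leaf 25648)) (.node (.leaf 242716) (.leaf 182293))) (.node (.node (.node (.leaf 73756) (.leaf 99342)) (.leaf 22583)) (.node (.leaf 160772) (.leaf 251927)))) (.node (.node (.node (.node (.leaf 129041) (.leaf 189447)) (.leaf 195611)) (.node (.leaf 193555) (.leaf 215071))) (.node (.node (.node (.leaf 97317) (.leaf 321555)) (.leaf 218168)) (.node (.leaf 302094) (.leaf 56344)))))) (.node (.node (.node (.node (.node (.node (.leaf 165946) (.leaf 183337)) (.leaf 72753)) (.node (.leaf 67591) (.leaf 85054))) (.node (.node (.node (.leaf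 128028) (.leaf 62491)) (.leaf 92182)) (.node (.leaf 76815) (.leaf 68639)))) (.node (.node (.node (.node (.leaf 256051) (.leaf 70702)) (.leaf 134155)) (.node (.leaf 5167) (.leaf 287780))) (.node (.node (.node (.leaf 57370) (.leaf 283684)) (.leaf 102420)) (.node (.leaf 130058) (.leaf 239631))))) (.node (.node (.node (.node (.node (.leaf 75821) (.leaf 202798)) (.leaf 217106)) (.node (.leaf 93239) (.leaf 272421))) (.node (.node (.node (.leaf 154626) (.leaf 222211)) (.leaf 30779)) (.node (.leaf 54294) (.leaf 110599)))) (.node (.node (.node (.node (.leaf 59415) (.leaf 34844)) (.leaf 137252)) (.node (.leaf 313353) (.leaf 312383))) (.node (.node (.leaf 298035) (.leaf 194590)) (.node (.leaf 163892) (.leaf 236573)))))))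

def twoMv33 : Janko.Tree (ℕ) :=
  (.node (.node (.node (.node (.node (.node (.node (.leaf 147477) (.leaf 52262)) (.leaf 17442)) (.node (.leaf 77833) (.leaf 116766))) (.node (.node (.node (.leaf 310328) (.leaf 157723)) (.leaf 284686)) (.node (.leaf 45116) (.leaf 125979)))) (.node (.node (.node (.node (.leaf 33831) (.leaf 13350)) (.leaf 149512)) (.node (.leaf 234556) (.leaf 104500))) (.node (.node (.node (.leaf 282626) (.leaf 113682)) (.leaf 210975)) (.node (.leaf 8209) (.leaf 315430))))) (.node (.node (.node (.node (.node (.leaf 319501) (.leaf 235553)) (.leaf 145433)) (.node (.leaf 320515) (.leaf 307228))) (.node (.node (.node (.leaf 209957) (.leaf 114731)) (.leaf 139313)) (.node (.leaf 65561) (.leaf 308260)))) (.node (.node (.node (.node (.leaf 144435) (.leaf 83992)) (.leaf 301113)) (.node (.leaf 241719) (.leaf 119844))) (.node (.node (.leaf 96280) (.leaf 186415)) (.node (.leaf 286754) (.leaf 179254)))))) (.node (.node (.node (.node (.node (.node (.leaf 121909) (.leaf 175115)) (.leaf 142370)) (.node (.leaf 220171) (.leaf 155683))) (.node (.node (.node (.leaf 196668) (.leaf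 214024)) (.leaf 279559)) (.node (.leaf 27677) (.leaf 168979)))) (.node (.node (.node (.node (.leaf 278543) (.leaf 26671)) (.leaf 47122)) (.node (.leaf 245761) (.leaf 161813))) (.node (.node (.node (.leaf 174103) (.leaf 79893)) (.leaf 181300)) (.node (.leaf 187400) (.leaf 107526))))) (.node (.node (.node (.node (.node (.leaf 170003) (.leaf 262176)) (.leaf 50185)) (.node (.leaf 117782) (.leaf 204850))) (.node (.node (.node (.leaf 152579) (.leaf 197637)) (.leaf 311312)) (.node (.leaf 167984) (.leaf 140320)))) (.node (.node (.node (.node (.leaf 14384) (.leaf 233530)) (.leaf 303164)) (.node (.leaf 178190) (.leaf 90140))) (.node (.node (.leaf 180234) (.leaf 63539)) (.node (.leaf 115735) (.leaf 213031)))))))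

def twoMv3 : Janko.Tree (ℕ) := (.node (.node twoMv30 twoMv32) (.node twoMv31 twoMv33))

theorem two_mv30 : ((List.range 315).all fun i => movesOK twoCert twoT 315 (twoElt.get 49) twoMv3 (Nat.add 0 i)) = true := by decide +kernel

theorem two_mv3 : ∀ i < 315, movesOK twoCert twoT 315 (twoElt.get 49) twoMv3 i = true := by
  intro i hi
  have := List.all_eq_true.1 two_mv30 (i - 0) (List.mem_range.2 (by omega)); rwa [show Nat.add 0 (i - 0) = i from Nat.add_sub_cancel' (by omega)] at this


theorem two_comm : CoverCocycle.mI twoCert 49 37 = CoverCocycle.mI twoCert 37 49 ∧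
    CoverCocycle.mI twoCert 8 2 = CoverCocycle.mI twoCert 2 8 := by decide +kernel

theorem two_value0a : ((CoverTable.evalSum twoCert twoVala.get 315 (fun j => twoMv3.get j % 1024) (fun j => twoMv2.get j / 1024) (fun j => twoMv2.get j % 1024) : ℕ) : ZMod 4) - ((CoverTable.evalSum twoCert twoVala.get 315 (fun j => twoMv2.get j % 1024) (fun j => twoMv3.get j / 1024) (fun j => twoMv3.get j % 1024) : ℕ) : ZMod 4) = 1 := by
  decide +kernel

theorem two_value0b : ((CoverTable.evalSum twoCert twoValb.get 315 (fun j => twoMv3.get j % 1024) (fun j => twoMv2.get j / 1024) (fun j => twoMv2.get j % 1024) : ℕ) : ZMod 4) - ((CoverTable.evalSum twoCert twoValb.get 315 (fun j => twoMv2.get j % 1024) (fun j => twoMv3.get j / 1024) (fun j => twoMv3.get j % 1024) : ℕ) : ZMod 4) = 0 := by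
  decide +kernel

theorem two_value1a : ((CoverTable.evalSum twoCert twoVala.get 315 (fun j => twoMv1.get j % 1024) (fun j => twoMv0.get j / 1024) (fun j => twoMv0.get j % 1024) : ℕ) : ZMod 4) - ((CoverTable.evalSum twoCert twoVala.get 315 (fun j => twoMv0.get j % 1024) (fun j => twoMv1.get j / 1024) (fun j => twoMv1.get j % 1024) : ℕ) : ZMod 4) = 1 := by
  decide +kernel

theorem two_value1b : ((CoverTable.evalSum twoCert twoValb.get 315 (fun j => twoMv1.get j % 1024) (fun j => twoMv0.get j / 1024) (fun j => twoMv0.get j % 1024) : ℕ) : ZMod 4) - ((CoverTable.evalSum twoCert twoValb.get 315 (fun j => twoMv0.get j % 1024) (fun j => twoMv1.get j / 1024) (fun j => twoMv1.get j % 1024) : ℕ) : ZMod 4) = 1 := by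
  decide +kernel

end Cfsg.Agent.Lie.LThreeFourMult
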