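import Cfsg.Agent.Lib.Lie.CoverAssemble
import Cfsg.Agent.Lib.Lie.LThreeFourMult.TwoCover
import Cfsg.Agent.Lib.Lie.LThreeFourMult.SixCover
import Cfsg.Agent.Lib.Lie.LThreeFourMult.Three

/-!
The Schur multiplier of the linear group of degree three over four elements.
-/

set_option autoImplicit false
set_option maxRecDepth 100000

noncomputable section

namespace Cfsg.Agent.Lie.LThreeFourMult

open Cfsg Cfsg.Agent.Lie GolayCover CoverCocycle

universe u

variable {G : Type u} [Group G] (M : Model G)

section

variable (hF : M.F = [23, 0, 1])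

/-- The table at two. -/
def dataTwo : CentralBound.Data twoCert G :=
  M.data twoCert twoGens (hF ▸ two_gens.1) rfl rfl rfl two_valid twoOrd two_ord

/-- The table on the subgroup of order 360. -/
def dataSix : CentralBound.Data sixCert G :=
  M.data sixCert sixGens (hF ▸ six_gens) rfl rfl rfl six_valid sixOrd six_ord

include hF

theorem xs_ok : gensX.all (memOK M.F) = true := hF ▸ gens_ok.2

theorem code_two {i : ℕ} (hi : i < 64) : M.code (CoverTable.el (dataTwo M hF) i) = twoElt.get i :=
  CoverTable.el_code (dataTwo M hF) hi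

theorem code_six {i : ℕ} (hi : i < 360) : M.code (CoverTable.el (dataSix M hF) i) = sixElt.get i :=
  CoverTable.el_code (dataSix M hF) hi

variable (hcard : Nat.card G = 20160)
include hcard

theorem closure_top : Subgroup.closure {g | ∃ e ∈ gensX, g = M.elem e.1} = ⊤ :=
  M.closure_eq_top gensX (xs_ok M hF) chainX chainX_ok (by rw [chainX_size, hcard])

theorem perfect : commutator G = ⊤ :=
  M.perfect gensC (hF ▸ gens_ok.1) (by rw [gensX_eq]; exact closure_top M hF hcard)

theorem mvs_two : ∀ i < gensX.length, ∀ j < 315,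
    movesOK twoCert twoT 315 (gensX.getD i (0, 0)).1 ([twoMvX0, twoMvX1].getD i (.leaf 0)) j = true := by
  intro i hi j hj
  match i, hi with
  | 0, _ => exact two_mvX0 j hj
  | 1, _ => exact two_mvX1 j hj
  | k + 2, h => exact absurd (show k + 2 < 2 from h) (by omega)

theorem mvs_six : ∀ i < gensX.length, ∀ j < 56,
    movesOK sixCert sixT 56 (gensX.getD i (0, 0)).1 ([sixMvX0, sixMvX1].getD i (.leaf 0)) j = true := by
  intro i hi j hj
  match i, hi with
  | 0, _ => exact six_mvX0 j hj
  | 1, _ => exact six_mvX1 j hj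
  | k + 2, h => exact absurd (show k + 2 < 2 from h) (by omega)

variable [Finite G]

/-- The cosets at two. -/
def cosTwo : CoverTable.Cos (dataTwo M hF) :=
  M.cos (dataTwo M hF) rfl (xs_ok M hF) (closure_top M hF hcard) (Nat.succ_pos _)
    (by rw [hcard]; rfl) two_T [twoMvX0, twoMvX1] (mvs_two M hF hcard)

/-- The cosets at three. -/
def cosSix : CoverTable.Cos (dataSix M hF) :=
  M.cos (dataSix M hF) rfl (xs_ok M hF) (closure_top M hF hcard) (Nat.succ_pos _)
    (by rw [hcard]; rfl) six_T [sixMvX0, sixMvX1] (mvs_six M hF hcard)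

theorem moves_two {i : ℕ} (hi : i < 64) {mv : Janko.Tree ℕ}
    (h : ∀ j < 315, movesOK twoCert twoT 315 (twoElt.get i) mv j = true) :
    CoverTable.Moves (dataTwo M hF) 315 (fun j => M.elem (twoT.get j)) (CoverTable.el (dataTwo M hF) i)
      (fun j => mv.get j / 1024) (fun j => mv.get j % 1024) :=
  M.moves (dataTwo M hF) rfl (M.exists_T (xs_ok M hF) two_T) (code_two M hF hi) h

theorem moves_six {i : ℕ} (hi : i < 360) {mv : Janko.Tree ℕ}
    (h : ∀ j < 56, movesOK sixCert sixT 56 (sixElt.get i) mv j = true) :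
    CoverTable.Moves (dataSix M hF) 56 (fun j => M.elem (sixT.get j)) (CoverTable.el (dataSix M hF) i)
      (fun j => mv.get j / 1024) (fun j => mv.get j % 1024) :=
  M.moves (dataSix M hF) rfl (M.exists_T (xs_ok M hF) six_T) (code_six M hF hi) h

theorem comm_two {i j : ℕ} (hi : i < 64) (hj : j < 64) (h : mI twoCert i j = mI twoCert j i) :
    CoverTable.el (dataTwo M hF) i * CoverTable.el (dataTwo M hF) j =
      CoverTable.el (dataTwo M hF) j * CoverTable.el (dataTwo M hF) i := by
  rw [(CoverTable.el_mul (dataTwo M hF) hi hj).2, (CoverTable.el_mul (dataTwo M hF) hj hi).2, h]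

theorem comm_six : CoverTable.el (dataSix M hF) 108 * CoverTable.el (dataSix M hF) 306 =
      CoverTable.el (dataSix M hF) 306 * CoverTable.el (dataSix M hF) 108 := by
  rw [(CoverTable.el_mul (dataSix M hF) (i := 108) (j := 306) (show 108 < 360 by norm_num) (show 306 < 360 by norm_num)).2,
    (CoverTable.el_mul (dataSix M hF) (i := 306) (j := 108) (show 306 < 360 by norm_num) (show 108 < 360 by norm_num)).2, six_comm]

/-- The cocycle. -/
def cover : Cocycle G (ZMod 3 × ZMod 4 × ZMod 4) :=
  CoverAssemble.prod ((cosSix M hF hcard).cocycle sixVala.get 3 six_lefta six_wda)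
    (CoverAssemble.prod ((cosTwo M hF hcard).cocycle twoVala.get 4 two_lefta two_wda)
      ((cosTwo M hF hcard).cocycle twoValb.get 4 two_leftb two_wdb))

theorem value_two (val : ℕ → ℕ) (hL : ∀ i < 64, leftOK twoCert val 4 i = true)
    (hT : ∀ i < 64, treeOK twoCert val 4 i = true) {i j : ℕ} (hi : i < 64) (hj : j < 64)
    {mi mj : Janko.Tree ℕ} (h1 : ∀ t < 315, movesOK twoCert twoT 315 (twoElt.get i) mi t = true)
    (h2 : ∀ t < 315, movesOK twoCert twoT 315 (twoElt.get j) mj t = true) {v : ZMod 4}
    (hv : ((CoverTable.evalSum twoCert val 315 (fun t => mi.get t % 1024) (fun t => mj.get t / 1024) (fun t => mj.get t % 1024) : ℕ) : ZMod 4) -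
      ((CoverTable.evalSum twoCert val 315 (fun t => mj.get t % 1024) (fun t => mi.get t / 1024) (fun t => mi.get t % 1024) : ℕ) : ZMod 4) = v) :
    ((cosTwo M hF hcard).cocycle val 4 hL hT).f (CoverTable.el (dataTwo M hF) i) (CoverTable.el (dataTwo M hF) j) -
      ((cosTwo M hF hcard).cocycle val 4 hL hT).f (CoverTable.el (dataTwo M hF) j) (CoverTable.el (dataTwo M hF) i) = v := by
  have m1 := moves_two M hF hcard hi h1
  have m2 := moves_two M hF hcard hj h2
  rw [(cosTwo M hF hcard).cocycle_eval val 4 hL hT m1 m2, (cosTwo M hF hcard).cocycle_eval val 4 hL hT m2 m1]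
  exact hv

theorem value_six : ((cosSix M hF hcard).cocycle sixVala.get 3 six_lefta six_wda).f
      (CoverTable.el (dataSix M hF) 108) (CoverTable.el (dataSix M hF) 306) -
    ((cosSix M hF hcard).cocycle sixVala.get 3 six_lefta six_wda).f
      (CoverTable.el (dataSix M hF) 306) (CoverTable.el (dataSix M hF) 108) = 2 := by
  have m1 := moves_six M hF hcard (i := 108) (by norm_num) six_mv0
  have m2 := moves_six M hF hcard (i := 306) (by norm_num) six_mv1
  rw [(cosSix M hF hcard).cocycle_eval sixVala.get 3 six_lefta six_wda m1 m2,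
    (cosSix M hF hcard).cocycle_eval sixVala.get 3 six_lefta six_wda m2 m1]
  exact six_value0a

theorem cover_stem : Cfsg.IsStemExtension (proj (cover M hF hcard)) := by
  refine CoverCocycle.stem (cover M hF hcard)
    ![CoverTable.el (dataSix M hF) 108, CoverTable.el (dataTwo M hF) 49, CoverTable.el (dataTwo M hF) 8]
    ![CoverTable.el (dataSix M hF) 306, CoverTable.el (dataTwo M hF) 37, CoverTable.el (dataTwo M hF) 2]
    (fun i => ?_) ?_
  · fin_cases i
    · exact comm_six M hF hcard
    · exact comm_two M hF hcard (by norm_num) (by norm_num) two_comm.1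
    · exact comm_two M hF hcard (by norm_num) (by norm_num) two_comm.2
  refine CoverAssemble.span_three (by decide) _ (AddSubgroup.subset_closure (Set.mem_range_self 0)) ?_ ?_
  · intro h
    exact absurd ((value_six M hF hcard).symm.trans h) (by decide)
  intro b
  have h : ∀ b : ZMod 4 × ZMod 4, ∃ p q : Fin 4, (p : ℕ) • ((1, 0) : ZMod 4 × ZMod 4) + (q : ℕ) • (1, 1) = b := by decide
  obtain ⟨p, q, rfl⟩ := h b
  refine ⟨_, add_mem (nsmul_mem (AddSubgroup.subset_closure (Set.mem_range_self 1)) p)
    (nsmul_mem (AddSubgroup.subset_closure (Set.mem_range_self 2)) q), ?_⟩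
  rw [Prod.snd_add, Prod.smul_snd, Prod.smul_snd]
  congr 2
  · exact Prod.ext (value_two M hF hcard _ two_lefta two_wda (by norm_num) (by norm_num) two_mv3 two_mv2 two_value0a)
      (value_two M hF hcard _ two_leftb two_wdb (by norm_num) (by norm_num) two_mv3 two_mv2 two_value0b)
  · exact Prod.ext (value_two M hF hcard _ two_lefta two_wda (by norm_num) (by norm_num) two_mv1 two_mv0 two_value1a)
      (value_two M hF hcard _ two_leftb two_wdb (by norm_num) (by norm_num) two_mv1 two_mv0 two_value1b)

end

/-- The multiplier. -/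
theorem multiplier {G : Type u} [Group G] (M : Model G) (hF : M.F = [23, 0, 1]) (hcard : Nat.card G = 20160) :
    Cfsg.HasSchurMultiplier G (Multiplicative (ZMod 3 × ZMod 4 × ZMod 4)) := by
  haveI := M.finite
  refine CoverAssemble.hasSchur (perfect M hF hcard) (cover M hF hcard) (cover_stem M hF hcard) (fun q hq h => ?_)
    (B2 := 16) (B3 := 3) ?_ ?_ ?_
  · rw [hcard, show (20160 : ℕ) = 2 ^ 6 * 3 ^ 2 * 5 * 7 by norm_num] at h
    have hdvd : q ∣ 2 ^ 6 * 3 ^ 2 * 5 * 7 := (dvd_pow_self q two_ne_zero).trans h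
    simp only [hq.dvd_mul] at hdvd
    have key : ∀ p : ℕ, p.Prime → q ∣ p → q = p := fun p hp e => (Nat.prime_dvd_prime_iff_eq hq hp).1 e
    rcases hdvd with ((e | e) | e) | e
    · exact Or.inl (key 2 Nat.prime_two (hq.dvd_of_dvd_pow e))
    · exact Or.inr (key 3 Nat.prime_three (hq.dvd_of_dvd_pow e))
    all_goals
      obtain rfl := key _ (by norm_num) e
      norm_num at h
  · intro Γ _ _ σ hσ
    exact (M.part_le twoCert twoGens (hF ▸ two_gens.1) rfl rfl rfl two_valid twoOrd two_ord twoSpecs (hF ▸ two_gens.2)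
      (e := 6) twoLat two_lat Nat.prime_two (m := 315) (by rw [hcard]; norm_num) (by decide)
      (by rw [hcard]; decide +kernel) hσ).trans (by decide +kernel)
  · intro Γ _ _ σ hσ
    exact (M.part_le threeCert threeGens (hF ▸ three_gens.1) rfl rfl rfl three_valid threeOrd three_ord threeSpecs
      (hF ▸ three_gens.2) (e := 2) threeLat three_lat Nat.prime_three (m := 2240) (by rw [hcard]; norm_num)
      (by decide) (by rw [hcard]; decide +kernel) hσ).trans (by decide +kernel)
  · simp [Nat.card_prod]

end Cfsg.Agent.Lie.LThreeFourMult
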