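import Cfsg.Agent.Lib.Lie.GolayCover

/-!
A table on a subgroup of order 360 of the linear group of degree three over four elements (generated).
-/

set_option autoImplicit false
set_option maxRecDepth 100000
set_option maxHeartbeats 0
set_option Elab.async false

namespace Cfsg.Agent.Lie.LThreeFourMult

open Cfsg.Agent.Lie GolayCover

/-- generators of the subgroup -/
def sixGens : List (ℕ × ℕ) := [(984813758347425676314344326265162784, 984813758347425676314344326265162784),
  (974301420904820256172525602000224288, 974065639468521115144725224337163296)]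

def sixElt0 : Janko.Tree (ℕ) :=
  (.node (.node (.node (.node (.node (.node (.node (.leaf 984818244535754528103549039458486304) (.leaf 984692341001189498682775646259855392)) (.leaf 959504096377328332482381356286295072)) (.node (.node (.leaf 959708572585006156141238769653339168) (.leaf 959703233724379812031848127641371680)) (.leaf 965178240474229578665502403156714528))) (.node (.node (.node (.leaf 984286534401101619043003285447851040) (.leaf 984724508489452699215480746259449888)) (.leaf 984653037567589522805159698107707424)) (.node (.node (.leaf 974269795684433417250338647633405984) (.leaf 961438956620049001677386430328277024)) (.leaf 974387966770327866779686207554294816)))) (.node (.node (.node (.node (.leaf 965019718534836797550620169201983520) (.leaf 961038027450922872486482452613809184)) (.leaf 959976957450951442678810949496287264)) (.node (.node (.leaf 963725508847259573092512954291703840) (.leaf 984036102911248115080220955032835104)) (.leaf 973771501256562028186416545792113696))) (.node (.node (.node (.leaf 984285666642607460306222384146748448)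 (.leaf 984434069616762318252841738076005408)) (.leaf 964959154372682356496882543910921248)) (.node (.leaf 961398352073171885891314947149894688) (.leaf 984437700300256833152807338829271072))))) (.node (.node (.node (.node (.node (.leaf 963401109068609938930852652243427360) (.leaf 961028162630732703360484862458964000)) (.leaf 974176027481172210587317110162281504)) (.node (.node (.leaf 964809244881810191637764946218077216) (.leaf 961326845373429861233282027770826784)) (.leaf 974009026390058992051299538671193120))) (.node (.node (.node (.leaf 965216209179612076064423189630014496) (.leaf 964886537817860606161338693183026208)) (.leaf 959500568361873990584992303342362656)) (.node (.leaf 984763459211200950520466241650635808) (.leaf 973905747536654912485307108605770784)))) (.node (.node (.node (.node (.leaf 964029883723233031636106928502059040) (.leaf 964969449375798843733113102022425632)) (.leaf 959735160556300405856598081912580128)) (.node (.node (.leaf 963521698321025868504578657718740000) (.leaf 974424096156985593878744031551441952))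 (.leaf 984673808765571728440578281728845856))) (.node (.node (.node (.leaf 960983792459969222610018953688722464) (.leaf 964573307177758475739031141148214304)) (.leaf 984040623517673504877571255613670432)) (.node (.leaf 964688549375689982006056672487949344) (.leaf 961315589924668580979699117332054048)))))) (.node (.node (.node (.node (.node (.node (.leaf 974289003511496927321482653230834720) (.leaf 984157638715666148166657288626708512)) (.leaf 963793058636755296065028420241141792)) (.node (.node (.leaf 974350029205489649206929392998755360) (.leaf 963961144829115779012374338256217120)) (.leaf 959750093353085718233543014621529120))) (.node (.node (.node (.leaf 965247014107799387393987539919645728) (.leaf 974418281798036737660512877199634464)) (.leaf 960108961357804710213323298820993056)) (.node (.node (.leaf 959823851459553241611420302368245792) (.leaf 984389775965797844819276082654203936)) (.leaf 964820700994144633672358373573669920)))) (.node (.node (.node (.node (.leaf 963549550190046366269930793343270944) (.leaf 973934117181635011635628949322280992))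 (.leaf 959733805520924639800135980846039072)) (.node (.node (.leaf 963394271963241365174895108197925920) (.leaf 963925702410059535235235484866920480)) (.leaf 963915594575236223102075686933451808))) (.node (.node (.node (.leaf 963550867471869447153260896577527840) (.leaf 965103417471713106437330047186649120)) (.leaf 965184309981800398324700385160923168)) (.node (.leaf 959645237593959037843914762752335904) (.leaf 963886464963759861500762383098980384))))) (.node (.node (.node (.node (.node (.leaf 984640207867706564859662542320142368) (.leaf 965080809670303367094457290146851872)) (.leaf 960071237451125658375201001851455520)) (.node (.node (.leaf 984308567404995726259315931283402784) (.leaf 959788089485209418512826986473931808)) (.leaf 984332687078130793531783367113523232))) (.node (.node (.node (.leaf 965011074703115379814735225140217888) (.leaf 974095057028403689993608435841861664)) (.leaf 959496951177220385401170661626824736)) (.node (.leaf 964685376923431050740082718070165536) (.leaf 963847440887953628724948810536002592))))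 (.node (.node (.node (.node (.leaf 960101547234569842114080640929502240) (.leaf 961125884451383281000325600821063712)) (.leaf 963682749360196267811777724281926688)) (.node (.node (.leaf 963620513237518019234084926327826464) (.leaf 984402490448986527041004609237928992)) (.leaf 974104952905886284855748043158560800))) (.node (.node (.node (.leaf 965219161586798110337964705797220384) (.leaf 963877240852494640977804942656017440)) (.leaf 961195449064285658210951410287356960)) (.node (.leaf 974167507022766724938006169914650656) (.leaf 963957814459738707894724827409525792)))))))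

def sixElt1 : Janko.Tree (ℕ) :=
  (.node (.node (.node (.node (.node (.node (.node (.leaf 984813758347425676314344326265162784) (.leaf 973927817216524758202091488947159072)) (.leaf 974262154109055342418840893582847008)) (.node (.node (.leaf 963262552705922437410677523631817760) (.leaf 963721886883755259286232606933354528)) (.leaf 959372576229583851301601982452020256))) (.node (.node (.node (.leaf 959907309432689091159136580094607392) (.leaf 963887689257431582317521798653160480)) (.leaf 959371499120217650043491510578007072)) (.node (.node (.leaf 959811320648451863402116497191153696) (.leaf 959776989238354821125224048992396320)) (.leaf 984808994324989787920432733968517152)))) (.node (.node (.node (.node (.leaf 974057075677360362453471988128392224) (.leaf 964566173157820488723173405404369952)) (.leaf 959623276781679696850395608530504736)) (.node (.node (.leaf 965261793763902736530797309257261088) (.leaf 964569926297019160162402719452312608)) (.leaf 973937872706070297793942362677528608))) (.node (.node (.node (.leaf 963588858987348963768818874895684640)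 (.leaf 959939010284023649140661110020750368)) (.leaf 984474278092814718988566901577361440)) (.node (.leaf 974346768271948763008028760066446368) (.leaf 959615925755926807198955595484042272))))) (.node (.node (.node (.node (.node (.leaf 984772286156480962744612683094641696) (.leaf 960063170715864770797935380771512352)) (.leaf 963634564762470192261497794013383712)) (.node (.node (.leaf 960798741351442275111235150272516128) (.leaf 961433216444434067775984120970562592)) (.leaf 961275064934400984980237269796596768))) (.node (.node (.node (.leaf 959897063254443153204971333548184608) (.leaf 984690096700511497057451740670141472)) (.leaf 963985438039323059391581221015990304)) (.node (.leaf 984331188818882635087331394319762464) (.leaf 961116626889161846031099936814866464)))) (.node (.node (.node (.node (.leaf 965020889589825157226880949419452448) (.leaf 960956819205650086817143061130464288)) (.leaf 960922624090781301402319710147824672)) (.node (.node (.leaf 959685881833191629246915134195189792) (.leaf 959787243666301107505088249933280288))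 (.leaf 964001867477821088558212476344939552))) (.node (.node (.node (.leaf 960669425201940465354847454909633568) (.leaf 963918360422229985255933306387244064)) (.leaf 963830619027278189519450284327651360)) (.node (.leaf 984646814641262403640089109925700640) (.leaf 974029259905884651107199873696616480)))))) (.node (.node (.node (.node (.node (.node (.leaf 984778939901652623469320922203368480) (.leaf 963917289283722434419274197818353696)) (.leaf 959828377214811701937084572674244640)) (.node (.node (.leaf 963264261408919954114168751895327776) (.leaf 974429550413209120117658873067879456)) (.leaf 974228874215558587188660502428595232))) (.node (.node (.node (.leaf 964039895875191771241345561584188448) (.leaf 960921395518716972692641204184265760)) (.leaf 959951764167324786590576528675014688)) (.node (.node (.leaf 973656657860685361312002434228407328) (.leaf 961413333856840334609679564081837088)) (.leaf 973940254673165420241046565652481056)))) (.node (.node (.node (.node (.leaf 961068846169700346050760791967347744) (.leaf 984365261329606924002354543947133984))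 (.leaf 965183188359766628922708225291923488)) (.node (.node (.leaf 963826544606352659479275173058130976) (.leaf 973987114378861252231028513625490464)) (.leaf 974180945206457870841932954282955808))) (.node (.node (.node (.leaf 960028964504530297751413675962651680) (.leaf 960135760041726471292930298846324768)) (.leaf 961044596230370965004915822623308832)) (.node (.leaf 963678661792176734447278753075843104) (.leaf 960959661476103479807851011038726176))))) (.node (.node (.node (.node (.node (.leaf 961074914361994332220194964431392800) (.leaf 965202068027317489026784911272562720)) (.leaf 965134001439604729884992198643133472)) (.node (.node (.leaf 973894538487678133640170431928022048) (.leaf 984572185462300904677642719120698400)) (.leaf 961288699677329336717602379307095072))) (.node (.node (.node (.leaf 963266834631694156771012806248207392) (.leaf 965347083927061542873603981011265568)) (.leaf 974217912596223481665661885033416736)) (.node (.leaf 959628755744712081862127012927448096) (.leaf 961121762229530807146722509742362656))))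 (.node (.node (.node (.node (.leaf 961366292199761039503926253847683104) (.leaf 963720054766338406661657729286914080)) (.leaf 984319937910849352193531531909089312)) (.node (.node (.leaf 974305061108586710458520101174005792) (.leaf 961396878424039328383579763121434656)) (.leaf 959507021512376466162870572080910368))) (.node (.node (.node (.leaf 963835842514064438119990511449606176) (.leaf 960967398324482347813716508057739296)) (.leaf 960139612709388908960211975096961056)) (.node (.leaf 963640518972357266310373335248618528) (.leaf 961287549667283201426177752282892320)))))))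

def sixElt2 : Janko.Tree (ℕ) :=
  (.node (.node (.node (.node (.node (.node (.node (.leaf 974301420904820256172525602000224288) (.leaf 963668597297357964127691410198647840)) (.leaf 960666949016000194169884993682887712)) (.node (.node (.leaf 961248411647752423792293025076168736) (.leaf 963879896157734326961178946024114208)) (.leaf 974049393062583540046416082158998560))) (.node (.node (.node (.leaf 959985912622149173967922681933670432) (.leaf 963801303283584463809949269059117088)) (.leaf 963511403071277889568996452789752864)) (.node (.node (.leaf 964926267637069068188362011996540960) (.leaf 984158983359129550953007900942075936)) (.leaf 984494629205664509121023640695087136)))) (.node (.node (.node (.node (.leaf 964932493345117305820241965005618208) (.leaf 974380091991955391369673690478529568)) (.leaf 961196529725471010719546158184906784)) (.node (.node (.leaf 961388965038600954856745536151734304) (.leaf 961452632563163382791179462440860704)) (.leaf 984730463292948950481260738570047520))) (.node (.node (.node (.leaf 959902440770469959800038402296589344)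 (.leaf 984045040562683460438351865442356256)) (.leaf 964814469393778742555934255176886304)) (.node (.leaf 963387251845851716769057140306020384) (.leaf 973773240452287228995734072226596896))))) (.node (.node (.node (.node (.node (.leaf 974065639468521115144725224337163296) (.leaf 965302200437178054862354085970397216)) (.leaf 965179116962364278842807495649072160)) (.node (.node (.leaf 965139821820218995589222800593892384) (.leaf 965292622255729448123231832711310368)) (.leaf 959370155987894808416108077105239072))) (.node (.node (.node (.leaf 974017784323799884468069586551646240) (.leaf 973967986012282299052117753811055648)) (.leaf 961065080385128156817874234436172832)) (.node (.leaf 965142702643317772715652495377021984) (.leaf 964976807476200977354894755844543520)))) (.node (.node (.node (.node (.leaf 984615103184442521682038825273146400) (.leaf 964044890161730882598486314045392928)) (.leaf 965099653527102882040165697490932768)) (.node (.node (.leaf 984492485564996429423573422847438880) (.leaf 959698404691966495927467223829130272))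 (.leaf 960054234304773111974067865478374432))) (.node (.node (.node (.leaf 965256694847251788756371007199192096) (.leaf 960017363492796770713651178599862304)) (.leaf 959992288868083667620801358794794016)) (.node (.leaf 984489635908019892247938739468390432) (.leaf 973770617325040361085197740537925664)))))) (.node (.node (.node (.node (.node (.node (.leaf 961004983396669681344773358413624352) (.leaf 984447687758720651246420695576593440)) (.leaf 964966435695394542910003206106334240)) (.node (.node (.leaf 959816091502552904322081730316161056) (.leaf 960925329582159607099201126953887776)) (.leaf 960902742155985632093573199973032992))) (.node (.node (.node (.leaf 960681623468979094717600111451128864) (.leaf 961251193775338577911512196043189280)) (.leaf 974187175567643142025274994033106976)) (.node (.node (.leaf 965128854020860192151391391390468128) (.leaf 984167253758475462945724807580435488)) (.leaf 961036959603111402640105067478368288)))) (.node (.node (.node (.node (.leaf 959989672137247963990693503102823456) (.leaf 961319688640190071265659981543187488))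 (.leaf 974067367417606131853756533911567392)) (.node (.node (.leaf 959661274616346384007329631065852960) (.leaf 960023041758122255678221713833956384)) (.leaf 960149090072483472881125030842027040))) (.node (.node (.node (.leaf 965260602552495883198084326952751136) (.leaf 961447659923649738818324135598829600)) (.leaf 960064145483641685669223430547985440)) (.node (.leaf 961367291426535614114584283530253344) (.leaf 963803968497140359812216887561360416))))) (.node (.node (.node (.node (.node (.leaf 963385638993735887714550848571522080) (.leaf 973982120394553336593129374258176032)) (.leaf 984033490751371597070729465382966304)) (.node (.node (.leaf 964696846094572935608387675442268192) (.leaf 964847240086083326736799130984762400)) (.leaf 984680970017798811190358429404451872))) (.node (.node (.node (.leaf 965332909615174370371549086978620448) (.leaf 984573258712796882616396053104148512)) (.leaf 963805374506883935134684204303340576)) (.node (.leaf 963713166976781077290379971162910752) (.leaf 984393425290919052687206070263988256))))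 (.node (.node (.node (.node (.leaf 965335553787387074823594393928413216) (.leaf 984441790318749707578890965108241440)) (.leaf 964684070675478831972175042454882336)) (.node (.node (.leaf 964861344605498283477077742728627232) (.leaf 963964998415566599630609772511993888)) (.leaf 965214057123603508394835048889685024))) (.node (.node (.node (.leaf 974012435320290414578371704405574688) (.leaf 959766694484248460905683087736393760)) (.leaf 984604879095695062287226627879487520)) (.node (.leaf 959952600965235014351380394564367392) (.leaf 984398534124391634985400233245260832)))))))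

def sixElt3 : Janko.Tree (ℕ) :=
  (.node (.node (.node (.node (.node (.node (.node (.leaf 960996315598033993568777171891593248) (.leaf 965331559384069811570721258242000928)) (.leaf 964938984596156866162457807258602528)) (.node (.node (.leaf 974310717106723757276698096461550624) (.leaf 984717428898961708317939928111993888)) (.leaf 960966092371498289553983215329558560))) (.node (.node (.node (.leaf 963542828531034474120170115467201568) (.leaf 960143069840708105247767288432248864)) (.leaf 984728261073780392178395405373352992)) (.node (.node (.leaf 964808369716234213634456362121569312) (.leaf 974265916292271752572946082742513696)) (.leaf 974370251923340861393201867000097824)))) (.node (.node (.node (.node (.leaf 961358670443516651697868035760170016) (.leaf 984159878086345800853973636650056736)) (.leaf 984602695463752089500564746867450912)) (.node (.node (.leaf 959656569633017467077405233194971168) (.leaf 974226607945105312286687394382694432)) (.leaf 960110173246720213983473113866843168))) (.node (.node (.node (.leaf 960793768690154020826750608757475360)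 (.leaf 965307795761740754361936628421170208)) (.leaf 984366915190893559745313331572102176)) (.node (.leaf 965101283848186659120225953517809696) (.leaf 959373727487222801366542707185893408))))) (.node (.node (.node (.node (.node (.leaf 964942593393250078582578400817004576) (.leaf 974102355783867883902327031796574240)) (.leaf 984764756549393895769935879995600928)) (.node (.node (.leaf 960031954049954809401186518604949536) (.leaf 974109716257371332124496884157104160)) (.leaf 984804261842214368737105645013149728))) (.node (.node (.node (.leaf 960107369081617177637110596544645152) (.leaf 963681519777443759662779655350533152)) (.leaf 960672113538652462773444169124498464)) (.node (.leaf 961208322515174473854565445039009824) (.leaf 964043943161802071987863502468655136)))) (.node (.node (.node (.node (.leaf 959910881963240511086293489780727840) (.leaf 984551480557304507603428036663418912)) (.leaf 961285241731174842763899616276719648)) (.node (.node (.leaf 961231026561866616325288989517620256) (.leaf 961322377797730049233652711689753632))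 (.leaf 961076259885533485444211678235546656))) (.node (.node (.node (.leaf 959658893149766105657778498988917792) (.leaf 974422238081544939122441376219924512)) (.leaf 964881851362517658669346150901568544)) (.node (.leaf 963498343182266507350262495519554592) (.leaf 961245953715382439035370145635318816)))))) (.node (.node (.node (.node (.node (.node (.leaf 984656571699006264045046050599441440) (.leaf 959932817071918929702626575452974112)) (.leaf 973662912979506284570855774517056544)) (.node (.node (.leaf 963596576095182550696474963255347232) (.leaf 964877866312651714118694553875324960)) (.leaf 963583750180452900673563767221627936))) (.node (.node (.node (.leaf 984600039151491472695377941608148000) (.leaf 963954921457930632493244100037038112)) (.leaf 984287993754697169875324037988037664)) (.node (.node (.leaf 963629463346950870275181121498468384) (.leaf 974272371941623897236823250416280608)) (.leaf 984371793754216887572750120113119264)))) (.node (.node (.node (.node (.leaf 973647471032704223655176670164402208) (.leaf 973907407576774103293191646877520928))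 (.leaf 974342461627251108742749487946729504)) (.node (.node (.leaf 961365507626256404119956257276790816) (.leaf 973973402158300876039596673775840288)) (.leaf 984280519315730549563057880207665184))) (.node (.node (.node (.leaf 973883236450547227728500400436488224) (.leaf 974230780909183910092930935960052768)) (.leaf 961114002552984473214148453098792992)) (.node (.leaf 963516244116787074839765168608627744) (.leaf 963601262771765785683135317338604576))))) (.node (.node (.node (.node (.node (.leaf 973660268471182023296754871241389088) (.leaf 960804465535418528275758680012735520)) (.leaf 961200366507855262704536437108495392)) (.node (.node (.leaf 961000027527369325769803564835095584) (.leaf 965299894911694123152040198356290592)) (.leaf 964004364648303852704139972722773024))) (.node (.node (.node (.leaf 974348381543563806990328123373604896) (.leaf 964860345786140785257630235646599200)) (.leaf 974377320800309840372289299510708256)) (.node (.leaf 959726248121827739129358950915521568) (.leaf 964890849674240862889305944750770208))))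 (.node (.node (.node (.node (.leaf 963539343689942430834678041537562656) (.leaf 959624390531196018227953917250190368)) (.leaf 963993274285610117369591539601976352)) (.node (.node (.leaf 963278071448488086380102120793948192) (.leaf 964563484237197873912991866877591584)) (.leaf 960792386108188404871541436004403232))) (.node (.node (.node (.leaf 965002911944106484503568168017936416) (.leaf 984561734118472490303675771648054304)) (.leaf 984370830670715102428653979869366304)) (.node (.leaf 964841247270358169821737926711685152) (.leaf 973774316258447925177807059762126880)))))))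

def sixElt : Janko.Tree (ℕ) := (.node (.node sixElt0 sixElt2) (.node sixElt1 sixElt3))

def sixNext0 : Janko.Tree (ℕ) :=
  (.node (.node (.node (.node (.node (.node (.node (.leaf 1) (.leaf 297)) (.leaf 168)) (.node (.node (.leaf 89) (.leaf 346)) (.leaf 149))) (.node (.node (.node (.leaf 48) (.leaf 323)) (.leaf 121)) (.node (.node (.leaf 129) (.leaf 329)) (.leaf 175)))) (.node (.node (.node (.node (.leaf 25) (.leaf 264)) (.leaf 186)) (.node (.node (.leaf 110) (.leaf 306)) (.leaf 255))) (.node (.node (.node (.leaf 32) (.leaf 262)) (.leaf 134)) (.node (.leaf 82) (.leaf 286))))) (.node (.node (.node (.node (.node (.leaf 14) (.leaf 272)) (.leaf 124)) (.node (.node (.leaf 99) (.leaf 347)) (.leaf 249))) (.node (.node (.node (.leaf 60) (.leaf 327)) (.leaf 128)) (.node (.leaf 139) (.leaf 279)))) (.node (.node (.node (.node (.leaf 37) (.leaf 234)) (.leaf 196)) (.node (.node (.leaf 119) (.leaf 315)) (.leaf 206))) (.node (.node (.node (.leaf 79) (.leaf 273)) (.leaf 142)) (.node (.leaf 158) (.leaf 278)))))) (.node (.node (.node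 (.node (.node (.node (.leaf 2) (.leaf 275)) (.leaf 174)) (.node (.node (.leaf 47) (.leaf 350)) (.leaf 152))) (.node (.node (.node (.leaf 54) (.leaf 325)) (.leaf 211)) (.node (.node (.leaf 133) (.leaf 348)) (.leaf 178)))) (.node (.node (.node (.node (.leaf 31) (.leaf 229)) (.leaf 111)) (.node (.node (.leaf 114) (.leaf 313)) (.leaf 261))) (.node (.node (.node (.leaf 35) (.leaf 268)) (.leaf 138)) (.node (.leaf 86) (.leaf 289))))) (.node (.node (.node (.node (.node (.leaf 7) (.leaf 308)) (.leaf 182)) (.node (.node (.leaf 105) (.leaf 353)) (.leaf 157))) (.node (.node (.node (.leaf 63) (.leaf 331)) (.leaf 221)) (.node (.leaf 78) (.leaf 185)))) (.node (.node (.node (.node (.leaf 43) (.leaf 237)) (.leaf 117)) (.node (.node (.leaf 125) (.leaf 356)) (.leaf 267))) (.node (.node (.node (.leaf 40) (.leaf 322)) (.leaf 146)) (.node (.leaf 136) (.leaf 295)))))))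

def sixNext1 : Janko.Tree (ℕ) :=
  (.node (.node (.node (.node (.node (.node (.node (.leaf 2) (.leaf 298)) (.leaf 169)) (.node (.node (.leaf 18) (.leaf 347)) (.leaf 242))) (.node (.node (.node (.leaf 49) (.leaf 148)) (.leaf 208)) (.node (.node (.leaf 31) (.leaf 345)) (.leaf 272)))) (.node (.node (.node (.node (.leaf 26) (.leaf 311)) (.leaf 187)) (.node (.node (.leaf 57) (.leaf 355)) (.leaf 256))) (.node (.node (.node (.leaf 70) (.leaf 335)) (.leaf 225)) (.node (.leaf 150) (.leaf 245))))) (.node (.node (.node (.node (.node (.leaf 15) (.leaf 174)) (.leaf 178)) (.node (.node (.leaf 100) (.leaf 334)) (.leaf 192))) (.node (.node (.node (.leaf 9) (.leaf 328)) (.leaf 216)) (.node (.leaf 140) (.leaf 133)))) (.node (.node (.node (.node (.leaf 4) (.leaf 316)) (.leaf 197)) (.node (.node (.leaf 120) (.leaf 353)) (.leaf 263))) (.node (.node (.node (.leaf 80) (.leaf 294)) (.leaf 235)) (.node (.leaf 159) (.leaf 114)))))) (.node (.node (.node (.node (.node (.node (.leaf 8) (.leaf 186)) (.leaf 99)) (.node (.node (.leaf 46) (.leaf 196))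 (.leaf 246))) (.node (.node (.node (.leaf 55) (.leaf 295)) (.leaf 212)) (.node (.node (.leaf 134) (.leaf 339)) (.leaf 210)))) (.node (.node (.node (.node (.leaf 32) (.leaf 314)) (.leaf 191)) (.node (.node (.leaf 115) (.leaf 338)) (.leaf 165))) (.node (.node (.node (.leaf 74) (.leaf 304)) (.leaf 219)) (.node (.leaf 155) (.leaf 255))))) (.node (.node (.node (.node (.node (.leaf 20) (.leaf 309)) (.leaf 105)) (.node (.node (.leaf 106) (.leaf 307)) (.leaf 156))) (.node (.node (.node (.leaf 64) (.leaf 162)) (.leaf 198)) (.node (.leaf 144) (.leaf 184)))) (.node (.node (.node (.node (.leaf 44) (.leaf 320)) (.leaf 203)) (.node (.node (.leaf 29) (.leaf 290)) (.leaf 171))) (.node (.node (.node (.leaf 84) (.leaf 239)) (.leaf 240)) (.node (.leaf 73) (.leaf 204)))))))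

def sixNext2 : Janko.Tree (ℕ) :=
  (.node (.node (.node (.node (.node (.node (.node (.leaf 0) (.leaf 209)) (.leaf 96)) (.node (.node (.leaf 45) (.leaf 285)) (.leaf 243))) (.node (.node (.node (.leaf 50) (.leaf 244)) (.leaf 202)) (.node (.node (.leaf 70) (.leaf 332)) (.leaf 203)))) (.node (.node (.node (.node (.leaf 10) (.leaf 312)) (.leaf 109)) (.node (.node (.leaf 58) (.leaf 351)) (.leaf 257))) (.node (.node (.node (.leaf 71) (.leaf 263)) (.leaf 226)) (.node (.leaf 151) (.leaf 287))))) (.node (.node (.node (.node (.node (.leaf 5) (.leaf 218)) (.leaf 103)) (.node (.node (.leaf 51) (.leaf 352)) (.leaf 155))) (.node (.node (.node (.leaf 27) (.leaf 256)) (.leaf 217)) (.node (.leaf 76) (.leaf 183)))) (.node (.node (.node (.node (.leaf 16) (.leaf 317)) (.leaf 198)) (.node (.node (.leaf 64) (.leaf 318)) (.leaf 169))) (.node (.node (.node (.leaf 38) (.leaf 340)) (.leaf 236)) (.node (.leaf 160) (.leaf 200)))))) (.node (.node (.node (.node (.node (.node (.leaf 9) (.leaf 212)) (.leaf 100)) (.node (.node (.leaf 95) (.leaf 292))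 (.leaf 173))) (.node (.node (.node (.leaf 24) (.leaf 326)) (.leaf 126)) (.node (.node (.leaf 135) (.leaf 349)) (.leaf 276)))) (.node (.node (.node (.node (.leaf 13) (.leaf 231)) (.leaf 192)) (.node (.node (.leaf 61) (.leaf 343)) (.leaf 166))) (.node (.node (.node (.leaf 75) (.leaf 291)) (.leaf 230)) (.node (.leaf 156) (.leaf 195))))) (.node (.node (.node (.node (.node (.leaf 21) (.leaf 222)) (.leaf 106)) (.node (.node (.leaf 55) (.leaf 302)) (.leaf 253))) (.node (.node (.node (.leaf 65) (.leaf 259)) (.leaf 197)) (.node (.leaf 145) (.leaf 284)))) (.node (.node (.node (.node (.leaf 19) (.leaf 321)) (.leaf 204)) (.node (.node (.leaf 67) (.leaf 357)) (.leaf 172))) (.node (.node (.node (.leaf 85) (.leaf 281)) (.leaf 214)) (.node (.leaf 92) (.leaf 205)))))))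

def sixNext3 : Janko.Tree (ℕ) :=
  (.node (.node (.node (.node (.node (.node (.node (.leaf 3) (.leaf 201)) (.leaf 170)) (.node (.node (.leaf 90) (.leaf 274)) (.leaf 81))) (.node (.node (.node (.leaf 51) (.leaf 243)) (.leaf 122)) (.node (.node (.leaf 130) (.leaf 331)) (.leaf 273)))) (.node (.node (.node (.node (.leaf 27) (.leaf 226)) (.leaf 108)) (.node (.node (.leaf 111) (.leaf 221)) (.leaf 258))) (.node (.node (.node (.leaf 12) (.leaf 284)) (.leaf 227)) (.node (.leaf 152) (.leaf 288))))) (.node (.node (.node (.node (.node (.leaf 16) (.leaf 301)) (.leaf 179)) (.node (.node (.leaf 101) (.leaf 333)) (.leaf 250))) (.node (.node (.node (.leaf 61) (.leaf 329)) (.leaf 218)) (.node (.leaf 75) (.leaf 224)))) (.node (.node (.node (.node (.leaf 38) (.leaf 141)) (.leaf 199)) (.node (.node (.leaf 121) (.leaf 317)) (.leaf 264))) (.node (.node (.node (.leaf 37) (.leaf 341)) (.leaf 237)) (.node (.leaf 161) (.leaf 277)))))) (.node (.node (.node (.node (.node (.node (.leaf 10) (.leaf 303)) (.leaf 175)) (.node (.node (.leaf 96) (.leaf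 351)) (.leaf 83))) (.node (.node (.node (.leaf 56) (.leaf 257)) (.leaf 125)) (.node (.node (.leaf 91) (.leaf 340)) (.leaf 102)))) (.node (.node (.node (.node (.leaf 33) (.leaf 315)) (.leaf 193)) (.node (.node (.leaf 60) (.leaf 321)) (.leaf 262))) (.node (.node (.node (.leaf 14) (.leaf 337)) (.leaf 231)) (.node (.leaf 41) (.leaf 215))))) (.node (.node (.node (.node (.node (.leaf 1) (.leaf 310)) (.leaf 183)) (.node (.node (.leaf 107) (.leaf 271)) (.leaf 254))) (.node (.node (.node (.leaf 66) (.leaf 332)) (.leaf 222)) (.node (.leaf 146) (.leaf 119)))) (.node (.node (.node (.node (.leaf 45) (.leaf 280)) (.leaf 205)) (.node (.node (.leaf 126) (.leaf 358)) (.leaf 268))) (.node (.node (.node (.leaf 86) (.leaf 342)) (.leaf 79)) (.node (.leaf 164) (.leaf 296)))))))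

def sixNext4 : Janko.Tree (ℕ) :=
  (.node (.node (.node (.node (.node (.node (.node (.leaf 4) (.leaf 299)) (.leaf 171)) (.node (.node (.leaf 91) (.leaf 316)) (.leaf 150))) (.node (.node (.node (.leaf 22) (.leaf 246)) (.leaf 123)) (.node (.node (.leaf 131) (.leaf 358)) (.leaf 177)))) (.node (.node (.node (.node (.leaf 11) (.leaf 227)) (.leaf 188)) (.node (.node (.leaf 112) (.leaf 310)) (.leaf 163))) (.node (.node (.node (.leaf 33) (.leaf 336)) (.leaf 228)) (.node (.leaf 84) (.leaf 250))))) (.node (.node (.node (.node (.node (.leaf 17) (.leaf 307)) (.leaf 180)) (.node (.node (.leaf 102) (.leaf 335)) (.leaf 161))) (.node (.node (.node (.leaf 62) (.leaf 270)) (.leaf 219)) (.node (.leaf 141) (.leaf 280)))) (.node (.node (.node (.node (.leaf 39) (.leaf 235)) (.leaf 115)) (.node (.node (.leaf 122) (.leaf 320)) (.leaf 265))) (.node (.node (.node (.leaf 81) (.leaf 342)) (.leaf 144)) (.node (.leaf 90) (.leaf 242)))))) (.node (.node (.node (.node (.node (.node (.leaf 3) (.leaf 304)) (.leaf 176)) (.node (.node (.leaf 97) (.leaf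 293)) (.leaf 153))) (.node (.node (.node (.leaf 57) (.leaf 251)) (.leaf 213)) (.node (.node (.leaf 74) (.leaf 354)) (.leaf 181)))) (.node (.node (.node (.node (.leaf 34) (.leaf 248)) (.leaf 194)) (.node (.node (.leaf 116) (.leaf 314)) (.leaf 189))) (.node (.node (.node (.leaf 36) (.leaf 338)) (.leaf 140)) (.node (.leaf 87) (.leaf 290))))) (.node (.node (.node (.node (.node (.leaf 8) (.leaf 298)) (.leaf 184)) (.node (.node (.leaf 108) (.leaf 303)) (.leaf 216))) (.node (.node (.node (.leaf 30) (.leaf 333)) (.leaf 132)) (.node (.leaf 80) (.leaf 254)))) (.node (.node (.node (.node (.leaf 46) (.leaf 240)) (.leaf 120)) (.node (.node (.leaf 127) (.leaf 324)) (.leaf 269))) (.node (.node (.node (.leaf 42) (.leaf 345)) (.leaf 147)) (.node (.leaf 165) (.leaf 238)))))))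

def sixNext5 : Janko.Tree (ℕ) :=
  (.node (.node (.node (.node (.node (.node (.node (.leaf 5) (.leaf 300)) (.leaf 172)) (.node (.node (.leaf 92) (.leaf 348)) (.leaf 244))) (.node (.node (.node (.leaf 21) (.leaf 286)) (.leaf 209)) (.node (.node (.leaf 132) (.leaf 308)) (.leaf 176)))) (.node (.node (.node (.node (.leaf 28) (.leaf 313)) (.leaf 189)) (.node (.node (.leaf 25) (.leaf 350)) (.leaf 259))) (.node (.node (.node (.leaf 72) (.leaf 168)) (.leaf 229)) (.node (.leaf 153) (.leaf 154))))) (.node (.node (.node (.node (.node (.leaf 0) (.leaf 230)) (.leaf 52)) (.node (.node (.leaf 103) (.leaf 261)) (.leaf 251))) (.node (.node (.node (.leaf 43) (.leaf 160)) (.leaf 220)) (.node (.leaf 142) (.leaf 281)))) (.node (.node (.node (.node (.leaf 40) (.leaf 318)) (.leaf 200)) (.node (.node (.leaf 123) (.leaf 344)) (.leaf 95))) (.node (.node (.node (.leaf 82) (.leaf 343)) (.leaf 238)) (.node (.leaf 89) (.leaf 293)))))) (.node (.node (.node (.node (.node (.node (.leaf 11) (.leaf 267)) (.leaf 50)) (.node (.node (.leaf 39) (.leaf 323))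 (.leaf 97))) (.node (.node (.node (.leaf 58) (.leaf 269)) (.leaf 214)) (.node (.node (.leaf 136) (.leaf 326)) (.leaf 180)))) (.node (.node (.node (.node (.leaf 35) (.leaf 139)) (.leaf 195)) (.node (.node (.leaf 117) (.leaf 352)) (.leaf 93))) (.node (.node (.node (.leaf 76) (.leaf 312)) (.leaf 232)) (.node (.leaf 157) (.leaf 291))))) (.node (.node (.node (.node (.node (.leaf 22) (.leaf 131)) (.leaf 54)) (.node (.node (.leaf 23) (.leaf 253)) (.leaf 127))) (.node (.node (.node (.leaf 67) (.leaf 228)) (.leaf 223)) (.node (.leaf 147) (.leaf 211)))) (.node (.node (.node (.node (.leaf 6) (.leaf 322)) (.leaf 206)) (.node (.node (.leaf 68) (.leaf 357)) (.leaf 270))) (.node (.node (.node (.leaf 87) (.leaf 289)) (.leaf 213)) (.node (.leaf 166) (.leaf 118)))))))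

def sixNext6 : Janko.Tree (ℕ) :=
  (.node (.node (.node (.node (.node (.node (.node (.leaf 6) (.leaf 301)) (.leaf 98)) (.node (.node (.leaf 93) (.leaf 288)) (.leaf 245))) (.node (.node (.node (.leaf 52) (.leaf 309)) (.leaf 210)) (.node (.node (.leaf 72) (.leaf 359)) (.leaf 274)))) (.node (.node (.node (.node (.leaf 29) (.leaf 260)) (.leaf 190)) (.node (.node (.leaf 59) (.leaf 311)) (.leaf 164))) (.node (.node (.node (.leaf 73) (.leaf 266)) (.leaf 191)) (.node (.leaf 154) (.leaf 193))))) (.node (.node (.node (.node (.node (.leaf 18) (.leaf 220)) (.leaf 104)) (.node (.node (.leaf 53) (.leaf 300)) (.leaf 225))) (.node (.node (.node (.leaf 28) (.leaf 258)) (.leaf 130)) (.node (.leaf 143) (.leaf 282)))) (.node (.node (.node (.node (.leaf 41) (.leaf 319)) (.leaf 201)) (.node (.node (.leaf 66) (.leaf 328)) (.leaf 170))) (.node (.node (.node (.leaf 83) (.leaf 344)) (.leaf 239)) (.node (.leaf 162) (.leaf 294)))))) (.node (.node (.node (.node (.node (.node (.leaf 12) (.leaf 305)) (.leaf 101)) (.node (.node (.leaf 49) (.leaf 296))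 (.leaf 247))) (.node (.node (.node (.leaf 26) (.leaf 252)) (.leaf 215)) (.node (.node (.leaf 137) (.leaf 355)) (.leaf 277)))) (.node (.node (.node (.node (.leaf 15) (.leaf 232)) (.leaf 113)) (.node (.node (.leaf 118) (.leaf 341)) (.leaf 167))) (.node (.node (.node (.leaf 77) (.leaf 339)) (.leaf 233)) (.node (.leaf 88) (.leaf 199))))) (.node (.node (.node (.node (.node (.leaf 23) (.leaf 223)) (.leaf 107)) (.node (.node (.leaf 56) (.leaf 330)) (.leaf 159))) (.node (.node (.node (.leaf 68) (.leaf 334)) (.leaf 224)) (.node (.leaf 148) (.leaf 187)))) (.node (.node (.node (.node (.leaf 20) (.leaf 241)) (.leaf 207)) (.node (.node (.leaf 69) (.leaf 337)) (.leaf 271))) (.node (.node (.node (.leaf 44) (.leaf 283)) (.leaf 179)) (.node (.leaf 94) (.leaf 208)))))))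

def sixNext7 : Janko.Tree (ℕ) :=
  (.node (.node (.node (.node (.node (.node (.node (.leaf 7) (.leaf 302)) (.leaf 173)) (.node (.node (.leaf 94) (.leaf 349)) (.leaf 151))) (.node (.node (.node (.leaf 53) (.leaf 324)) (.leaf 65)) (.node (.node (.leaf 71) (.leaf 356)) (.leaf 275)))) (.node (.node (.node (.node (.leaf 30) (.leaf 135)) (.leaf 137)) (.node (.node (.leaf 113) (.leaf 336)) (.leaf 260))) (.node (.node (.node (.leaf 34) (.leaf 265)) (.leaf 110)) (.node (.leaf 85) (.leaf 282))))) (.node (.node (.node (.node (.node (.leaf 19) (.leaf 190)) (.leaf 181)) (.node (.node (.leaf 104) (.leaf 346)) (.leaf 252))) (.node (.node (.node (.leaf 17) (.leaf 330)) (.leaf 129)) (.node (.leaf 62) (.leaf 283)))) (.node (.node (.node (.node (.leaf 42) (.leaf 236)) (.leaf 202)) (.node (.node (.leaf 124) (.leaf 305)) (.leaf 266))) (.node (.node (.node (.leaf 48) (.leaf 319)) (.leaf 145)) (.node (.leaf 163) (.leaf 116)))))) (.node (.node (.node (.node (.node (.node (.leaf 13) (.leaf 306)) (.leaf 177)) (.node (.node (.leaf 98) (.leaf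 325)) (.leaf 248))) (.node (.node (.node (.leaf 59) (.leaf 279)) (.leaf 158)) (.node (.node (.leaf 138) (.leaf 327)) (.leaf 278)))) (.node (.node (.node (.node (.leaf 36) (.leaf 247)) (.leaf 112)) (.node (.node (.leaf 77) (.leaf 287)) (.leaf 188))) (.node (.node (.node (.leaf 78) (.leaf 233)) (.leaf 234)) (.node (.leaf 143) (.leaf 292))))) (.node (.node (.node (.node (.node (.leaf 24) (.leaf 297)) (.leaf 185)) (.node (.node (.leaf 109) (.leaf 354)) (.leaf 194))) (.node (.node (.node (.leaf 69) (.leaf 299)) (.leaf 182)) (.node (.leaf 149) (.leaf 285)))) (.node (.node (.node (.node (.leaf 47) (.leaf 276)) (.leaf 63)) (.node (.node (.leaf 128) (.leaf 359)) (.leaf 217))) (.node (.node (.node (.leaf 88) (.leaf 249)) (.leaf 241)) (.node (.leaf 167) (.leaf 207)))))))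

def sixNext : Janko.Tree (ℕ) := (.node (.node (.node sixNext0 sixNext4) (.node sixNext2 sixNext6)) (.node (.node sixNext1 sixNext5) (.node sixNext3 sixNext7)))

def sixWord0 : Janko.Tree (ℕ) :=
  (.node (.node (.node (.node (.node (.node (.node (.leaf 1) (.leaf 4521260819157009)) (.leaf 1104076083457)) (.node (.node (.leaf 4311810321) (.leaf 76579889927426305)) (.leaf 18760686698768))) (.node (.node (.node (.leaf 16846865) (.leaf 4802735794880785)) (.leaf 17661175074832)) (.node (.node (.leaf 69004755217) (.leaf 18519084315267108880)) (.leaf 282647519629328)))) (.node (.node (.node (.node (.leaf 69889) (.leaf 4522360314069249)) (.leaf 1168516387073)) (.node (.node (.leaf 4564520977) (.leaf 1157707683287011600)) (.leaf 282578801197313))) (.node (.node (.node (.leaf 269549840) (.leaf 72340241557557264)) (.leaf 17665469976848)) (.node (.leaf 73283932432) (.leaf 299140446687489))))) (.node (.node (.node (.node (.node (.leaf 4353) (.leaf 4522295637840129)) (.leaf 1168500654337)) (.node (.node (.leaf 4312858881) (.leaf 76860333859344401))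 (.leaf 18760703414529))) (.node (.node (.node (.leaf 17891601) (.leaf 4803770866209025)) (.leaf 17665217335312)) (.node (.leaf 73031291137) (.leaf 299136168497409)))) (.node (.node (.node (.node (.leaf 1114385) (.leaf 4786243104735504)) (.leaf 1172543901713)) (.node (.node (.leaf 68988965121) (.leaf 1225261746164404240)) (.leaf 282643477364993))) (.node (.node (.node (.leaf 285282561) (.leaf 72357765025169680)) (.leaf 18696262127888)) (.node (.leaf 1103823441937) (.leaf 300171254628625)))))) (.node (.node (.node (.node (.node (.node (.leaf 272) (.leaf 4521264845750529)) (.leaf 1104076148753)) (.node (.node (.leaf 4312797200) (.leaf 76843837142663441)) (.leaf 18760702427408))) (.node (.node (.node (.leaf 17830145) (.leaf 4802740074057985)) (.leaf 17661190803713)) (.node (.node (.leaf 69005742097) (.leaf 19604468314111279376)) (.leaf 299136167510288)))) (.node (.node (.node (.node (.leaf 1052929) (.leaf 4786178680164624)) (.leaf 1172542918672)) (.node (.node (.leaf 4580249857) (.leaf 1157724244428263440)) (.leaf 282579052859409)))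 (.node (.node (.node (.leaf 285278480) (.leaf 72356734231973904)) (.leaf 18696010469648)) (.node (.leaf 73299722512) (.leaf 300170987241729))))) (.node (.node (.node (.node (.node (.leaf 65808) (.leaf 4522295889498369)) (.leaf 1168500658193)) (.node (.node (.leaf 4564517121) (.leaf 1157443800244748545)) (.leaf 18764729946128))) (.node (.node (.node (.leaf 269488145) (.leaf 72340237515292945)) (.leaf 17665218318353)) (.node (.leaf 73032274192) (.leaf 299140195029008)))) (.node (.node (.node (.node (.leaf 16843009) (.leaf 4786243120464144)) (.leaf 1172795560208)) (.node (.node (.leaf 68989026577) (.leaf 1225279269631954961)) (.leaf 282643477368849))) (.node (.node (.node (.leaf 286265616) (.leaf 76579889675768065)) (.leaf 18696277917968)) (.node (.leaf 1103824425217) (.leaf 300235663413265)))))))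

def sixWord1 : Janko.Tree (ℕ) :=
  (.node (.node (.node (.node (.node (.node (.node (.leaf 16) (.leaf 4521264844705808)) (.leaf 1104076083472)) (.node (.node (.leaf 4311814160) (.leaf 76579889943220240)) (.leaf 18760686698769))) (.node (.node (.node (.leaf 16847105) (.leaf 4802735795867664)) (.leaf 17661175074833)) (.node (.node (.leaf 69004759056) (.leaf 18519100803915976720)) (.leaf 282647519629569)))) (.node (.node (.node (.node (.leaf 69904) (.leaf 4522360314073105)) (.leaf 1168517369872)) (.node (.node (.leaf 4580245776) (.leaf 1157707747711582481)) (.leaf 282579052794113))) (.node (.node (.node (.leaf 269549841) (.leaf 72356730205438224)) (.leaf 17665470038273)) (.node (.leaf 73283993857) (.leaf 300170987180049))))) (.node (.node (.node (.node (.node (.leaf 4368) (.leaf 4522295637840144)) (.leaf 1168500654352)) (.node (.node (.leaf 4312858896) (.leaf 1157442769704194305)) (.leaf 18764728963088))) (.node (.node (.node (.leaf 17895440) (.leaf 72340173106512144)) (.leaf 17665217335313)) (.node (.leaf 73032273936)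 (.leaf 299140194045968)))) (.node (.node (.node (.node (.leaf 1118224) (.leaf 4786243104735505)) (.leaf 1172543963393)) (.node (.node (.leaf 68988965136) (.leaf 1225278234813272080)) (.leaf 282643477365008))) (.node (.node (.node (.leaf 286265360) (.leaf 72357765276766465)) (.leaf 18696262189313)) (.node (.leaf 1103823442177) (.leaf 300171254632464)))))) (.node (.node (.node (.node (.node (.node (.leaf 273) (.leaf 4521264845750544)) (.leaf 1104091873552)) (.node (.node (.leaf 4312797201) (.leaf 76843841184927760)) (.leaf 18760702427409))) (.node (.node (.node (.leaf 17830160) (.leaf 4803770614550545)) (.leaf 17661191786512)) (.node (.node (.leaf 69005742337) (.leaf 19672005815831695376)) (.leaf 299136167510289)))) (.node (.node (.node (.node (.leaf 1052944) (.leaf 4786178695954704)) (.leaf 1172542918673)) (.node (.node (.leaf 4581232656) (.leaf 1157724244428263441)) (.leaf 282579068584208))) (.node (.node (.node (.leaf 285278481) (.leaf 72356734231973905)) (.leaf 18696010531073)) (.node (.leaf 73299722513) (.leaf 300170987241744)))))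 (.node (.node (.node (.node (.node (.leaf 65809) (.leaf 4522295905288464)) (.leaf 1168516382992)) (.node (.node (.leaf 4564517136) (.leaf 1157443800244748560)) (.leaf 18764729946129))) (.node (.node (.node (.leaf 269488385) (.leaf 72340237515296784)) (.leaf 17665218380033)) (.node (.leaf 73032335617) (.leaf 299140195029009)))) (.node (.node (.node (.node (.leaf 16843024) (.leaf 4786243121451265)) (.leaf 1172795621633)) (.node (.node (.leaf 68989030416) (.leaf 1229500363489480961)) (.leaf 282643493093648))) (.node (.node (.node (.leaf 286327041) (.leaf 76579889675768080)) (.leaf 18696277917969)) (.node (.leaf 1103824425232) (.leaf 300235679138064)))))))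

def sixWord2 : Janko.Tree (ℕ) :=
  (.node (.node (.node (.node (.node (.node (.node (.leaf 17) (.leaf 4521264844705809)) (.leaf 1104076144897)) (.node (.node (.leaf 4311814161) (.leaf 76579954351997185)) (.leaf 18760686702608))) (.node (.node (.node (.leaf 17829904) (.leaf 4802739821416464)) (.leaf 17661190799632)) (.node (.node (.leaf 69004759297) (.leaf 18519101838734659601)) (.leaf 282647520612368)))) (.node (.node (.node (.node (.leaf 1052688) (.leaf 4522360329797904)) (.leaf 1168517369873)) (.node (.node (.leaf 4580245777) (.leaf 1157707751753846800)) (.leaf 282579052794128))) (.node (.node (.node (.leaf 269553680) (.leaf 72356730205438225)) (.leaf 18696010469393)) (.node (.leaf 73283997712) (.leaf 300170987180289))))) (.node (.node (.node (.node (.node (.leaf 4369) (.leaf 4522295637901569)) (.leaf 1168500654353)) (.node (.node (.leaf 4564455681) (.leaf 1157443800244687105)) (.leaf 18764728963089))) (.node (.node (.node (.leaf 17895441) (.leaf 72340173106512145)) (.leaf 17665217335553)) (.node (.leaf 73032273937)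 (.leaf 299140194045969)))) (.node (.node (.node (.node (.leaf 1118225) (.leaf 4786243104739344)) (.leaf 1172543963408)) (.node (.node (.leaf 68989026561) (.leaf 1225278238838820880)) (.leaf 282643477365009))) (.node (.node (.node (.leaf 286265361) (.leaf 76578858882633985)) (.leaf 18696262193168)) (.node (.leaf 1103824424976) (.leaf 300235663409409)))))) (.node (.node (.node (.node (.node (.node (.leaf 4112) (.leaf 4521265097347329)) (.leaf 1104091873553)) (.node (.node (.leaf 4312797441) (.leaf 76860329832808720)) (.leaf 18760703414288))) (.node (.node (.node (.leaf 17891585) (.leaf 4803770614550800)) (.leaf 17661191786513)) (.node (.node (.leaf 73031290896) (.leaf 19672005815831695377)) (.leaf 299136168497168)))) (.node (.node (.node (.node (.leaf 1114369) (.leaf 4786178695954705)) (.leaf 1172542918913)) (.node (.node (.leaf 4581232657) (.leaf 1225261742122143760)) (.leaf 282579068584209))) (.node (.node (.node (.leaf 285282320) (.leaf 72356734484615425)) (.leaf 18696010531088)) (.node (.leaf 73299726352) (.leaf 300171238838529)))))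 (.node (.node (.node (.node (.node (.leaf 69648) (.leaf 4522295905288465)) (.leaf 1168516382993)) (.node (.node (.leaf 4564517137) (.leaf 1157443800512139280)) (.leaf 282578801135873))) (.node (.node (.node (.leaf 269488400) (.leaf 72340237515296785)) (.leaf 17665218380048)) (.node (.leaf 73032335632) (.leaf 299140195090689)))) (.node (.node (.node (.node (.leaf 16843025) (.leaf 4786247146999824)) (.leaf 17661175070992)) (.node (.node (.leaf 68989030417) (.leaf 1229501394282615056)) (.leaf 282643494080529))) (.node (.node (.node (.leaf 286327056) (.leaf 76579889675829505)) (.leaf 18696277921808)) (.node (.leaf 1103824486657) (.leaf 300235679138065)))))))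

def sixWord3 : Janko.Tree (ℕ) :=
  (.node (.node (.node (.node (.node (.node (.node (.leaf 257) (.leaf 4521264844706049)) (.leaf 1104076148752)) (.node (.node (.leaf 4311814401) (.leaf 76843772718092560)) (.leaf 18760686702609))) (.node (.node (.node (.leaf 17829905) (.leaf 4802739821416465)) (.leaf 17661190799633)) (.node (.node (.leaf 69005742096) (.leaf 18523322932592185601)) (.leaf 282647520612369)))) (.node (.node (.node (.node (.leaf 1052689) (.leaf 4522360329797905)) (.leaf 1168517370113)) (.node (.node (.leaf 4580249616) (.leaf 1157724240401727760)) (.leaf 282579052859408))) (.node (.node (.node (.leaf 269553681) (.leaf 72356730206425104)) (.leaf 18696010469633)) (.node (.leaf 73283997713) (.leaf 300170987180304))))) (.node (.node (.node (.node (.node (.leaf 65793) (.leaf 4522295637901584)) (.leaf 1168500658192)) (.node (.node (.leaf 4564455696) (.leaf 1157443800244687120)) (.leaf 18764728963329))) (.node (.node (.node (.leaf 269488144) (.leaf 72340237515292944)) (.leaf 17665218318352)) (.node (.leaf 73032274177)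 (.leaf 299140194046209)))) (.node (.node (.node (.node (.leaf 1118465) (.leaf 4786243104739345)) (.leaf 1172795560193)) (.node (.node (.leaf 68989026576) (.leaf 1225278238838820881)) (.leaf 282643477368848))) (.node (.node (.node (.leaf 286265601) (.leaf 76578859135275265)) (.leaf 18696262193169)) (.node (.leaf 1103824424977) (.leaf 300235663409425)))))) (.node (.node (.node (.node (.node (.node (.leaf 4113) (.leaf 4522295637839889)) (.leaf 1104091877392)) (.node (.node (.leaf 4312797456) (.leaf 76860333859344400)) (.leaf 18760703414289))) (.node (.node (.node (.leaf 17891600) (.leaf 4803770614612240)) (.leaf 17661191786753)) (.node (.node (.leaf 73031290897) (.leaf 19672023343341506577)) (.leaf 299136168497169)))) (.node (.node (.node (.node (.leaf 1114384) (.leaf 4786178695958544)) (.leaf 1172543901712)) (.node (.node (.leaf 4581232897) (.leaf 1225261742122143761)) (.leaf 282579068588048))) (.node (.node (.node (.leaf 285282321) (.leaf 72357765025107985)) (.leaf 18696262127873)) (.node (.leaf 1103823441936) (.leaf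 300171254628624))))) (.node (.node (.node (.node (.node (.leaf 69649) (.leaf 4522295905292304)) (.leaf 1168516386832)) (.node (.node (.leaf 4564520976) (.leaf 1157443864920916225)) (.leaf 282578801135888))) (.node (.node (.node (.leaf 269549825) (.leaf 72340237532008705)) (.leaf 17665469976833)) (.node (.leaf 73283932417) (.leaf 299140195090704)))) (.node (.node (.node (.node (.leaf 16846864) (.leaf 4802735794880784)) (.leaf 17661175070993)) (.node (.node (.leaf 69004755216) (.leaf 1229501458958844161)) (.leaf 282643494080769))) (.node (.node (.node (.leaf 4311810320) (.leaf 76579889675829520)) (.leaf 18760686698753)) (.node (.leaf 1103824486672) (.leaf 4521260819157008)))))))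

def sixWord : Janko.Tree (ℕ) := (.node (.node sixWord0 sixWord2) (.node sixWord1 sixWord3))

def sixPar0 : Janko.Tree (ℕ) :=
  (.node (.node (.node (.node (.node (.node (.node (.leaf 0) (.leaf 3329)) (.leaf 1521)) (.node (.node (.leaf 705) (.leaf 4545)) (.leaf 2384))) (.node (.node (.node (.leaf 321) (.leaf 3857)) (.leaf 1936)) (.node (.node (.leaf 1105) (.leaf 5264)) (.leaf 2800)))) (.node (.node (.node (.node (.leaf 145) (.leaf 3585)) (.leaf 1729)) (.node (.node (.leaf 897) (.leaf 4896)) (.leaf 2561))) (.node (.node (.node (.leaf 512) (.leaf 4192)) (.leaf 2144)) (.node (.leaf 1312) (.leaf 3009))))) (.node (.node (.node (.node (.node (.leaf 65) (.leaf 3473)) (.leaf 1633)) (.node (.node (.leaf 801) (.leaf 4737)) (.leaf 2465))) (.node (.node (.node (.leaf 417) (.leaf 4049)) (.leaf 2048)) (.node (.leaf 1201) (.leaf 2913)))) (.node (.node (.node (.node (.leaf 241) (.leaf 3744)) (.leaf 1809)) (.node (.node (.leaf 1009) (.leaf 5040)) (.leaf 2689))) (.node (.node (.node (.leaf 593) (.leaf 4368)) (.leaf 2272)) (.node (.leaf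 1409) (.leaf 3185)))))) (.node (.node (.node (.node (.node (.node (.leaf 32) (.leaf 3377)) (.leaf 1569)) (.node (.node (.leaf 752) (.leaf 4657)) (.leaf 2432))) (.node (.node (.node (.leaf 369) (.leaf 3953)) (.leaf 2001)) (.node (.node (.leaf 1153) (.leaf 5568)) (.leaf 2848)))) (.node (.node (.node (.node (.leaf 193) (.leaf 3664)) (.leaf 1776)) (.node (.node (.leaf 961) (.leaf 5008)) (.leaf 2625))) (.node (.node (.node (.leaf 560) (.leaf 4288)) (.leaf 2208)) (.node (.leaf 1376) (.leaf 3105))))) (.node (.node (.node (.node (.node (.leaf 112) (.leaf 3537)) (.leaf 1665)) (.node (.node (.leaf 865) (.leaf 4817)) (.leaf 2512))) (.node (.node (.node (.leaf 449) (.leaf 4129)) (.leaf 2081)) (.node (.leaf 1248) (.leaf 2960)))) (.node (.node (.node (.node (.leaf 289) (.leaf 3792)) (.leaf 1872)) (.node (.node (.leaf 1057) (.leaf 5153)) (.leaf 2721))) (.node (.node (.node (.leaf 640) (.leaf 4481)) (.leaf 2336)) (.node (.leaf 1457) (.leaf 3249)))))))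

def sixPar1 : Janko.Tree (ℕ) :=
  (.node (.node (.node (.node (.node (.node (.node (.leaf 0) (.leaf 3344)) (.leaf 1536)) (.node (.node (.leaf 720) (.leaf 4560)) (.leaf 2385))) (.node (.node (.node (.leaf 337) (.leaf 3904)) (.leaf 1937)) (.node (.node (.leaf 1120) (.leaf 5312)) (.leaf 2817)))) (.node (.node (.node (.node (.leaf 160) (.leaf 3601)) (.leaf 1744)) (.node (.node (.leaf 928) (.leaf 4945)) (.leaf 2593))) (.node (.node (.node (.leaf 513) (.leaf 4208)) (.leaf 2161)) (.node (.leaf 1329) (.leaf 3057))))) (.node (.node (.node (.node (.node (.leaf 80) (.leaf 3488)) (.leaf 1648)) (.node (.node (.leaf 816) (.leaf 4753)) (.leaf 2480))) (.node (.node (.node (.leaf 432) (.leaf 4096)) (.leaf 2049)) (.node (.leaf 1216) (.leaf 2928)))) (.node (.node (.node (.node (.leaf 256) (.leaf 3745)) (.leaf 1825)) (.node (.node (.leaf 1024) (.leaf 5088)) (.leaf 2704))) (.node (.node (.node (.leaf 608) (.leaf 4385)) (.leaf 2289)) (.node (.leaf 1425) (.leaf 3200)))))) (.node (.node (.node (.node (.node (.node (.leaf 33) (.leaf 3392))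 (.leaf 1600)) (.node (.node (.leaf 753) (.leaf 4672)) (.leaf 2433))) (.node (.node (.node (.leaf 384) (.leaf 4001)) (.leaf 2016)) (.node (.node (.leaf 1169) (.leaf 5584)) (.leaf 2849)))) (.node (.node (.node (.node (.leaf 208) (.leaf 3696)) (.leaf 1777)) (.node (.node (.leaf 976) (.leaf 5009)) (.leaf 2656))) (.node (.node (.node (.leaf 561) (.leaf 4289)) (.leaf 2225)) (.node (.leaf 1377) (.leaf 3120))))) (.node (.node (.node (.node (.node (.leaf 113) (.leaf 3552)) (.leaf 1696)) (.node (.node (.leaf 880) (.leaf 4832)) (.leaf 2513))) (.node (.node (.node (.leaf 465) (.leaf 4144)) (.leaf 2097)) (.node (.leaf 1265) (.leaf 2961)))) (.node (.node (.node (.node (.leaf 304) (.leaf 3825)) (.leaf 1889)) (.node (.node (.leaf 1072) (.leaf 5169)) (.leaf 2752))) (.node (.node (.node (.leaf 657) (.leaf 4496)) (.leaf 2337)) (.node (.leaf 1472) (.leaf 3280)))))))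

def sixPar2 : Janko.Tree (ℕ) :=
  (.node (.node (.node (.node (.node (.node (.node (.leaf 1) (.leaf 3345)) (.leaf 1553)) (.node (.node (.leaf 721) (.leaf 4577)) (.leaf 2400))) (.node (.node (.node (.leaf 352) (.leaf 3936)) (.leaf 1968)) (.node (.node (.leaf 1137) (.leaf 5361)) (.leaf 2832)))) (.node (.node (.node (.node (.leaf 176) (.leaf 3632)) (.leaf 1745)) (.node (.node (.leaf 929) (.leaf 4960)) (.leaf 2608))) (.node (.node (.node (.leaf 528) (.leaf 4209)) (.leaf 2177)) (.node (.leaf 1344) (.leaf 3073))))) (.node (.node (.node (.node (.node (.leaf 81) (.leaf 3505)) (.leaf 1649)) (.node (.node (.leaf 833) (.leaf 4785)) (.leaf 2481))) (.node (.node (.node (.leaf 433) (.leaf 4097)) (.leaf 2065)) (.node (.leaf 1217) (.leaf 2929)))) (.node (.node (.node (.node (.leaf 257) (.leaf 3760)) (.leaf 1840)) (.node (.node (.leaf 1041) (.leaf 5120)) (.leaf 2705))) (.node (.node (.node (.leaf 609) (.leaf 4417)) (.leaf 2304)) (.node (.leaf 1440) (.leaf 3217)))))) (.node (.node (.node (.node (.node (.node (.leaf 48) (.leaf 3409))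 (.leaf 1601)) (.node (.node (.leaf 769) (.leaf 4688)) (.leaf 2448))) (.node (.node (.node (.leaf 401) (.leaf 4016)) (.leaf 2017)) (.node (.node (.leaf 1184) (.leaf 5585)) (.leaf 2896)))) (.node (.node (.node (.node (.leaf 225) (.leaf 3697)) (.leaf 1793)) (.node (.node (.leaf 977) (.leaf 5024)) (.leaf 2657))) (.node (.node (.node (.leaf 576) (.leaf 4305)) (.leaf 2240)) (.node (.leaf 1392) (.leaf 3137))))) (.node (.node (.node (.node (.node (.leaf 128) (.leaf 3553)) (.leaf 1697)) (.node (.node (.leaf 881) (.leaf 4848)) (.leaf 2529))) (.node (.node (.node (.leaf 480) (.leaf 4145)) (.leaf 2112)) (.node (.leaf 1280) (.leaf 2977)))) (.node (.node (.node (.node (.leaf 305) (.leaf 3840)) (.leaf 1920)) (.node (.node (.leaf 1073) (.leaf 5184)) (.leaf 2769))) (.node (.node (.node (.leaf 672) (.leaf 4513)) (.leaf 2352)) (.node (.leaf 1489) (.leaf 3281)))))))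

def sixPar3 : Janko.Tree (ℕ) :=
  (.node (.node (.node (.node (.node (.node (.node (.leaf 17) (.leaf 3361)) (.leaf 1568)) (.node (.node (.leaf 737) (.leaf 4608)) (.leaf 2401))) (.node (.node (.node (.leaf 353) (.leaf 3937)) (.leaf 1969)) (.node (.node (.leaf 1152) (.leaf 5377)) (.leaf 2833)))) (.node (.node (.node (.node (.leaf 177) (.leaf 3633)) (.leaf 1761)) (.node (.node (.leaf 944) (.leaf 4976)) (.leaf 2624))) (.node (.node (.node (.leaf 529) (.leaf 4256)) (.leaf 2193)) (.node (.leaf 1345) (.leaf 3088))))) (.node (.node (.node (.node (.node (.leaf 97) (.leaf 3520)) (.leaf 1664)) (.node (.node (.leaf 848) (.leaf 4800)) (.leaf 2497))) (.node (.node (.node (.leaf 448) (.leaf 4128)) (.leaf 2080)) (.node (.leaf 1233) (.leaf 2945)))) (.node (.node (.node (.node (.leaf 273) (.leaf 3761)) (.leaf 1857)) (.node (.node (.leaf 1056) (.leaf 5121)) (.leaf 2720))) (.node (.node (.node (.leaf 625) (.leaf 4433)) (.leaf 2305)) (.node (.leaf 1441) (.leaf 3233)))))) (.node (.node (.node (.node (.node (.node (.leaf 49) (.leaf 3457))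 (.leaf 1616)) (.node (.node (.leaf 784) (.leaf 4736)) (.leaf 2449))) (.node (.node (.node (.leaf 416) (.leaf 4032)) (.leaf 2033)) (.node (.node (.leaf 1185) (.leaf 5617)) (.leaf 2897)))) (.node (.node (.node (.node (.leaf 240) (.leaf 3712)) (.leaf 1808)) (.node (.node (.leaf 993) (.leaf 5025)) (.leaf 2672))) (.node (.node (.node (.leaf 577) (.leaf 4353)) (.leaf 2257)) (.node (.leaf 1408) (.leaf 3184))))) (.node (.node (.node (.node (.node (.leaf 129) (.leaf 3568)) (.leaf 1712)) (.node (.node (.leaf 896) (.leaf 4865)) (.leaf 2544))) (.node (.node (.node (.leaf 497) (.leaf 4177)) (.leaf 2129)) (.node (.leaf 1297) (.leaf 2992)))) (.node (.node (.node (.node (.leaf 320) (.leaf 3856)) (.leaf 1921)) (.node (.node (.leaf 1104) (.leaf 5201)) (.leaf 2785))) (.node (.node (.node (.leaf 704) (.leaf 4528)) (.leaf 2369)) (.node (.leaf 1504) (.leaf 3328)))))))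

def sixPar : Janko.Tree (ℕ) := (.node (.node sixPar0 sixPar2) (.node sixPar1 sixPar3))

def sixL0 : Janko.Tree (List ℤ) :=
  (.node (.node (.node (.node (.node (.node (.node (.leaf []) (.leaf [])) (.leaf [])) (.node (.node (.leaf []) (.leaf [])) (.leaf [1]))) (.node (.node (.node (.leaf []) (.leaf [])) (.leaf [1])) (.node (.node (.leaf []) (.leaf [1])) (.leaf [1])))) (.node (.node (.node (.node (.leaf []) (.leaf [1078, 120, -766, 335])) (.leaf [])) (.node (.node (.leaf []) (.leaf [1])) (.leaf []))) (.node (.node (.node (.leaf [1]) (.leaf [1])) (.leaf [1])) (.node (.node (.leaf [1]) (.leaf [1981, 260, -1376, 586])) (.leaf []))))) (.node (.node (.node (.node (.node (.leaf []) (.leaf [2313, 120, -1754, 829])) (.leaf [-502, -50, 362, -161])) (.node (.node (.leaf []) (.leaf [-785, -65, 576, -262])) (.leaf []))) (.node (.node (.node (.leaf []) (.leaf [])) (.leaf [1])) (.node (.node (.leaf []) (.leaf [1, 0, 0, 0])) (.leaf [])))) (.node (.node (.node (.node (.leaf []) (.leaf [1])) (.leaf [])) (.node (.node (.leaf []) (.leaf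 [1])) (.leaf [-277, -35, 194, -83]))) (.node (.node (.node (.leaf []) (.leaf [1])) (.leaf [1])) (.node (.leaf []) (.leaf [-25, -10, 12, -2])))))) (.node (.node (.node (.node (.node (.node (.leaf [1]) (.leaf [-599, -59, 433, -193])) (.leaf [])) (.node (.node (.leaf [1]) (.leaf [])) (.leaf [1]))) (.node (.node (.node (.leaf []) (.leaf [])) (.leaf [])) (.node (.node (.leaf []) (.leaf [1])) (.leaf [1])))) (.node (.node (.node (.node (.leaf []) (.leaf [1])) (.leaf [1])) (.node (.node (.leaf []) (.leaf [1])) (.leaf []))) (.node (.node (.node (.leaf [1]) (.leaf [1])) (.leaf [1])) (.node (.leaf [1]) (.leaf []))))) (.node (.node (.node (.node (.node (.leaf [1]) (.leaf [])) (.leaf [])) (.node (.node (.leaf []) (.leaf [])) (.leaf [1]))) (.node (.node (.node (.leaf []) (.leaf [])) (.leaf [])) (.node (.node (.leaf [1]) (.leaf [4, 3, -1, 1])) (.leaf [1])))) (.node (.node (.node (.node (.leaf []) (.leaf [1])) (.leaf [1])) (.node (.node (.leaf []) (.leaf [])) (.leaf []))) (.node (.node (.node (.leaf [1]) (.leaf [-1792, -145, 1318, -601]))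 (.leaf [1])) (.node (.leaf [428, 35, -314, 143]) (.leaf [])))))))

def sixL1 : Janko.Tree (List ℤ) :=
  (.node (.node (.node (.node (.node (.node (.node (.leaf []) (.leaf [])) (.leaf [])) (.node (.node (.leaf [0, 1]) (.leaf [])) (.leaf []))) (.node (.node (.node (.leaf []) (.leaf [0, 1])) (.leaf [])) (.node (.node (.leaf [0, 1]) (.leaf [693, 69, -499, 222])) (.leaf [])))) (.node (.node (.node (.node (.leaf []) (.leaf [])) (.leaf [])) (.node (.node (.leaf [2, 2, -1]) (.leaf [])) (.leaf []))) (.node (.node (.node (.leaf []) (.leaf [])) (.leaf [])) (.node (.node (.leaf []) (.leaf [16, 5, -8, 4])) (.leaf [-25, 4, 23, -13]))))) (.node (.node (.node (.node (.node (.leaf []) (.leaf [-2, -2, 0, 1])) (.leaf [])) (.node (.node (.leaf []) (.leaf [584, 28, -446, 212])) (.leaf [37, 8, -24, 9]))) (.node (.node (.node (.leaf [0, 1]) (.leaf [])) (.leaf [])) (.node (.node (.leaf []) (.leaf [0, 1, 0, 0])) (.leaf [-255, -13, 193, -91])))) (.node (.node (.node (.node (.leaf [0, 1]) (.leaf [])) (.leaf [])) (.node (.node (.leaf []) (.leaf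 [-38, -1, 29, -14])) (.leaf []))) (.node (.node (.node (.leaf []) (.leaf [8, -6, -11, 8])) (.leaf [])) (.node (.leaf []) (.leaf [0, 1])))))) (.node (.node (.node (.node (.node (.node (.leaf []) (.leaf [-52, -7, 36, -15])) (.leaf [2, 2, -1])) (.node (.node (.leaf [-2, -1, 1]) (.leaf [0, 1])) (.leaf []))) (.node (.node (.node (.leaf []) (.leaf [35, 4, -25, 11])) (.leaf [])) (.node (.node (.leaf []) (.leaf [1270, 168, -882, 374])) (.leaf [-180, -26, 123, -51])))) (.node (.node (.node (.node (.leaf []) (.leaf [])) (.leaf [])) (.node (.node (.leaf []) (.leaf [-520, -6, 411, -203])) (.leaf [2, 2, -1]))) (.node (.node (.node (.leaf []) (.leaf [-5, -1, 3, -1])) (.leaf [-383, -36, 277, -124])) (.node (.leaf []) (.leaf [-16, -2, 10, -4]))))) (.node (.node (.node (.node (.node (.leaf []) (.leaf [])) (.leaf [2, 2, -1])) (.node (.node (.leaf []) (.leaf [-5, 8, 10, -8])) (.leaf [-2, -1, 1]))) (.node (.node (.node (.leaf []) (.leaf [0, 1])) (.leaf [5, 4, -1, -1])) (.node (.node (.leaf []) (.leaf [1112, 108, -803, 360])) (.leaf [-2,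 -1, 1])))) (.node (.node (.node (.node (.leaf []) (.leaf [])) (.leaf [])) (.node (.node (.leaf [0, 1]) (.leaf [1690, 157, -1227, 551])) (.leaf [2, 2, -1]))) (.node (.node (.node (.leaf []) (.leaf [158, 38, -96, 33])) (.leaf [])) (.node (.leaf [-2, -2, 0, 1]) (.leaf [2, 2, -1])))))))

def sixL2 : Janko.Tree (List ℤ) :=
  (.node (.node (.node (.node (.node (.node (.node (.leaf [1]) (.leaf [1])) (.leaf [1])) (.node (.node (.leaf [1]) (.leaf [1])) (.leaf []))) (.node (.node (.node (.leaf []) (.leaf [1])) (.leaf [-89, 1, 73, -37])) (.node (.node (.leaf [1]) (.leaf [1])) (.leaf [21, 5, -12, 4])))) (.node (.node (.node (.node (.leaf [1]) (.leaf [])) (.leaf [1])) (.node (.node (.leaf [1]) (.leaf [-517, -40, 382, -175])) (.leaf []))) (.node (.node (.node (.leaf []) (.leaf [1])) (.leaf [])) (.node (.node (.leaf []) (.leaf [31, 10, -16, 6])) (.leaf []))))) (.node (.node (.node (.node (.node (.leaf [1]) (.leaf [1])) (.leaf [1])) (.node (.node (.leaf [1]) (.leaf [])) (.leaf [1]))) (.node (.node (.node (.leaf [1]) (.leaf [1])) (.leaf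 [])) (.node (.node (.leaf [1]) (.leaf [0, 0, 1, 0])) (.leaf [1])))) (.node (.node (.node (.node (.leaf [1]) (.leaf [])) (.leaf [])) (.node (.node (.leaf [1]) (.leaf [1])) (.leaf [1]))) (.node (.node (.node (.leaf [1]) (.leaf [])) (.leaf [])) (.node (.leaf []) (.leaf [1])))))) (.node (.node (.node (.node (.node (.node (.leaf []) (.leaf [1])) (.leaf [1])) (.node (.node (.leaf []) (.leaf [1])) (.leaf [5, 4, -1, -1]))) (.node (.node (.node (.leaf [1]) (.leaf [])) (.leaf [1])) (.node (.node (.leaf []) (.leaf [1])) (.leaf [])))) (.node (.node (.node (.node (.leaf [1]) (.leaf [1])) (.leaf [])) (.node (.node (.leaf [1]) (.leaf [-2737, -220, 2014, -919])) (.leaf [1]))) (.node (.node (.node (.leaf []) (.leaf [-34, 55, 72, -58])) (.leaf [])) (.node (.leaf []) (.leaf [1]))))) (.node (.node (.node (.node (.node (.leaf []) (.leaf [1])) (.leaf [1])) (.node (.node (.leaf [1]) (.leaf [1])) (.leaf []))) (.node (.node (.node (.leaf []) (.leaf [1])) (.leaf [551, 41, -407, 187])) (.node (.node (.leaf []) (.leaf [467, 62, -324, 139])) (.leaf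 [])))) (.node (.node (.node (.node (.leaf [1]) (.leaf [])) (.leaf [])) (.node (.node (.leaf [1]) (.leaf [])) (.leaf [1]))) (.node (.node (.node (.leaf []) (.leaf [1])) (.leaf [85, 10, -60, 26])) (.node (.leaf [1]) (.leaf [1])))))))

def sixL3 : Janko.Tree (List ℤ) :=
  (.node (.node (.node (.node (.node (.node (.node (.leaf []) (.leaf [-129, -6, 99, -47])) (.leaf [])) (.node (.node (.leaf []) (.leaf [145, 73, -58])) (.leaf [0, 1]))) (.node (.node (.node (.leaf []) (.leaf [-2, -1, 1])) (.leaf [2, 2, -1])) (.node (.node (.leaf []) (.leaf [-2, -1, 1])) (.leaf [])))) (.node (.node (.node (.node (.leaf []) (.leaf [2, 2, -1])) (.leaf [-2, -1, 1])) (.node (.node (.leaf []) (.leaf [0, 1])) (.leaf []))) (.node (.node (.node (.leaf [0, 1]) (.leaf [-477, -51, 341, -150])) (.leaf [])) (.node (.node (.leaf []) (.leaf [-27, -1, 21, -8])) (.leaf []))))) (.node (.node (.node (.node (.node (.leaf []) (.leaf [-93, -16, 61, -24])) (.leaf [])) (.node (.node (.leaf []) (.leaf [970, 69, -721, 333])) (.leaf []))) (.node (.node (.node (.leaf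 []) (.leaf [])) (.leaf [])) (.node (.node (.leaf [-2, -1, 1]) (.leaf [0, 0, 0, 1])) (.leaf [-260, -16, 195, -91])))) (.node (.node (.node (.node (.leaf []) (.leaf [0, 1])) (.leaf [])) (.node (.node (.leaf []) (.leaf [-2, -1, 1])) (.leaf []))) (.node (.node (.node (.leaf [-2, -1, 1]) (.leaf [])) (.leaf [])) (.node (.leaf []) (.leaf [47, 4, -35, 16])))))) (.node (.node (.node (.node (.node (.node (.leaf []) (.leaf [])) (.leaf [])) (.node (.node (.leaf []) (.leaf [])) (.leaf [0, 1]))) (.node (.node (.node (.leaf []) (.leaf [4, 2, -3, 1])) (.leaf [-2, -1, 1])) (.node (.node (.leaf [-3, -2, 0, 1]) (.leaf [505, 3, -402, 200])) (.leaf [0, 1])))) (.node (.node (.node (.node (.leaf []) (.leaf [])) (.leaf [])) (.node (.node (.leaf [-2, -1, 1]) (.leaf [-805, -72, 586, -264])) (.leaf []))) (.node (.node (.node (.leaf [0, 1]) (.leaf [])) (.leaf [])) (.node (.leaf [0, 1]) (.leaf [327, 43, -228, 97]))))) (.node (.node (.node (.node (.node (.leaf [0, 1]) (.leaf [])) (.leaf [])) (.node (.node (.leaf []) (.leaf [-682, -37, 516, -243]))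 (.leaf []))) (.node (.node (.node (.leaf []) (.leaf [])) (.leaf [])) (.node (.node (.leaf []) (.leaf [1082, 167, -732, 301])) (.leaf [2, 1, -2, 1])))) (.node (.node (.node (.node (.leaf []) (.leaf [32, 3, -24, 11])) (.leaf [])) (.node (.node (.leaf []) (.leaf [])) (.leaf []))) (.node (.node (.node (.leaf []) (.leaf [-198, -31, 133, -54])) (.leaf [0, 1])) (.node (.leaf []) (.leaf [])))))))

def sixL4 : Janko.Tree (List ℤ) :=
  (.node (.node (.node (.node (.node (.node (.node (.leaf []) (.leaf [])) (.leaf [])) (.node (.node (.leaf []) (.leaf [113, -5, -94, 49])) (.leaf [1]))) (.node (.node (.node (.leaf [1]) (.leaf [1])) (.leaf [1])) (.node (.node (.leaf []) (.leaf [-324, -74, 201, -71])) (.leaf [1])))) (.node (.node (.node (.node (.leaf [1]) (.leaf [1])) (.leaf [])) (.node (.node (.leaf []) (.leaf [1])) (.leaf [1]))) (.node (.node (.node (.leaf [1]) (.leaf [])) (.leaf [])) (.node (.node (.leaf [1]) (.leaf [8, 4, -3, 2])) (.leaf [553, 40, -410, 189]))))) (.node (.node (.node (.node (.node (.leaf []) (.leaf [])) (.leaf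 [])) (.node (.node (.leaf []) (.leaf [8, 65, 46, -49])) (.leaf [0, -1, -1, 1]))) (.node (.node (.node (.leaf []) (.leaf [-19, -5, 12, -4])) (.leaf [])) (.node (.node (.leaf []) (.leaf [-1, 0, 2])) (.leaf [])))) (.node (.node (.node (.node (.leaf []) (.leaf [1])) (.leaf [1])) (.node (.node (.leaf []) (.leaf [1])) (.leaf []))) (.node (.node (.node (.leaf []) (.leaf [])) (.leaf [1])) (.node (.leaf [1]) (.leaf [-1407, -115, 1034, -471])))))) (.node (.node (.node (.node (.node (.node (.leaf [1]) (.leaf [])) (.leaf [])) (.node (.node (.leaf []) (.leaf [1])) (.leaf [1]))) (.node (.node (.node (.leaf []) (.leaf [1])) (.leaf [])) (.node (.node (.leaf [1]) (.leaf [-590, 59, 519, -283])) (.leaf [1])))) (.node (.node (.node (.node (.leaf []) (.leaf [591, 65, -420, 184])) (.leaf [])) (.node (.node (.leaf []) (.leaf [1])) (.leaf [16, 0, -12, 6]))) (.node (.node (.node (.leaf [1]) (.leaf [])) (.leaf [1])) (.node (.leaf [1]) (.leaf []))))) (.node (.node (.node (.node (.node (.leaf [1]) (.leaf [5, -10, -12, 10])) (.leaf [])) (.node (.node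 (.leaf []) (.leaf [1])) (.leaf [3, 0, -2, 1]))) (.node (.node (.node (.leaf [1]) (.leaf [])) (.leaf [1])) (.node (.node (.leaf [1]) (.leaf [1100, 97, -802, 364])) (.leaf [-479, -29, 361, -169])))) (.node (.node (.node (.node (.leaf []) (.leaf [1])) (.leaf [1])) (.node (.node (.leaf []) (.leaf [1])) (.leaf []))) (.node (.node (.node (.leaf [1]) (.leaf [])) (.leaf [1])) (.node (.leaf []) (.leaf [440, 49, -313, 137])))))))

def sixL5 : Janko.Tree (List ℤ) :=
  (.node (.node (.node (.node (.node (.node (.node (.leaf []) (.leaf [])) (.leaf [])) (.node (.node (.leaf []) (.leaf [])) (.leaf []))) (.node (.node (.node (.leaf [-2, -1, 1]) (.leaf [-405, -101, 243, -81])) (.leaf [])) (.node (.node (.leaf []) (.leaf [0, -63, -51, 51])) (.leaf [-2, -1, 1])))) (.node (.node (.node (.node (.leaf []) (.leaf [])) (.leaf [])) (.node (.node (.leaf [0, 1]) (.leaf [1558, 120, -1150, 527])) (.leaf []))) (.node (.node (.node (.leaf []) (.leaf [0, 1])) (.leaf [])) (.node (.leaf []) (.leaf [2003, 173, -1464, 663]))))) (.node (.node (.node (.node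 (.node (.leaf [0, 1]) (.leaf [15, -2, -14, 8])) (.leaf [0, 1])) (.node (.node (.leaf []) (.leaf [-2, -2, 0, 1])) (.leaf []))) (.node (.node (.node (.leaf [1, 2, -1]) (.leaf [0, 1])) (.leaf [])) (.node (.node (.leaf []) (.leaf [-1, 0, 1, 1])) (.leaf [])))) (.node (.node (.node (.node (.leaf []) (.leaf [])) (.leaf [])) (.node (.node (.leaf []) (.leaf [30, 4, -21, 9])) (.leaf [0, 1]))) (.node (.node (.node (.leaf []) (.leaf [])) (.leaf [])) (.node (.leaf [-2, -1, 1]) (.leaf [])))))) (.node (.node (.node (.node (.node (.node (.leaf []) (.leaf [0, -1, -1, 1])) (.leaf [0, 1])) (.node (.node (.leaf [-2, -2, 0, 1]) (.leaf [145, -1, -117, 59])) (.leaf [235, 27, -167, 73]))) (.node (.node (.node (.leaf []) (.leaf [-443, -37, 324, -147])) (.leaf [])) (.node (.node (.leaf []) (.leaf [-75, 42, 93, -63])) (.leaf [-2, -1, 1])))) (.node (.node (.node (.node (.leaf []) (.leaf [0, 1])) (.leaf [])) (.node (.node (.leaf []) (.leaf [-488, -31, 365, -170])) (.leaf [0, 1]))) (.node (.node (.node (.leaf []) (.leaf [0, -1, -1, 1])) (.leaf []))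 (.node (.leaf []) (.leaf []))))) (.node (.node (.node (.node (.node (.leaf []) (.leaf [0, 1])) (.leaf [0, 1])) (.node (.node (.leaf [0, 1]) (.leaf [16, 3, -10, 4])) (.leaf [-37, -7, 24, -9]))) (.node (.node (.node (.leaf []) (.leaf [-95, 22, 93, -55])) (.leaf [])) (.node (.node (.leaf []) (.leaf [-113, 21, 107, -60])) (.leaf [-463, -57, 324, -139])))) (.node (.node (.node (.node (.leaf [0, 1]) (.leaf [])) (.leaf [])) (.node (.node (.leaf [2, 2, -1]) (.leaf [52, -51, -83, 62])) (.leaf []))) (.node (.node (.node (.leaf []) (.leaf [20, 3, -14, 6])) (.leaf [47, 4, -35, 16])) (.node (.leaf []) (.leaf [0, 1])))))))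

def sixL6 : Janko.Tree (List ℤ) :=
  (.node (.node (.node (.node (.node (.node (.node (.leaf []) (.leaf [])) (.leaf [1])) (.node (.node (.leaf []) (.leaf [1])) (.leaf []))) (.node (.node (.node (.leaf []) (.leaf [-460, -40, 336, -152])) (.leaf [])) (.node (.node (.leaf [1]) (.leaf [-1749, -149, 1281, -581])) (.leaf [])))) (.node (.node (.node (.node (.leaf []) (.leaf [585, 44, -433, 199])) (.leaf [])) (.node (.node (.leaf [1]) (.leaf [1])) (.leaf [1]))) (.node (.node (.node (.leaf []) (.leaf [1])) (.leaf [-2002, -175, 1462, -661])) (.node (.leaf []) (.leaf [1]))))) (.node (.node (.node (.node (.node (.leaf []) (.leaf [1])) (.leaf [1])) (.node (.node (.leaf [1]) (.leaf [1])) (.leaf [775, 70, -564, 254]))) (.node (.node (.node (.leaf [1]) (.leaf [1])) (.leaf [1])) (.node (.node (.leaf []) (.leaf [-156, 9, 132, -68])) (.leaf [])))) (.node (.node (.node (.node (.leaf []) (.leaf [])) (.leaf [])) (.node (.node (.leaf [1]) (.leaf [-489, -10, 384, -188])) (.leaf [1]))) (.node (.node (.node (.leaf []) (.leaf [])) (.leaf []))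 (.node (.leaf []) (.leaf [])))))) (.node (.node (.node (.node (.node (.node (.leaf []) (.leaf [])) (.leaf [1])) (.node (.node (.leaf [1]) (.leaf [1])) (.leaf []))) (.node (.node (.node (.leaf [1]) (.leaf [1])) (.leaf [])) (.node (.node (.leaf []) (.leaf [3265, 434, -2265, 959])) (.leaf [])))) (.node (.node (.node (.node (.leaf [1]) (.leaf [1])) (.leaf [1])) (.node (.node (.leaf []) (.leaf [103, -15, -94, 53])) (.leaf [1]))) (.node (.node (.node (.leaf []) (.leaf [])) (.leaf [])) (.node (.leaf [1]) (.leaf [1]))))) (.node (.node (.node (.node (.node (.leaf []) (.leaf [1])) (.leaf [1])) (.node (.node (.leaf [1]) (.leaf [-2, 0, 2, -1])) (.leaf [1]))) (.node (.node (.node (.leaf []) (.leaf [])) (.leaf [])) (.node (.node (.leaf []) (.leaf [1343, 191, -921, 386])) (.leaf [1])))) (.node (.node (.node (.node (.leaf [1]) (.leaf [1])) (.leaf [])) (.node (.node (.leaf [1]) (.leaf [188, 10, -142, 67])) (.leaf []))) (.node (.node (.node (.leaf [1]) (.leaf [1])) (.leaf [-52, 10, 50, -29])) (.node (.leaf [1]) (.leaf [1])))))))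

def sixL7 : Janko.Tree (List ℤ) :=
  (.node (.node (.node (.node (.node (.node (.node (.leaf []) (.leaf [])) (.leaf [])) (.node (.node (.leaf []) (.leaf [])) (.leaf [2, 2, -1]))) (.node (.node (.node (.leaf []) (.leaf [])) (.leaf [0, 1])) (.node (.node (.leaf [-2, -1, 1]) (.leaf [-4065, -446, 2895, -1269])) (.leaf [])))) (.node (.node (.node (.node (.leaf []) (.leaf [0, 1])) (.leaf [262, 23, -192, 87])) (.node (.node (.leaf []) (.leaf [565, 59, -405, 179])) (.leaf []))) (.node (.node (.node (.leaf [2, 2, -1]) (.leaf [-2, -1, 1])) (.leaf [-42, -12, 24, -7])) (.node (.leaf [2, 2, -1]) (.leaf [-18, -1, 13, -6]))))) (.node (.node (.node (.node (.node (.leaf []) (.leaf [198, 33, -132, 53])) (.leaf [])) (.node (.node (.leaf []) (.leaf [10, -1, -9, 5])) (.leaf []))) (.node (.node (.node (.leaf [-1, -1, 1]) (.leaf [])) (.leaf [-2, -1, 1])) (.node (.node (.leaf [-2, -2, 0, 1]) (.leaf [-5, 0, 5, -1])) (.leaf [])))) (.node (.node (.node (.node (.leaf []) (.leaf [2, 2, -1])) (.leaf [])) (.node (.node (.leaf []) (.leaf [-113, 2,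 91, -46])) (.leaf []))) (.node (.node (.node (.leaf [2, 3, 0, -1]) (.leaf [0, -1, -1, 1])) (.leaf [2, 2, -1])) (.node (.leaf []) (.leaf [0, 1])))))) (.node (.node (.node (.node (.node (.node (.leaf []) (.leaf [])) (.leaf [])) (.node (.node (.leaf []) (.leaf [-435, -41, 315, -141])) (.leaf []))) (.node (.node (.node (.leaf []) (.leaf [172, 8, -132, 63])) (.leaf [52, -7, -48, 27])) (.node (.node (.leaf []) (.leaf [1380, 117, -1011, 459])) (.leaf [])))) (.node (.node (.node (.node (.leaf []) (.leaf [-12, 4, 13, -8])) (.leaf [-2, -1, 1])) (.node (.node (.leaf [-38, -7, 24, -9]) (.leaf [545, -28, -459, 241])) (.leaf [13, -1, -11, 6]))) (.node (.node (.node (.leaf []) (.leaf [-1420, -133, 1029, -461])) (.leaf [])) (.node (.leaf [-2, 0, 2, -1]) (.leaf []))))) (.node (.node (.node (.node (.node (.leaf []) (.leaf [192, -1, -155, 78])) (.leaf [])) (.node (.node (.leaf []) (.leaf [])) (.leaf [23, 9, -11, 2]))) (.node (.node (.node (.leaf []) (.leaf [-3, -2, 0, 1])) (.leaf [-5, -6, -1, 3])) (.node (.node (.leaf []) (.leaf [938,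 85, -682, 309])) (.leaf [])))) (.node (.node (.node (.node (.leaf []) (.leaf [85, 179, 75, -109])) (.leaf [0, 1])) (.node (.node (.leaf []) (.leaf [])) (.leaf [-508, -57, 360, -157]))) (.node (.node (.node (.leaf []) (.leaf [-52, -7, 36, -15])) (.leaf [])) (.node (.leaf []) (.leaf [-2, -1, 1])))))))

def sixL : Janko.Tree (List ℤ) := (.node (.node (.node sixL0 sixL4) (.node sixL2 sixL6)) (.node (.node sixL1 sixL5) (.node sixL3 sixL7)))

def sixKind0 : Janko.Tree (ℕ) :=
  (.node (.node (.node (.node (.node (.node (.node (.leaf 0) (.leaf 0)) (.leaf 0)) (.node (.node (.leaf 0) (.leaf 0)) (.leaf 3))) (.node (.node (.node (.leaf 0) (.leaf 0)) (.leaf 3)) (.node (.node (.leaf 0) (.leaf 3)) (.leaf 3)))) (.node (.node (.node (.node (.leaf 0) (.leaf 3)) (.leaf 0)) (.node (.node (.leaf 0) (.leaf 3)) (.leaf 0))) (.node (.node (.node (.leaf 3) (.leaf 3)) (.leaf 3)) (.node (.node (.leaf 3) (.leaf 3)) (.leaf 0))))) (.node (.node (.node (.node (.node (.leaf 0) (.leaf 3)) (.leaf 3)) (.node (.node (.leaf 0) (.leaf 3)) (.leaf 0))) (.node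 (.node (.node (.leaf 0) (.leaf 0)) (.leaf 3)) (.node (.node (.leaf 0) (.leaf 2)) (.leaf 0)))) (.node (.node (.node (.node (.leaf 0) (.leaf 3)) (.leaf 0)) (.node (.node (.leaf 0) (.leaf 3)) (.leaf 3))) (.node (.node (.node (.leaf 0) (.leaf 3)) (.leaf 3)) (.node (.leaf 0) (.leaf 3)))))) (.node (.node (.node (.node (.node (.node (.leaf 3) (.leaf 3)) (.leaf 0)) (.node (.node (.leaf 3) (.leaf 0)) (.leaf 3))) (.node (.node (.node (.leaf 0) (.leaf 0)) (.leaf 0)) (.node (.node (.leaf 0) (.leaf 3)) (.leaf 3)))) (.node (.node (.node (.node (.leaf 0) (.leaf 3)) (.leaf 3)) (.node (.node (.leaf 0) (.leaf 3)) (.leaf 0))) (.node (.node (.node (.leaf 3) (.leaf 3)) (.leaf 3)) (.node (.leaf 3) (.leaf 0))))) (.node (.node (.node (.node (.node (.leaf 3) (.leaf 0)) (.leaf 0)) (.node (.node (.leaf 0) (.leaf 0)) (.leaf 3))) (.node (.node (.node (.leaf 0) (.leaf 0)) (.leaf 0)) (.node (.node (.leaf 3) (.leaf 3)) (.leaf 3)))) (.node (.node (.node (.node (.leaf 0) (.leaf 3)) (.leaf 3)) (.node (.node (.leaf 0) (.leaf 0)) (.leaf 0))) (.node (.node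 (.node (.leaf 3) (.leaf 3)) (.leaf 3)) (.node (.leaf 3) (.leaf 0)))))))

def sixKind1 : Janko.Tree (ℕ) :=
  (.node (.node (.node (.node (.node (.node (.node (.leaf 0) (.leaf 0)) (.leaf 0)) (.node (.node (.leaf 3) (.leaf 0)) (.leaf 0))) (.node (.node (.node (.leaf 0) (.leaf 3)) (.leaf 0)) (.node (.node (.leaf 3) (.leaf 3)) (.leaf 0)))) (.node (.node (.node (.node (.leaf 0) (.leaf 0)) (.leaf 0)) (.node (.node (.leaf 3) (.leaf 0)) (.leaf 0))) (.node (.node (.node (.leaf 0) (.leaf 0)) (.leaf 0)) (.node (.node (.leaf 0) (.leaf 3)) (.leaf 3))))) (.node (.node (.node (.node (.node (.leaf 0) (.leaf 3)) (.leaf 0)) (.node (.node (.leaf 0) (.leaf 3)) (.leaf 3))) (.node (.node (.node (.leaf 3) (.leaf 0)) (.leaf 0)) (.node (.node (.leaf 0) (.leaf 2)) (.leaf 3)))) (.node (.node (.node (.node (.leaf 3) (.leaf 0)) (.leaf 0)) (.node (.node (.leaf 0) (.leaf 3)) (.leaf 0))) (.node (.node (.node (.leaf 0) (.leaf 3)) (.leaf 0)) (.node (.leaf 0) (.leaf 3)))))) (.node (.node (.node (.node (.node (.node (.leaf 0) (.leaf 3)) (.leaf 3)) (.node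 (.node (.leaf 3) (.leaf 3)) (.leaf 0))) (.node (.node (.node (.leaf 0) (.leaf 3)) (.leaf 0)) (.node (.node (.leaf 0) (.leaf 3)) (.leaf 3)))) (.node (.node (.node (.node (.leaf 0) (.leaf 0)) (.leaf 0)) (.node (.node (.leaf 0) (.leaf 3)) (.leaf 3))) (.node (.node (.node (.leaf 0) (.leaf 3)) (.leaf 3)) (.node (.leaf 0) (.leaf 3))))) (.node (.node (.node (.node (.node (.leaf 0) (.leaf 0)) (.leaf 3)) (.node (.node (.leaf 0) (.leaf 3)) (.leaf 3))) (.node (.node (.node (.leaf 0) (.leaf 3)) (.leaf 3)) (.node (.node (.leaf 0) (.leaf 3)) (.leaf 3)))) (.node (.node (.node (.node (.leaf 0) (.leaf 0)) (.leaf 0)) (.node (.node (.leaf 3) (.leaf 3)) (.leaf 3))) (.node (.node (.node (.leaf 0) (.leaf 3)) (.leaf 0)) (.node (.leaf 3) (.leaf 3)))))))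

def sixKind2 : Janko.Tree (ℕ) :=
  (.node (.node (.node (.node (.node (.node (.node (.leaf 3) (.leaf 3)) (.leaf 3)) (.node (.node (.leaf 3) (.leaf 3)) (.leaf 0))) (.node (.node (.node (.leaf 0) (.leaf 3)) (.leaf 3)) (.node (.node (.leaf 3) (.leaf 3)) (.leaf 3)))) (.node (.node (.node (.node (.leaf 3) (.leaf 0)) (.leaf 3)) (.node (.node (.leaf 3) (.leaf 3)) (.leaf 0))) (.node (.node (.node (.leaf 0) (.leaf 3)) (.leaf 0)) (.node (.node (.leaf 0) (.leaf 3)) (.leaf 0))))) (.node (.node (.node (.node (.node (.leaf 3) (.leaf 3)) (.leaf 3)) (.node (.node (.leaf 3) (.leaf 0)) (.leaf 3))) (.node (.node (.node (.leaf 3) (.leaf 3)) (.leaf 0)) (.node (.node (.leaf 3) (.leaf 2)) (.leaf 3)))) (.node (.node (.node (.node (.leaf 3) (.leaf 0)) (.leaf 0)) (.node (.node (.leaf 3) (.leaf 3)) (.leaf 3))) (.node (.node (.node (.leaf 3) (.leaf 0)) (.leaf 0)) (.node (.leaf 0) (.leaf 3)))))) (.node (.node (.node (.node (.node (.node (.leaf 0) (.leaf 3)) (.leaf 3)) (.node (.node (.leaf 0) (.leaf 3)) (.leaf 3))) (.node (.node (.node (.leaf 3)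 (.leaf 0)) (.leaf 3)) (.node (.node (.leaf 0) (.leaf 3)) (.leaf 0)))) (.node (.node (.node (.node (.leaf 3) (.leaf 3)) (.leaf 0)) (.node (.node (.leaf 3) (.leaf 3)) (.leaf 3))) (.node (.node (.node (.leaf 0) (.leaf 3)) (.leaf 0)) (.node (.leaf 0) (.leaf 3))))) (.node (.node (.node (.node (.node (.leaf 0) (.leaf 3)) (.leaf 3)) (.node (.node (.leaf 3) (.leaf 3)) (.leaf 0))) (.node (.node (.node (.leaf 0) (.leaf 3)) (.leaf 3)) (.node (.node (.leaf 0) (.leaf 3)) (.leaf 0)))) (.node (.node (.node (.node (.leaf 3) (.leaf 0)) (.leaf 0)) (.node (.node (.leaf 3) (.leaf 0)) (.leaf 3))) (.node (.node (.node (.leaf 0) (.leaf 3)) (.leaf 3)) (.node (.leaf 3) (.leaf 3)))))))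

def sixKind3 : Janko.Tree (ℕ) :=
  (.node (.node (.node (.node (.node (.node (.node (.leaf 0) (.leaf 3)) (.leaf 0)) (.node (.node (.leaf 0) (.leaf 3)) (.leaf 3))) (.node (.node (.node (.leaf 0) (.leaf 3)) (.leaf 3)) (.node (.node (.leaf 0) (.leaf 3)) (.leaf 0)))) (.node (.node (.node (.node (.leaf 0) (.leaf 3)) (.leaf 3)) (.node (.node (.leaf 0) (.leaf 3)) (.leaf 0))) (.node (.node (.node (.leaf 3) (.leaf 3)) (.leaf 0)) (.node (.node (.leaf 0) (.leaf 3)) (.leaf 0))))) (.node (.node (.node (.node (.node (.leaf 0) (.leaf 3)) (.leaf 0)) (.node (.node (.leaf 0) (.leaf 3)) (.leaf 0))) (.node (.node (.node (.leaf 0) (.leaf 0)) (.leaf 0)) (.node (.node (.leaf 3) (.leaf 2)) (.leaf 3)))) (.node (.node (.node (.node (.leaf 0) (.leaf 3)) (.leaf 0)) (.node (.node (.leaf 0) (.leaf 3)) (.leaf 0))) (.node (.node (.node (.leaf 3) (.leaf 0)) (.leaf 0)) (.node (.leaf 0) (.leaf 3)))))) (.node (.node (.node (.node (.node (.node (.leaf 0) (.leaf 0)) (.leaf 0)) (.node (.node (.leaf 0) (.leaf 0)) (.leaf 3))) (.node (.node (.node (.leaf 0)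 (.leaf 3)) (.leaf 3)) (.node (.node (.leaf 3) (.leaf 3)) (.leaf 3)))) (.node (.node (.node (.node (.leaf 0) (.leaf 0)) (.leaf 0)) (.node (.node (.leaf 3) (.leaf 3)) (.leaf 0))) (.node (.node (.node (.leaf 3) (.leaf 0)) (.leaf 0)) (.node (.leaf 3) (.leaf 3))))) (.node (.node (.node (.node (.node (.leaf 3) (.leaf 0)) (.leaf 0)) (.node (.node (.leaf 0) (.leaf 3)) (.leaf 0))) (.node (.node (.node (.leaf 0) (.leaf 0)) (.leaf 0)) (.node (.node (.leaf 0) (.leaf 3)) (.leaf 3)))) (.node (.node (.node (.node (.leaf 0) (.leaf 3)) (.leaf 0)) (.node (.node (.leaf 0) (.leaf 0)) (.leaf 0))) (.node (.node (.node (.leaf 0) (.leaf 3)) (.leaf 3)) (.node (.leaf 0) (.leaf 0)))))))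

def sixKind4 : Janko.Tree (ℕ) :=
  (.node (.node (.node (.node (.node (.node (.node (.leaf 0) (.leaf 0)) (.leaf 0)) (.node (.node (.leaf 0) (.leaf 3)) (.leaf 3))) (.node (.node (.node (.leaf 3) (.leaf 3)) (.leaf 3)) (.node (.node (.leaf 0) (.leaf 3)) (.leaf 3)))) (.node (.node (.node (.node (.leaf 3) (.leaf 3)) (.leaf 0)) (.node (.node (.leaf 0) (.leaf 3)) (.leaf 3))) (.node (.node (.node (.leaf 3) (.leaf 0)) (.leaf 0)) (.node (.node (.leaf 3) (.leaf 3)) (.leaf 3))))) (.node (.node (.node (.node (.node (.leaf 0) (.leaf 0)) (.leaf 0)) (.node (.node (.leaf 0) (.leaf 3)) (.leaf 3))) (.node (.node (.node (.leaf 0) (.leaf 3)) (.leaf 0)) (.node (.node (.leaf 0) (.leaf 3)) (.leaf 0)))) (.node (.node (.node (.node (.leaf 0) (.leaf 3)) (.leaf 3)) (.node (.node (.leaf 0) (.leaf 3)) (.leaf 0))) (.node (.node (.node (.leaf 0) (.leaf 0)) (.leaf 3)) (.node (.leaf 3) (.leaf 3)))))) (.node (.node (.node (.node (.node (.node (.leaf 3) (.leaf 0)) (.leaf 0)) (.node (.node (.leaf 0) (.leaf 3)) (.leaf 3))) (.node (.node (.node (.leaf 0)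 (.leaf 3)) (.leaf 0)) (.node (.node (.leaf 3) (.leaf 3)) (.leaf 3)))) (.node (.node (.node (.node (.leaf 0) (.leaf 3)) (.leaf 0)) (.node (.node (.leaf 0) (.leaf 3)) (.leaf 3))) (.node (.node (.node (.leaf 3) (.leaf 0)) (.leaf 3)) (.node (.leaf 3) (.leaf 0))))) (.node (.node (.node (.node (.node (.leaf 3) (.leaf 3)) (.leaf 0)) (.node (.node (.leaf 0) (.leaf 3)) (.leaf 3))) (.node (.node (.node (.leaf 3) (.leaf 0)) (.leaf 3)) (.node (.node (.leaf 3) (.leaf 3)) (.leaf 3)))) (.node (.node (.node (.node (.leaf 0) (.leaf 3)) (.leaf 3)) (.node (.node (.leaf 0) (.leaf 3)) (.leaf 0))) (.node (.node (.node (.leaf 3) (.leaf 0)) (.leaf 3)) (.node (.leaf 0) (.leaf 3)))))))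

def sixKind5 : Janko.Tree (ℕ) :=
  (.node (.node (.node (.node (.node (.node (.node (.leaf 0) (.leaf 0)) (.leaf 0)) (.node (.node (.leaf 0) (.leaf 0)) (.leaf 0))) (.node (.node (.node (.leaf 3) (.leaf 3)) (.leaf 0)) (.node (.node (.leaf 0) (.leaf 3)) (.leaf 3)))) (.node (.node (.node (.node (.leaf 0) (.leaf 0)) (.leaf 0)) (.node (.node (.leaf 3) (.leaf 3)) (.leaf 0))) (.node (.node (.node (.leaf 0) (.leaf 3)) (.leaf 0)) (.node (.leaf 0) (.leaf 3))))) (.node (.node (.node (.node (.node (.leaf 3) (.leaf 3)) (.leaf 3)) (.node (.node (.leaf 0) (.leaf 3)) (.leaf 0))) (.node (.node (.node (.leaf 3) (.leaf 3)) (.leaf 0)) (.node (.node (.leaf 0) (.leaf 3)) (.leaf 0)))) (.node (.node (.node (.node (.leaf 0) (.leaf 0)) (.leaf 0)) (.node (.node (.leaf 0) (.leaf 3)) (.leaf 3))) (.node (.node (.node (.leaf 0) (.leaf 0)) (.leaf 0)) (.node (.leaf 3) (.leaf 0)))))) (.node (.node (.node (.node (.node (.node (.leaf 0) (.leaf 3)) (.leaf 3)) (.node (.node (.leaf 3) (.leaf 3)) (.leaf 3))) (.node (.node (.node (.leaf 0) (.leaf 3)) (.leaf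 0)) (.node (.node (.leaf 0) (.leaf 3)) (.leaf 3)))) (.node (.node (.node (.node (.leaf 0) (.leaf 3)) (.leaf 0)) (.node (.node (.leaf 0) (.leaf 3)) (.leaf 3))) (.node (.node (.node (.leaf 0) (.leaf 3)) (.leaf 0)) (.node (.leaf 0) (.leaf 0))))) (.node (.node (.node (.node (.node (.leaf 0) (.leaf 3)) (.leaf 3)) (.node (.node (.leaf 3) (.leaf 3)) (.leaf 3))) (.node (.node (.node (.leaf 0) (.leaf 3)) (.leaf 0)) (.node (.node (.leaf 0) (.leaf 3)) (.leaf 3)))) (.node (.node (.node (.node (.leaf 3) (.leaf 0)) (.leaf 0)) (.node (.node (.leaf 3) (.leaf 3)) (.leaf 0))) (.node (.node (.node (.leaf 0) (.leaf 3)) (.leaf 3)) (.node (.leaf 0) (.leaf 3)))))))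

def sixKind6 : Janko.Tree (ℕ) :=
  (.node (.node (.node (.node (.node (.node (.node (.leaf 0) (.leaf 0)) (.leaf 3)) (.node (.node (.leaf 0) (.leaf 3)) (.leaf 0))) (.node (.node (.node (.leaf 0) (.leaf 3)) (.leaf 0)) (.node (.node (.leaf 3) (.leaf 3)) (.leaf 0)))) (.node (.node (.node (.node (.leaf 0) (.leaf 3)) (.leaf 0)) (.node (.node (.leaf 3) (.leaf 3)) (.leaf 3))) (.node (.node (.node (.leaf 0) (.leaf 3)) (.leaf 3)) (.node (.leaf 0) (.leaf 3))))) (.node (.node (.node (.node (.node (.leaf 0) (.leaf 3)) (.leaf 3)) (.node (.node (.leaf 3) (.leaf 3)) (.leaf 3))) (.node (.node (.node (.leaf 3) (.leaf 3)) (.leaf 3)) (.node (.node (.leaf 0) (.leaf 3)) (.leaf 0)))) (.node (.node (.node (.node (.leaf 0) (.leaf 0)) (.leaf 0)) (.node (.node (.leaf 3) (.leaf 3)) (.leaf 3))) (.node (.node (.node (.leaf 0) (.leaf 0)) (.leaf 0)) (.node (.leaf 0) (.leaf 0)))))) (.node (.node (.node (.node (.node (.node (.leaf 0) (.leaf 0)) (.leaf 3)) (.node (.node (.leaf 3) (.leaf 3)) (.leaf 0))) (.node (.node (.node (.leaf 3) (.leaf 3)) (.leaf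 0)) (.node (.node (.leaf 0) (.leaf 3)) (.leaf 0)))) (.node (.node (.node (.node (.leaf 3) (.leaf 3)) (.leaf 3)) (.node (.node (.leaf 0) (.leaf 3)) (.leaf 3))) (.node (.node (.node (.leaf 0) (.leaf 0)) (.leaf 0)) (.node (.leaf 3) (.leaf 3))))) (.node (.node (.node (.node (.node (.leaf 0) (.leaf 3)) (.leaf 3)) (.node (.node (.leaf 3) (.leaf 3)) (.leaf 3))) (.node (.node (.node (.leaf 0) (.leaf 0)) (.leaf 0)) (.node (.node (.leaf 0) (.leaf 3)) (.leaf 3)))) (.node (.node (.node (.node (.leaf 3) (.leaf 3)) (.leaf 0)) (.node (.node (.leaf 3) (.leaf 3)) (.leaf 0))) (.node (.node (.node (.leaf 3) (.leaf 3)) (.leaf 3)) (.node (.leaf 3) (.leaf 3)))))))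

def sixKind7 : Janko.Tree (ℕ) :=
  (.node (.node (.node (.node (.node (.node (.node (.leaf 0) (.leaf 0)) (.leaf 0)) (.node (.node (.leaf 0) (.leaf 0)) (.leaf 3))) (.node (.node (.node (.leaf 0) (.leaf 0)) (.leaf 3)) (.node (.node (.leaf 3) (.leaf 3)) (.leaf 0)))) (.node (.node (.node (.node (.leaf 0) (.leaf 3)) (.leaf 3)) (.node (.node (.leaf 0) (.leaf 3)) (.leaf 0))) (.node (.node (.node (.leaf 3) (.leaf 3)) (.leaf 3)) (.node (.leaf 3) (.leaf 3))))) (.node (.node (.node (.node (.node (.leaf 0) (.leaf 3)) (.leaf 0)) (.node (.node (.leaf 0) (.leaf 3)) (.leaf 0))) (.node (.node (.node (.leaf 3) (.leaf 0)) (.leaf 3)) (.node (.node (.leaf 3) (.leaf 3)) (.leaf 0)))) (.node (.node (.node (.node (.leaf 0) (.leaf 3)) (.leaf 0)) (.node (.node (.leaf 0) (.leaf 3)) (.leaf 0))) (.node (.node (.node (.leaf 3) (.leaf 3)) (.leaf 3)) (.node (.leaf 0) (.leaf 3)))))) (.node (.node (.node (.node (.node (.node (.leaf 0) (.leaf 0)) (.leaf 0)) (.node (.node (.leaf 0) (.leaf 3)) (.leaf 0))) (.node (.node (.node (.leaf 0) (.leaf 3)) (.leaf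 3)) (.node (.node (.leaf 0) (.leaf 3)) (.leaf 0)))) (.node (.node (.node (.node (.leaf 0) (.leaf 3)) (.leaf 3)) (.node (.node (.leaf 3) (.leaf 3)) (.leaf 3))) (.node (.node (.node (.leaf 0) (.leaf 3)) (.leaf 0)) (.node (.leaf 3) (.leaf 0))))) (.node (.node (.node (.node (.node (.leaf 0) (.leaf 3)) (.leaf 0)) (.node (.node (.leaf 0) (.leaf 0)) (.leaf 3))) (.node (.node (.node (.leaf 0) (.leaf 3)) (.leaf 3)) (.node (.node (.leaf 0) (.leaf 3)) (.leaf 0)))) (.node (.node (.node (.node (.leaf 0) (.leaf 3)) (.leaf 3)) (.node (.node (.leaf 0) (.leaf 0)) (.leaf 3))) (.node (.node (.node (.leaf 0) (.leaf 3)) (.leaf 0)) (.node (.leaf 0) (.leaf 3)))))))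

def sixKind : Janko.Tree (ℕ) := (.node (.node (.node sixKind0 sixKind4) (.node sixKind2 sixKind6)) (.node (.node sixKind1 sixKind5) (.node sixKind3 sixKind7)))

def sixRank0 : Janko.Tree (ℕ) :=
  (.node (.node (.node (.node (.node (.node (.node (.leaf 0) (.leaf 296)) (.leaf 167)) (.node (.node (.leaf 88) (.leaf 345)) (.leaf 436))) (.node (.node (.node (.leaf 47) (.leaf 322)) (.leaf 449)) (.node (.node (.leaf 128) (.leaf 363)) (.leaf 422)))) (.node (.node (.node (.node (.leaf 24) (.leaf 672)) (.leaf 185)) (.node (.node (.leaf 109) (.leaf 372)) (.leaf 254))) (.node (.node (.node (.leaf 499) (.leaf 387)) (.leaf 443)) (.node (.node (.leaf 471) (.leaf 732)) (.leaf 285))))) (.node (.node (.node (.node (.node (.leaf 13) (.leaf 724)) (.leaf 702)) (.node (.node (.leaf 98) (.leaf 692)) (.leaf 248))) (.node (.node (.node (.leaf 59) (.leaf 326)) (.leaf 446)) (.node (.node (.leaf 138) (.leaf 359)) (.leaf 278)))) (.node (.node (.node (.node (.leaf 36) (.leaf 399)) (.leaf 195)) (.node (.node (.leaf 118) (.leaf 367)) (.leaf 675)))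 (.node (.node (.node (.leaf 78) (.leaf 383)) (.leaf 440)) (.node (.leaf 157) (.leaf 633)))))) (.node (.node (.node (.node (.node (.node (.leaf 517) (.leaf 669)) (.leaf 173)) (.node (.node (.leaf 490) (.leaf 349)) (.leaf 434))) (.node (.node (.node (.leaf 53) (.leaf 324)) (.leaf 210)) (.node (.node (.leaf 132) (.leaf 361)) (.leaf 420)))) (.node (.node (.node (.node (.leaf 30) (.leaf 402)) (.leaf 454)) (.node (.node (.leaf 113) (.leaf 369)) (.leaf 260))) (.node (.node (.node (.leaf 497) (.leaf 384)) (.leaf 442)) (.node (.leaf 469) (.leaf 288))))) (.node (.node (.node (.node (.node (.leaf 514) (.leaf 307)) (.leaf 181)) (.node (.node (.leaf 104) (.leaf 352)) (.leaf 431))) (.node (.node (.node (.leaf 62) (.leaf 330)) (.leaf 220)) (.node (.node (.leaf 473) (.leaf 597)) (.leaf 417)))) (.node (.node (.node (.node (.leaf 42) (.leaf 397)) (.leaf 451)) (.node (.node (.leaf 124) (.leaf 355)) (.leaf 266))) (.node (.node (.node (.leaf 494) (.leaf 727)) (.leaf 438)) (.node (.leaf 663) (.leaf 294)))))))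

def sixRank1 : Janko.Tree (ℕ) :=
  (.node (.node (.node (.node (.node (.node (.node (.leaf 1) (.leaf 297)) (.leaf 168)) (.node (.node (.leaf 549) (.leaf 346)) (.leaf 241))) (.node (.node (.node (.leaf 48) (.leaf 525)) (.leaf 207)) (.node (.node (.leaf 545) (.leaf 679)) (.leaf 271)))) (.node (.node (.node (.node (.leaf 25) (.leaf 310)) (.leaf 186)) (.node (.node (.leaf 587) (.leaf 354)) (.leaf 255))) (.node (.node (.node (.leaf 69) (.leaf 334)) (.leaf 224)) (.node (.node (.leaf 149) (.leaf 621)) (.leaf 638))))) (.node (.node (.node (.node (.node (.leaf 14) (.leaf 614)) (.leaf 177)) (.node (.node (.leaf 99) (.leaf 703)) (.leaf 626))) (.node (.node (.node (.leaf 552) (.leaf 327)) (.leaf 215)) (.node (.node (.leaf 139) (.leaf 519)) (.leaf 650)))) (.node (.node (.node (.node (.leaf 554) (.leaf 315)) (.leaf 196)) (.node (.node (.leaf 119) (.leaf 642)) (.leaf 262))) (.node (.node (.node (.leaf 79) (.leaf 635)) (.leaf 234)) (.node (.leaf 158) (.leaf 532)))))) (.node (.node (.node (.node (.node (.node (.leaf 7) (.leaf 683))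 (.leaf 581)) (.node (.node (.leaf 566) (.leaf 521)) (.leaf 245))) (.node (.node (.node (.leaf 54) (.leaf 630)) (.leaf 211)) (.node (.node (.leaf 133) (.leaf 726)) (.leaf 664)))) (.node (.node (.node (.node (.leaf 31) (.leaf 313)) (.leaf 190)) (.node (.node (.leaf 114) (.leaf 697)) (.leaf 591))) (.node (.node (.node (.leaf 73) (.leaf 603)) (.leaf 662)) (.node (.leaf 154) (.leaf 623))))) (.node (.node (.node (.node (.node (.leaf 19) (.leaf 308)) (.leaf 583)) (.node (.node (.leaf 105) (.leaf 636)) (.leaf 571))) (.node (.node (.node (.leaf 63) (.leaf 523)) (.leaf 632)) (.node (.node (.leaf 143) (.leaf 739)) (.leaf 563)))) (.node (.node (.node (.node (.leaf 43) (.leaf 319)) (.leaf 202)) (.node (.node (.leaf 546) (.leaf 728)) (.leaf 593))) (.node (.node (.node (.leaf 83) (.leaf 711)) (.leaf 239)) (.node (.leaf 610) (.leaf 572)))))))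

def sixRank2 : Janko.Tree (ℕ) :=
  (.node (.node (.node (.node (.node (.node (.node (.leaf 518) (.leaf 409)) (.leaf 463)) (.node (.node (.leaf 491) (.leaf 380)) (.leaf 242))) (.node (.node (.node (.leaf 49) (.leaf 394)) (.leaf 648)) (.node (.node (.leaf 477) (.leaf 362)) (.leaf 668)))) (.node (.node (.node (.node (.leaf 512) (.leaf 311)) (.leaf 455)) (.node (.node (.leaf 484) (.leaf 694)) (.leaf 256))) (.node (.node (.node (.leaf 70) (.leaf 386)) (.leaf 225)) (.node (.node (.leaf 150) (.leaf 731)) (.leaf 286))))) (.node (.node (.node (.node (.node (.leaf 515) (.leaf 407)) (.leaf 459)) (.node (.node (.leaf 488) (.leaf 351)) (.leaf 432))) (.node (.node (.node (.leaf 502) (.leaf 390)) (.leaf 216)) (.node (.node (.leaf 474) (.leaf 557)) (.leaf 418)))) (.node (.node (.node (.node (.leaf 508) (.leaf 316)) (.leaf 197)) (.node (.node (.leaf 481) (.leaf 366)) (.leaf 425))) (.node (.node (.node (.leaf 495) (.leaf 339)) (.leaf 235)) (.node (.leaf 159) (.leaf 412)))))) (.node (.node (.node (.node (.node (.node (.leaf 8) (.leaf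 408)) (.leaf 461)) (.node (.node (.leaf 94) (.leaf 378)) (.leaf 617))) (.node (.node (.node (.leaf 504) (.leaf 325)) (.leaf 447)) (.node (.node (.leaf 134) (.leaf 360)) (.leaf 275)))) (.node (.node (.node (.node (.leaf 510) (.leaf 401)) (.leaf 191)) (.node (.node (.leaf 482) (.leaf 722)) (.leaf 427))) (.node (.node (.node (.leaf 74) (.leaf 714)) (.leaf 229)) (.node (.leaf 155) (.leaf 414))))) (.node (.node (.node (.node (.node (.leaf 20) (.leaf 405)) (.leaf 457)) (.node (.node (.leaf 486) (.leaf 374)) (.leaf 252))) (.node (.node (.node (.leaf 64) (.leaf 388)) (.leaf 677)) (.node (.node (.leaf 144) (.leaf 738)) (.leaf 283)))) (.node (.node (.node (.node (.leaf 507) (.leaf 320)) (.leaf 203)) (.node (.node (.leaf 479) (.leaf 356)) (.leaf 423))) (.node (.node (.node (.leaf 84) (.leaf 382)) (.leaf 656)) (.node (.leaf 465) (.leaf 411)))))))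

def sixRank3 : Janko.Tree (ℕ) :=
  (.node (.node (.node (.node (.node (.node (.node (.leaf 2) (.leaf 655)) (.leaf 169)) (.node (.node (.leaf 89) (.leaf 709)) (.leaf 537))) (.node (.node (.node (.leaf 50) (.leaf 561)) (.leaf 590)) (.node (.node (.leaf 129) (.leaf 558)) (.leaf 272)))) (.node (.node (.node (.node (.leaf 26) (.leaf 580)) (.leaf 574)) (.node (.node (.leaf 110) (.leaf 520)) (.leaf 257))) (.node (.node (.node (.leaf 551) (.leaf 673)) (.leaf 226)) (.node (.node (.leaf 151) (.leaf 628)) (.leaf 287))))) (.node (.node (.node (.node (.node (.leaf 15) (.leaf 657)) (.leaf 178)) (.node (.node (.leaf 100) (.leaf 690)) (.leaf 249))) (.node (.node (.node (.leaf 60) (.leaf 328)) (.leaf 217)) (.node (.node (.leaf 575) (.leaf 595)) (.leaf 676)))) (.node (.node (.node (.node (.leaf 37) (.leaf 526)) (.leaf 198)) (.node (.node (.leaf 120) (.leaf 559)) (.leaf 263))) (.node (.node (.node (.leaf 573) (.leaf 340)) (.leaf 236)) (.node (.leaf 160) (.leaf 641)))))) (.node (.node (.node (.node (.node (.node (.leaf 9) (.leaf 302))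 (.leaf 174)) (.node (.node (.leaf 95) (.leaf 350)) (.leaf 536))) (.node (.node (.node (.leaf 55) (.leaf 609)) (.leaf 567)) (.node (.node (.leaf 615) (.leaf 698)) (.leaf 533)))) (.node (.node (.node (.node (.leaf 32) (.leaf 314)) (.leaf 192)) (.node (.node (.leaf 570) (.leaf 708)) (.leaf 261))) (.node (.node (.node (.leaf 550) (.leaf 336)) (.leaf 230)) (.node (.leaf 544) (.leaf 705))))) (.node (.node (.node (.node (.node (.leaf 555) (.leaf 309)) (.leaf 182)) (.node (.node (.leaf 106) (.leaf 689)) (.leaf 253))) (.node (.node (.node (.leaf 65) (.leaf 331)) (.leaf 221)) (.node (.node (.leaf 145) (.leaf 737)) (.leaf 607)))) (.node (.node (.node (.node (.leaf 44) (.leaf 682)) (.leaf 204)) (.node (.node (.leaf 125) (.leaf 357)) (.leaf 267))) (.node (.node (.node (.leaf 85) (.leaf 681)) (.leaf 538)) (.node (.leaf 163) (.leaf 295)))))))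

def sixRank4 : Janko.Tree (ℕ) :=
  (.node (.node (.node (.node (.node (.node (.node (.leaf 3) (.leaf 298)) (.leaf 170)) (.node (.node (.leaf 90) (.leaf 712)) (.leaf 435))) (.node (.node (.node (.leaf 505) (.leaf 393)) (.leaf 448)) (.node (.node (.leaf 130) (.leaf 717)) (.leaf 421)))) (.node (.node (.node (.node (.leaf 511) (.leaf 403)) (.leaf 187)) (.node (.node (.leaf 111) (.leaf 371)) (.leaf 429))) (.node (.node (.node (.leaf 498) (.leaf 335)) (.leaf 227)) (.node (.node (.leaf 470) (.leaf 608)) (.leaf 686))))) (.node (.node (.node (.node (.node (.leaf 16) (.leaf 306)) (.leaf 179)) (.node (.node (.leaf 101) (.leaf 718)) (.leaf 611))) (.node (.node (.node (.leaf 61) (.leaf 627)) (.leaf 218)) (.node (.node (.leaf 140) (.leaf 564)) (.leaf 279)))) (.node (.node (.node (.node (.leaf 38) (.leaf 398)) (.leaf 452)) (.node (.node (.leaf 121) (.leaf 365)) (.leaf 264))) (.node (.node (.node (.leaf 80) (.leaf 341)) (.leaf 439)) (.node (.leaf 466) (.leaf 701)))))) (.node (.node (.node (.node (.node (.node (.leaf 516) (.leaf 303))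 (.leaf 175)) (.node (.node (.leaf 96) (.leaf 377)) (.leaf 433))) (.node (.node (.node (.leaf 56) (.leaf 392)) (.leaf 212)) (.node (.node (.leaf 475) (.leaf 720)) (.leaf 419)))) (.node (.node (.node (.node (.leaf 33) (.leaf 670)) (.leaf 193)) (.node (.node (.leaf 115) (.leaf 368)) (.leaf 622))) (.node (.node (.node (.leaf 496) (.leaf 337)) (.leaf 441)) (.node (.leaf 468) (.leaf 289))))) (.node (.node (.node (.node (.node (.leaf 513) (.leaf 637)) (.leaf 183)) (.node (.node (.leaf 107) (.leaf 373)) (.leaf 613))) (.node (.node (.node (.leaf 500) (.leaf 332)) (.leaf 444)) (.node (.node (.leaf 472) (.leaf 736)) (.leaf 685)))) (.node (.node (.node (.node (.leaf 45) (.leaf 396)) (.leaf 450)) (.node (.node (.leaf 126) (.leaf 364)) (.leaf 268))) (.node (.node (.node (.leaf 493) (.leaf 344)) (.leaf 437)) (.node (.leaf 164) (.leaf 667)))))))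

def sixRank5 : Janko.Tree (ℕ) :=
  (.node (.node (.node (.node (.node (.node (.node (.leaf 4) (.leaf 299)) (.leaf 171)) (.node (.node (.leaf 91) (.leaf 347)) (.leaf 243))) (.node (.node (.node (.leaf 577) (.leaf 713)) (.leaf 208)) (.node (.node (.leaf 131) (.leaf 719)) (.leaf 579)))) (.node (.node (.node (.node (.leaf 27) (.leaf 312)) (.leaf 188)) (.node (.node (.leaf 547) (.leaf 696)) (.leaf 258))) (.node (.node (.node (.leaf 71) (.leaf 522)) (.leaf 228)) (.node (.leaf 152) (.leaf 700))))) (.node (.node (.node (.node (.node (.leaf 556) (.leaf 645)) (.leaf 542)) (.node (.node (.leaf 102) (.leaf 600)) (.leaf 250))) (.node (.node (.node (.leaf 589) (.leaf 524)) (.leaf 219)) (.node (.node (.leaf 141) (.leaf 599)) (.leaf 280)))) (.node (.node (.node (.node (.leaf 39) (.leaf 317)) (.leaf 199)) (.node (.node (.leaf 122) (.leaf 643)) (.leaf 534))) (.node (.node (.node (.leaf 81) (.leaf 342)) (.leaf 237)) (.node (.leaf 568) (.leaf 292)))))) (.node (.node (.node (.node (.node (.node (.leaf 10) (.leaf 598)) (.leaf 543)) (.node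 (.node (.leaf 612) (.leaf 654)) (.leaf 658))) (.node (.node (.node (.leaf 57) (.leaf 678)) (.leaf 213)) (.node (.node (.leaf 135) (.leaf 716)) (.leaf 576)))) (.node (.node (.node (.node (.leaf 34) (.leaf 527)) (.leaf 194)) (.node (.node (.leaf 116) (.leaf 680)) (.leaf 535))) (.node (.node (.node (.leaf 75) (.leaf 616)) (.leaf 231)) (.node (.leaf 156) (.leaf 290))))) (.node (.node (.node (.node (.node (.leaf 21) (.leaf 529)) (.leaf 541)) (.node (.node (.leaf 548) (.leaf 620)) (.leaf 640))) (.node (.node (.node (.leaf 66) (.leaf 691)) (.leaf 222)) (.node (.node (.leaf 146) (.leaf 735)) (.leaf 666)))) (.node (.node (.node (.node (.leaf 553) (.leaf 321)) (.leaf 205)) (.node (.node (.leaf 592) (.leaf 715)) (.leaf 269))) (.node (.node (.node (.leaf 86) (.leaf 624)) (.leaf 651)) (.node (.leaf 165) (.leaf 530)))))))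

def sixRank6 : Janko.Tree (ℕ) :=
  (.node (.node (.node (.node (.node (.node (.node (.leaf 5) (.leaf 300)) (.leaf 462)) (.node (.node (.leaf 92) (.leaf 379)) (.leaf 244))) (.node (.node (.node (.leaf 51) (.leaf 695)) (.leaf 209)) (.node (.node (.leaf 476) (.leaf 706)) (.leaf 273)))) (.node (.node (.node (.node (.leaf 28) (.leaf 684)) (.leaf 189)) (.node (.node (.leaf 483) (.leaf 370)) (.leaf 428))) (.node (.node (.node (.leaf 72) (.leaf 385)) (.leaf 699)) (.node (.leaf 153) (.leaf 415))))) (.node (.node (.node (.node (.node (.leaf 17) (.leaf 406)) (.leaf 458)) (.node (.node (.leaf 487) (.leaf 375)) (.leaf 707))) (.node (.node (.node (.leaf 501) (.leaf 389)) (.leaf 445)) (.node (.node (.leaf 142) (.leaf 740)) (.leaf 281)))) (.node (.node (.node (.node (.leaf 40) (.leaf 318)) (.leaf 200)) (.node (.node (.leaf 480) (.leaf 704)) (.leaf 424))) (.node (.node (.node (.leaf 82) (.leaf 343)) (.leaf 238)) (.node (.leaf 161) (.leaf 293)))))) (.node (.node (.node (.node (.node (.node (.leaf 11) (.leaf 304)) (.leaf 460)) (.node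 (.node (.leaf 489) (.leaf 376)) (.leaf 246))) (.node (.node (.node (.leaf 503) (.leaf 391)) (.leaf 214)) (.node (.node (.leaf 136) (.leaf 730)) (.leaf 276)))) (.node (.node (.node (.node (.leaf 509) (.leaf 400)) (.leaf 453)) (.node (.node (.leaf 117) (.leaf 710)) (.leaf 426))) (.node (.node (.node (.leaf 76) (.leaf 338)) (.leaf 232)) (.node (.leaf 467) (.leaf 413))))) (.node (.node (.node (.node (.node (.leaf 22) (.leaf 404)) (.leaf 456)) (.node (.node (.leaf 485) (.leaf 601)) (.leaf 430))) (.node (.node (.node (.leaf 67) (.leaf 333)) (.leaf 223)) (.node (.node (.leaf 147) (.leaf 734)) (.leaf 416)))) (.node (.node (.node (.node (.leaf 506) (.leaf 395)) (.leaf 206)) (.node (.node (.leaf 478) (.leaf 660)) (.leaf 270))) (.node (.node (.node (.leaf 492) (.leaf 381)) (.leaf 653)) (.node (.leaf 464) (.leaf 410)))))))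

def sixRank7 : Janko.Tree (ℕ) :=
  (.node (.node (.node (.node (.node (.node (.node (.leaf 6) (.leaf 301)) (.leaf 172)) (.node (.node (.leaf 93) (.leaf 348)) (.leaf 586))) (.node (.node (.node (.leaf 52) (.leaf 323)) (.leaf 539)) (.node (.node (.leaf 578) (.leaf 729)) (.leaf 274)))) (.node (.node (.node (.node (.leaf 29) (.leaf 528)) (.leaf 665)) (.node (.node (.leaf 112) (.leaf 674)) (.leaf 259))) (.node (.node (.node (.leaf 582) (.leaf 560)) (.leaf 652)) (.node (.leaf 588) (.leaf 625))))) (.node (.node (.node (.node (.node (.leaf 18) (.leaf 661)) (.leaf 180)) (.node (.node (.leaf 103) (.leaf 644)) (.leaf 251))) (.node (.node (.node (.leaf 569) (.leaf 329)) (.leaf 565)) (.node (.node (.leaf 606) (.leaf 604)) (.leaf 282)))) (.node (.node (.node (.node (.leaf 41) (.leaf 594)) (.leaf 201)) (.node (.node (.leaf 123) (.leaf 687)) (.leaf 265))) (.node (.node (.node (.leaf 619) (.leaf 596)) (.leaf 584)) (.node (.leaf 162) (.leaf 531)))))) (.node (.node (.node (.node (.node (.node (.leaf 12) (.leaf 305)) (.leaf 176)) (.node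 (.node (.leaf 97) (.leaf 659)) (.leaf 247))) (.node (.node (.node (.leaf 58) (.leaf 649)) (.leaf 647)) (.node (.node (.leaf 137) (.leaf 693)) (.leaf 277)))) (.node (.node (.node (.node (.leaf 35) (.leaf 629)) (.leaf 585)) (.node (.node (.leaf 631) (.leaf 721)) (.leaf 639))) (.node (.node (.node (.leaf 77) (.leaf 725)) (.leaf 233)) (.node (.leaf 605) (.leaf 291))))) (.node (.node (.node (.node (.node (.leaf 23) (.leaf 688)) (.leaf 184)) (.node (.node (.leaf 108) (.leaf 353)) (.leaf 634))) (.node (.node (.node (.leaf 68) (.leaf 602)) (.leaf 618)) (.node (.node (.leaf 148) (.leaf 733)) (.leaf 284)))) (.node (.node (.node (.node (.leaf 46) (.leaf 723)) (.leaf 540)) (.node (.node (.leaf 127) (.leaf 358)) (.leaf 671))) (.node (.node (.node (.leaf 87) (.leaf 646)) (.leaf 240)) (.node (.leaf 166) (.leaf 562)))))))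

def sixRank : Janko.Tree (ℕ) := (.node (.node (.node sixRank0 sixRank4) (.node sixRank2 sixRank6)) (.node (.node sixRank1 sixRank5) (.node sixRank3 sixRank7)))

def sixVia0 : Janko.Tree (ℕ × ℕ) :=
  (.node (.node (.node (.node (.node (.node (.node (.leaf (0, 0)) (.leaf (0, 0))) (.leaf (0, 0))) (.node (.node (.leaf (0, 0)) (.leaf (0, 0))) (.leaf (0, 192)))) (.node (.node (.node (.leaf (0, 0)) (.leaf (0, 0))) (.leaf (0, 160))) (.node (.node (.leaf (0, 0)) (.leaf (0, 352))) (.leaf (0, 224))))) (.node (.node (.node (.node (.leaf (0, 0)) (.leaf (20, 217))) (.leaf (0, 0))) (.node (.node (.leaf (0, 0)) (.leaf (0, 336))) (.leaf (0, 0)))) (.node (.node (.node (.leaf (0, 48)) (.leaf (0, 304))) (.leaf (0, 176))) (.node (.node (.leaf (0, 112)) (.leaf (16, 359))) (.leaf (0, 0)))))) (.node (.node (.node (.node (.node (.leaf (0, 0)) (.leaf (19, 309))) (.leaf (20, 181))) (.node (.node (.leaf (0, 0)) (.leaf (20, 328))) (.leaf (0, 0)))) (.node (.node (.node (.leaf (0, 0)) (.leaf (0, 0))) (.leaf (0, 168))) (.node (.node (.leaf (0, 0))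 (.leaf (0, 0))) (.leaf (0, 0))))) (.node (.node (.node (.node (.leaf (0, 0)) (.leaf (0, 280))) (.leaf (0, 0))) (.node (.node (.leaf (0, 0)) (.leaf (0, 344))) (.leaf (20, 109)))) (.node (.node (.node (.leaf (0, 0)) (.leaf (0, 312))) (.leaf (0, 184))) (.node (.leaf (0, 0)) (.leaf (20, 243))))))) (.node (.node (.node (.node (.node (.node (.leaf (0, 4)) (.leaf (20, 292))) (.leaf (0, 0))) (.node (.node (.leaf (0, 68)) (.leaf (0, 0))) (.leaf (0, 196)))) (.node (.node (.node (.leaf (0, 0)) (.leaf (0, 0))) (.leaf (0, 0))) (.node (.node (.leaf (0, 0)) (.leaf (0, 356))) (.leaf (0, 228))))) (.node (.node (.node (.node (.leaf (0, 0)) (.leaf (0, 276))) (.leaf (0, 148))) (.node (.node (.leaf (0, 0)) (.leaf (0, 340))) (.leaf (0, 0)))) (.node (.node (.node (.leaf (0, 52)) (.leaf (0, 308))) (.leaf (0, 180))) (.node (.leaf (0, 116)) (.leaf (0, 0)))))) (.node (.node (.node (.node (.node (.leaf (0, 12)) (.leaf (0, 0))) (.leaf (0, 0))) (.node (.node (.leaf (0, 0)) (.leaf (0, 0))) (.leaf (0, 204)))) (.node (.node (.node (.leaf (0, 0)) (.leaf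 (0, 0))) (.leaf (0, 0))) (.node (.node (.leaf (0, 108)) (.leaf (8, 53))) (.leaf (0, 236))))) (.node (.node (.node (.node (.leaf (0, 0)) (.leaf (0, 284))) (.leaf (0, 156))) (.node (.node (.leaf (0, 0)) (.leaf (0, 0))) (.leaf (0, 0)))) (.node (.node (.node (.leaf (0, 60)) (.leaf (20, 355))) (.leaf (0, 188))) (.node (.leaf (20, 279)) (.leaf (0, 0))))))))

def sixVia1 : Janko.Tree (ℕ × ℕ) :=
  (.node (.node (.node (.node (.node (.node (.node (.leaf (0, 0)) (.leaf (0, 0))) (.leaf (0, 0))) (.node (.node (.leaf (1, 64)) (.leaf (0, 0))) (.leaf (0, 0)))) (.node (.node (.node (.leaf (0, 0)) (.leaf (1, 288))) (.leaf (0, 0))) (.node (.node (.leaf (1, 96)) (.leaf (20, 256))) (.leaf (0, 0))))) (.node (.node (.node (.node (.leaf (0, 0)) (.leaf (0, 0))) (.leaf (0, 0))) (.node (.node (.leaf (1, 80)) (.leaf (0, 0))) (.leaf (0, 0)))) (.node (.node (.node (.leaf (0, 0)) (.leaf (0, 0))) (.leaf (0, 0))) (.node (.node (.leaf (0, 0)) (.leaf (17, 166))) (.leaf (20, 89)))))) (.node (.node (.node (.node (.node (.leaf (0, 0)) (.leaf (20, 168)))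 (.leaf (0, 0))) (.node (.node (.leaf (0, 0)) (.leaf (20, 334))) (.leaf (17, 318)))) (.node (.node (.node (.leaf (1, 40)) (.leaf (0, 0))) (.leaf (0, 0))) (.node (.node (.leaf (0, 0)) (.leaf (1, 0))) (.leaf (19, 182))))) (.node (.node (.node (.node (.leaf (1, 24)) (.leaf (0, 0))) (.leaf (0, 0))) (.node (.node (.leaf (0, 0)) (.leaf (20, 90))) (.leaf (0, 0)))) (.node (.node (.node (.leaf (0, 0)) (.leaf (20, 294))) (.leaf (0, 0))) (.node (.leaf (0, 0)) (.leaf (1, 248))))))) (.node (.node (.node (.node (.node (.node (.leaf (0, 0)) (.leaf (19, 311))) (.leaf (1, 132))) (.node (.node (.leaf (4, 47)) (.leaf (1, 324))) (.leaf (0, 0)))) (.node (.node (.node (.leaf (0, 0)) (.leaf (20, 298))) (.leaf (0, 0))) (.node (.node (.leaf (0, 0)) (.leaf (20, 348))) (.leaf (20, 139))))) (.node (.node (.node (.node (.leaf (0, 0)) (.leaf (0, 0))) (.leaf (0, 0))) (.node (.node (.leaf (0, 0)) (.leaf (19, 227))) (.leaf (1, 212)))) (.node (.node (.node (.leaf (0, 0)) (.leaf (4, 335))) (.leaf (20, 262))) (.node (.leaf (0, 0)) (.leaf (20, 207))))))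 (.node (.node (.node (.node (.node (.leaf (0, 0)) (.leaf (0, 0))) (.leaf (1, 140))) (.node (.node (.leaf (0, 0)) (.leaf (20, 202))) (.leaf (4, 61)))) (.node (.node (.node (.leaf (0, 0)) (.leaf (1, 300))) (.leaf (20, 198))) (.node (.node (.leaf (0, 0)) (.leaf (9, 359))) (.leaf (2, 185))))) (.node (.node (.node (.node (.leaf (0, 0)) (.leaf (0, 0))) (.leaf (0, 0))) (.node (.node (.leaf (1, 92)) (.leaf (20, 323))) (.leaf (1, 220)))) (.node (.node (.node (.leaf (0, 0)) (.leaf (20, 239))) (.leaf (0, 0))) (.node (.leaf (20, 10)) (.leaf (1, 252))))))))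

def sixVia2 : Janko.Tree (ℕ × ℕ) :=
  (.node (.node (.node (.node (.node (.node (.node (.leaf (0, 1)) (.leaf (0, 257))) (.leaf (0, 129))) (.node (.node (.leaf (0, 65)) (.leaf (0, 321))) (.leaf (0, 0)))) (.node (.node (.node (.leaf (0, 0)) (.leaf (0, 289))) (.leaf (19, 257))) (.node (.node (.leaf (0, 97)) (.leaf (0, 353))) (.leaf (20, 125))))) (.node (.node (.node (.node (.leaf (0, 17)) (.leaf (0, 0))) (.leaf (0, 145))) (.node (.node (.leaf (0, 81)) (.leaf (20, 138))) (.leaf (0, 0)))) (.node (.node (.node (.leaf (0, 0)) (.leaf (0, 305))) (.leaf (0, 0))) (.node (.node (.leaf (0, 0)) (.leaf (18, 359))) (.leaf (0, 0)))))) (.node (.node (.node (.node (.node (.leaf (0, 9)) (.leaf (0, 265))) (.leaf (0, 137))) (.node (.node (.leaf (0, 73)) (.leaf (0, 0))) (.leaf (0, 201)))) (.node (.node (.node (.leaf (0, 41)) (.leaf (0, 297))) (.leaf (0, 0))) (.node (.node (.leaf (0, 105)) (.leaf (2, 0))) (.leaf (0, 233))))) (.node (.node (.node (.node (.leaf (0, 25)) (.leaf (0, 0))) (.leaf (0, 0))) (.node (.node (.leaf (0, 89)) (.leaf (0,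 345))) (.leaf (0, 217)))) (.node (.node (.node (.leaf (0, 57)) (.leaf (0, 0))) (.leaf (0, 0))) (.node (.leaf (0, 0)) (.leaf (0, 249))))))) (.node (.node (.node (.node (.node (.node (.leaf (0, 0)) (.leaf (0, 261))) (.leaf (0, 133))) (.node (.node (.leaf (0, 0)) (.leaf (0, 325))) (.leaf (20, 197)))) (.node (.node (.node (.leaf (0, 37)) (.leaf (0, 0))) (.leaf (0, 165))) (.node (.node (.leaf (0, 0)) (.leaf (0, 357))) (.leaf (0, 0))))) (.node (.node (.node (.node (.leaf (0, 21)) (.leaf (0, 277))) (.leaf (0, 0))) (.node (.node (.leaf (0, 85)) (.leaf (20, 341))) (.leaf (0, 213)))) (.node (.node (.node (.leaf (0, 0)) (.leaf (20, 140))) (.leaf (0, 0))) (.node (.leaf (0, 0)) (.leaf (0, 245)))))) (.node (.node (.node (.node (.node (.leaf (0, 0)) (.leaf (0, 269))) (.leaf (0, 141))) (.node (.node (.leaf (0, 77)) (.leaf (0, 333))) (.leaf (0, 0)))) (.node (.node (.node (.leaf (0, 0)) (.leaf (0, 301))) (.leaf (20, 318))) (.node (.node (.leaf (0, 0)) (.leaf (10, 359))) (.leaf (0, 0))))) (.node (.node (.node (.node (.leaf (0, 29)) (.leaf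 (0, 0))) (.leaf (0, 0))) (.node (.node (.leaf (0, 93)) (.leaf (0, 0))) (.leaf (0, 221)))) (.node (.node (.node (.leaf (0, 0)) (.leaf (0, 317))) (.leaf (20, 293))) (.node (.leaf (0, 125)) (.leaf (0, 253))))))))

def sixVia3 : Janko.Tree (ℕ × ℕ) :=
  (.node (.node (.node (.node (.node (.node (.node (.leaf (0, 0)) (.leaf (19, 19))) (.leaf (0, 0))) (.node (.node (.leaf (0, 0)) (.leaf (20, 274))) (.leaf (1, 193)))) (.node (.node (.node (.leaf (0, 0)) (.leaf (2, 244))) (.leaf (1, 161))) (.node (.node (.leaf (0, 0)) (.leaf (2, 332))) (.leaf (0, 0))))) (.node (.node (.node (.node (.leaf (0, 0)) (.leaf (1, 273))) (.leaf (4, 56))) (.node (.node (.leaf (0, 0)) (.leaf (1, 337))) (.leaf (0, 0)))) (.node (.node (.node (.leaf (1, 49)) (.leaf (20, 252))) (.leaf (0, 0))) (.node (.node (.leaf (0, 0)) (.leaf (19, 289))) (.leaf (0, 0)))))) (.node (.node (.node (.node (.node (.leaf (0, 0)) (.leaf (20, 189))) (.leaf (0, 0))) (.node (.node (.leaf (0, 0)) (.leaf (20, 271))) (.leaf (0, 0)))) (.node (.node (.node (.leaf (0, 0)) (.leaf (0, 0)))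 (.leaf (0, 0))) (.node (.node (.leaf (4, 36)) (.leaf (3, 0))) (.leaf (20, 311))))) (.node (.node (.node (.node (.leaf (0, 0)) (.leaf (1, 281))) (.leaf (0, 0))) (.node (.node (.leaf (0, 0)) (.leaf (2, 318))) (.leaf (0, 0)))) (.node (.node (.node (.leaf (4, 16)) (.leaf (0, 0))) (.leaf (0, 0))) (.node (.leaf (0, 0)) (.leaf (20, 319))))))) (.node (.node (.node (.node (.node (.node (.leaf (0, 0)) (.leaf (0, 0))) (.leaf (0, 0))) (.node (.node (.leaf (0, 0)) (.leaf (0, 0))) (.leaf (1, 197)))) (.node (.node (.node (.leaf (0, 0)) (.leaf (20, 257))) (.leaf (4, 67))) (.node (.node (.leaf (20, 50)) (.leaf (20, 288))) (.leaf (1, 229))))) (.node (.node (.node (.node (.leaf (0, 0)) (.leaf (0, 0))) (.leaf (0, 0))) (.node (.node (.leaf (4, 27)) (.leaf (20, 321))) (.leaf (0, 0)))) (.node (.node (.node (.leaf (1, 53)) (.leaf (0, 0))) (.leaf (0, 0))) (.node (.leaf (1, 117)) (.leaf (20, 195)))))) (.node (.node (.node (.node (.node (.leaf (1, 13)) (.leaf (0, 0))) (.leaf (0, 0))) (.node (.node (.leaf (0, 0)) (.leaf (20, 329))) (.leaf (0, 0))))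 (.node (.node (.node (.leaf (0, 0)) (.leaf (0, 0))) (.leaf (0, 0))) (.node (.node (.leaf (0, 0)) (.leaf (11, 359))) (.leaf (8, 143))))) (.node (.node (.node (.node (.leaf (0, 0)) (.leaf (20, 345))) (.leaf (0, 0))) (.node (.node (.leaf (0, 0)) (.leaf (0, 0))) (.leaf (0, 0)))) (.node (.node (.node (.leaf (0, 0)) (.leaf (20, 248))) (.leaf (1, 189))) (.node (.leaf (0, 0)) (.leaf (0, 0))))))))

def sixVia4 : Janko.Tree (ℕ × ℕ) :=
  (.node (.node (.node (.node (.node (.node (.node (.leaf (0, 0)) (.leaf (0, 0))) (.leaf (0, 0))) (.node (.node (.leaf (0, 0)) (.leaf (20, 280))) (.leaf (0, 194)))) (.node (.node (.node (.leaf (0, 34)) (.leaf (0, 290))) (.leaf (0, 162))) (.node (.node (.leaf (0, 0)) (.leaf (20, 354))) (.leaf (0, 226))))) (.node (.node (.node (.node (.leaf (0, 18)) (.leaf (0, 274))) (.leaf (0, 0))) (.node (.node (.leaf (0, 0)) (.leaf (0, 338))) (.leaf (0, 210)))) (.node (.node (.node (.leaf (0, 50)) (.leaf (0, 0))) (.leaf (0, 0))) (.node (.node (.leaf (0, 114)) (.leaf (20, 143))) (.leaf (19, 238)))))) (.node (.node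 (.node (.node (.node (.leaf (0, 0)) (.leaf (0, 0))) (.leaf (0, 0))) (.node (.node (.leaf (0, 0)) (.leaf (20, 349))) (.leaf (20, 65)))) (.node (.node (.node (.leaf (0, 0)) (.leaf (20, 289))) (.leaf (0, 0))) (.node (.node (.leaf (0, 0)) (.leaf (4, 235))) (.leaf (0, 0))))) (.node (.node (.node (.node (.leaf (0, 0)) (.leaf (0, 282))) (.leaf (0, 154))) (.node (.node (.leaf (0, 0)) (.leaf (0, 346))) (.leaf (0, 0)))) (.node (.node (.node (.leaf (0, 0)) (.leaf (0, 0))) (.leaf (0, 186))) (.node (.leaf (0, 122)) (.leaf (20, 301))))))) (.node (.node (.node (.node (.node (.node (.leaf (0, 6)) (.leaf (0, 0))) (.leaf (0, 0))) (.node (.node (.leaf (0, 0)) (.leaf (0, 326))) (.leaf (0, 198)))) (.node (.node (.node (.leaf (0, 0)) (.leaf (0, 294))) (.leaf (0, 0))) (.node (.node (.leaf (0, 102)) (.leaf (20, 357))) (.leaf (0, 230))))) (.node (.node (.node (.node (.leaf (0, 0)) (.leaf (20, 73))) (.leaf (0, 0))) (.node (.node (.leaf (0, 0)) (.leaf (0, 342))) (.leaf (17, 335)))) (.node (.node (.node (.leaf (0, 54)) (.leaf (0, 0))) (.leaf (0,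 182))) (.node (.leaf (0, 118)) (.leaf (0, 0)))))) (.node (.node (.node (.node (.node (.leaf (0, 14)) (.leaf (20, 265))) (.leaf (0, 0))) (.node (.node (.leaf (0, 0)) (.leaf (0, 334))) (.leaf (20, 43)))) (.node (.node (.node (.leaf (0, 46)) (.leaf (0, 0))) (.leaf (0, 174))) (.node (.node (.leaf (0, 110)) (.leaf (12, 359))) (.leaf (20, 331))))) (.node (.node (.node (.node (.leaf (0, 0)) (.leaf (0, 286))) (.leaf (0, 158))) (.node (.node (.leaf (0, 0)) (.leaf (0, 350))) (.leaf (0, 0)))) (.node (.node (.node (.leaf (0, 62)) (.leaf (0, 0))) (.leaf (0, 190))) (.node (.leaf (0, 0)) (.leaf (20, 295))))))))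

def sixVia5 : Janko.Tree (ℕ × ℕ) :=
  (.node (.node (.node (.node (.node (.node (.node (.leaf (0, 0)) (.leaf (0, 0))) (.leaf (0, 0))) (.node (.node (.leaf (0, 0)) (.leaf (0, 0))) (.leaf (0, 0)))) (.node (.node (.node (.leaf (4, 22)) (.leaf (20, 177))) (.leaf (0, 0))) (.node (.node (.leaf (0, 0)) (.leaf (20, 304))) (.leaf (4, 72))))) (.node (.node (.node (.node (.leaf (0, 0)) (.leaf (0, 0))) (.leaf (0, 0))) (.node (.node (.leaf (1, 82)) (.leaf (20, 291))) (.leaf (0, 0)))) (.node (.node (.node (.leaf (0, 0)) (.leaf (1, 306))) (.leaf (0, 0))) (.node (.leaf (0, 0)) (.leaf (20, 148)))))) (.node (.node (.node (.node (.node (.leaf (1, 10)) (.leaf (20, 353))) (.leaf (1, 138))) (.node (.node (.leaf (0, 0)) (.leaf (5, 163))) (.leaf (0, 0)))) (.node (.node (.node (.leaf (1, 43)) (.leaf (1, 298))) (.leaf (0, 0))) (.node (.node (.leaf (0, 0)) (.leaf (5, 170))) (.leaf (0, 0))))) (.node (.node (.node (.node (.leaf (0, 0)) (.leaf (0, 0))) (.leaf (0, 0))) (.node (.node (.leaf (0, 0)) (.leaf (20, 55))) (.leaf (1, 218)))) (.node (.node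 (.node (.leaf (0, 0)) (.leaf (0, 0))) (.leaf (0, 0))) (.node (.leaf (4, 45)) (.leaf (0, 0))))))) (.node (.node (.node (.node (.node (.node (.leaf (0, 0)) (.leaf (8, 165))) (.leaf (1, 134))) (.node (.node (.leaf (20, 85)) (.leaf (20, 126))) (.leaf (20, 332)))) (.node (.node (.node (.leaf (0, 0)) (.leaf (19, 209))) (.leaf (0, 0))) (.node (.node (.leaf (0, 0)) (.leaf (20, 324))) (.leaf (4, 104))))) (.node (.node (.node (.node (.leaf (0, 0)) (.leaf (1, 278))) (.leaf (0, 0))) (.node (.node (.leaf (0, 0)) (.leaf (20, 317))) (.leaf (1, 214)))) (.node (.node (.node (.leaf (0, 0)) (.leaf (20, 135))) (.leaf (0, 0))) (.node (.leaf (0, 0)) (.leaf (0, 0)))))) (.node (.node (.node (.node (.node (.leaf (0, 0)) (.leaf (1, 270))) (.leaf (1, 142))) (.node (.node (.leaf (1, 78)) (.leaf (20, 157))) (.leaf (19, 245)))) (.node (.node (.node (.leaf (0, 0)) (.leaf (20, 352))) (.leaf (0, 0))) (.node (.node (.leaf (0, 0)) (.leaf (13, 359))) (.leaf (20, 190))))) (.node (.node (.node (.node (.leaf (1, 30)) (.leaf (0, 0))) (.leaf (0, 0))) (.node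 (.node (.leaf (1, 94)) (.leaf (20, 338))) (.leaf (0, 0)))) (.node (.node (.node (.leaf (0, 0)) (.leaf (20, 142))) (.leaf (20, 267))) (.node (.leaf (0, 0)) (.leaf (1, 254))))))))

def sixVia6 : Janko.Tree (ℕ × ℕ) :=
  (.node (.node (.node (.node (.node (.node (.node (.leaf (0, 0)) (.leaf (0, 0))) (.leaf (0, 131))) (.node (.node (.leaf (0, 0)) (.leaf (0, 323))) (.leaf (0, 0)))) (.node (.node (.node (.leaf (0, 0)) (.leaf (20, 325))) (.leaf (0, 0))) (.node (.node (.leaf (0, 99)) (.leaf (20, 351))) (.leaf (0, 0))))) (.node (.node (.node (.node (.leaf (0, 0)) (.leaf (20, 312))) (.leaf (0, 0))) (.node (.node (.leaf (0, 83)) (.leaf (0, 339))) (.leaf (0, 211)))) (.node (.node (.node (.leaf (0, 0)) (.leaf (0, 307))) (.leaf (20, 350))) (.node (.leaf (0, 0)) (.leaf (0, 243)))))) (.node (.node (.node (.node (.node (.leaf (0, 0)) (.leaf (0, 267))) (.leaf (0, 139))) (.node (.node (.leaf (0, 75)) (.leaf (0, 331))) (.leaf (20, 306)))) (.node (.node (.node (.leaf (0, 43)) (.leaf (0, 299))) (.leaf (0, 171))) (.node (.node (.leaf (0, 0))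 (.leaf (6, 359))) (.leaf (0, 0))))) (.node (.node (.node (.node (.leaf (0, 0)) (.leaf (0, 0))) (.leaf (0, 0))) (.node (.node (.leaf (0, 91)) (.leaf (20, 346))) (.leaf (0, 219)))) (.node (.node (.node (.leaf (0, 0)) (.leaf (0, 0))) (.leaf (0, 0))) (.node (.leaf (0, 0)) (.leaf (0, 0))))))) (.node (.node (.node (.node (.node (.node (.leaf (0, 0)) (.leaf (0, 0))) (.leaf (0, 135))) (.node (.node (.leaf (0, 71)) (.leaf (0, 327))) (.leaf (0, 0)))) (.node (.node (.node (.leaf (0, 39)) (.leaf (0, 295))) (.leaf (0, 0))) (.node (.node (.leaf (0, 0)) (.leaf (20, 359))) (.leaf (0, 0))))) (.node (.node (.node (.node (.leaf (0, 23)) (.leaf (0, 279))) (.leaf (0, 151))) (.node (.node (.leaf (0, 0)) (.leaf (20, 342))) (.leaf (0, 215)))) (.node (.node (.node (.leaf (0, 0)) (.leaf (0, 0))) (.leaf (0, 0))) (.node (.leaf (0, 119)) (.leaf (0, 247)))))) (.node (.node (.node (.node (.node (.leaf (0, 0)) (.leaf (0, 271))) (.leaf (0, 143))) (.node (.node (.leaf (0, 79)) (.leaf (4, 166))) (.leaf (0, 207)))) (.node (.node (.node (.leaf (0, 0)) (.leaf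 (0, 0))) (.leaf (0, 0))) (.node (.node (.leaf (0, 0)) (.leaf (14, 359))) (.leaf (0, 239))))) (.node (.node (.node (.node (.leaf (0, 31)) (.leaf (0, 287))) (.leaf (0, 0))) (.node (.node (.leaf (0, 95)) (.leaf (20, 130))) (.leaf (0, 0)))) (.node (.node (.node (.leaf (0, 63)) (.leaf (0, 319))) (.leaf (20, 299))) (.node (.leaf (0, 127)) (.leaf (0, 255))))))))

def sixVia7 : Janko.Tree (ℕ × ℕ) :=
  (.node (.node (.node (.node (.node (.node (.node (.leaf (0, 0)) (.leaf (0, 0))) (.leaf (0, 0))) (.node (.node (.leaf (0, 0)) (.leaf (0, 0))) (.leaf (1, 195)))) (.node (.node (.node (.leaf (0, 0)) (.leaf (0, 0))) (.leaf (1, 163))) (.node (.node (.leaf (4, 33)) (.leaf (20, 356))) (.leaf (0, 0))))) (.node (.node (.node (.node (.leaf (0, 0)) (.leaf (1, 275))) (.leaf (20, 244))) (.node (.node (.leaf (0, 0)) (.leaf (20, 263))) (.leaf (0, 0)))) (.node (.node (.node (.leaf (1, 51)) (.leaf (2, 266))) (.leaf (19, 267))) (.node (.leaf (1, 115)) (.leaf (20, 214)))))) (.node (.node (.node (.node (.node (.leaf (0, 0)) (.leaf (20, 213))) (.leaf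 (0, 0))) (.node (.node (.leaf (0, 0)) (.leaf (20, 270))) (.leaf (0, 0)))) (.node (.node (.node (.leaf (4, 28)) (.leaf (0, 0))) (.leaf (4, 170))) (.node (.node (.leaf (4, 185)) (.leaf (7, 335))) (.leaf (0, 0))))) (.node (.node (.node (.node (.leaf (0, 0)) (.leaf (1, 283))) (.leaf (0, 0))) (.node (.node (.leaf (0, 0)) (.leaf (20, 284))) (.leaf (0, 0)))) (.node (.node (.node (.leaf (20, 99)) (.leaf (3, 319))) (.leaf (1, 187))) (.node (.leaf (0, 0)) (.leaf (1, 251))))))) (.node (.node (.node (.node (.node (.node (.leaf (0, 0)) (.leaf (0, 0))) (.leaf (0, 0))) (.node (.node (.leaf (0, 0)) (.leaf (20, 212))) (.leaf (0, 0)))) (.node (.node (.node (.leaf (0, 0)) (.leaf (20, 231))) (.leaf (20, 315))) (.node (.node (.leaf (0, 0)) (.leaf (20, 327))) (.leaf (0, 0))))) (.node (.node (.node (.node (.leaf (0, 0)) (.leaf (19, 298))) (.leaf (4, 38))) (.node (.node (.leaf (20, 118)) (.leaf (20, 287))) (.leaf (20, 245)))) (.node (.node (.node (.leaf (0, 0)) (.leaf (20, 285))) (.leaf (0, 0))) (.node (.leaf (7, 185)) (.leaf (0, 0)))))) (.node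 (.node (.node (.node (.node (.leaf (0, 0)) (.leaf (20, 223))) (.leaf (0, 0))) (.node (.node (.leaf (0, 0)) (.leaf (0, 0))) (.leaf (20, 112)))) (.node (.node (.node (.leaf (0, 0)) (.leaf (5, 165))) (.leaf (20, 4))) (.node (.node (.leaf (0, 0)) (.leaf (15, 359))) (.leaf (0, 0))))) (.node (.node (.node (.node (.leaf (0, 0)) (.leaf (20, 340))) (.leaf (1, 159))) (.node (.node (.leaf (0, 0)) (.leaf (0, 0))) (.leaf (20, 307)))) (.node (.node (.node (.leaf (0, 0)) (.leaf (20, 249))) (.leaf (0, 0))) (.node (.leaf (0, 0)) (.leaf (2, 208))))))))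

def sixVia : Janko.Tree (ℕ × ℕ) := (.node (.node (.node sixVia0 sixVia4) (.node sixVia2 sixVia6)) (.node (.node sixVia1 sixVia5) (.node sixVia3 sixVia7)))

def sixOrd0 : Janko.Tree (ℕ) :=
  (.node (.node (.node (.node (.node (.node (.node (.leaf 202) (.leaf 298)) (.leaf 123)) (.node (.node (.leaf 223) (.leaf 356)) (.leaf 127))) (.node (.node (.node (.leaf 41) (.leaf 151)) (.leaf 316)) (.node (.node (.leaf 91) (.leaf 104)) (.leaf 269)))) (.node (.node (.node (.node (.leaf 89) (.leaf 124)) (.leaf 258)) (.node (.node (.leaf 264) (.leaf 39)) (.leaf 63))) (.node (.node (.node (.leaf 218) (.leaf 260)) (.leaf 24)) (.node (.leaf 82) (.leaf 23))))) (.node (.node (.node (.node (.node (.leaf 241) (.leaf 194)) (.leaf 199)) (.node (.node (.leaf 281) (.leaf 177)) (.leaf 98))) (.node (.node (.node (.leaf 144) (.leaf 292)) (.leaf 295)) (.node (.leaf 248) (.leaf 330)))) (.node (.node (.node (.node (.leaf 318) (.leaf 129)) (.leaf 132)) (.node (.node (.leaf 183) (.leaf 216)) (.leaf 102))) (.node (.node (.node (.leaf 309) (.leaf 76)) (.leaf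 158)) (.node (.leaf 65) (.leaf 55)))))) (.node (.node (.node (.node (.node (.node (.leaf 172) (.leaf 200)) (.leaf 31)) (.node (.node (.leaf 198) (.leaf 304)) (.leaf 327))) (.node (.node (.node (.leaf 263) (.leaf 227)) (.leaf 212)) (.node (.node (.leaf 201) (.leaf 203)) (.leaf 36)))) (.node (.node (.node (.node (.leaf 111) (.leaf 173)) (.leaf 110)) (.node (.node (.leaf 170) (.leaf 12)) (.leaf 268))) (.node (.node (.node (.leaf 28) (.leaf 215)) (.leaf 351)) (.node (.leaf 329) (.leaf 250))))) (.node (.node (.node (.node (.node (.leaf 116) (.leaf 300)) (.leaf 92)) (.node (.node (.leaf 56) (.leaf 283)) (.leaf 176))) (.node (.node (.node (.leaf 314) (.leaf 142)) (.leaf 169)) (.node (.leaf 19) (.leaf 259)))) (.node (.node (.node (.node (.leaf 97) (.leaf 4)) (.leaf 85)) (.node (.node (.leaf 188) (.leaf 323)) (.leaf 192))) (.node (.node (.node (.leaf 130) (.leaf 277)) (.leaf 99)) (.node (.leaf 14) (.leaf 257)))))))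

def sixOrd1 : Janko.Tree (ℕ) :=
  (.node (.node (.node (.node (.node (.node (.node (.leaf 161) (.leaf 343)) (.leaf 162)) (.node (.node (.leaf 51) (.leaf 238)) (.leaf 334))) (.node (.node (.node (.leaf 50) (.leaf 113)) (.leaf 322)) (.node (.node (.leaf 251) (.leaf 139)) (.leaf 222)))) (.node (.node (.node (.node (.leaf 346) (.leaf 136)) (.leaf 117)) (.node (.node (.leaf 230) (.leaf 147)) (.leaf 44))) (.node (.node (.node (.leaf 265) (.leaf 354)) (.leaf 37)) (.node (.leaf 349) (.leaf 101))))) (.node (.node (.node (.node (.node (.leaf 145) (.leaf 17)) (.leaf 49)) (.node (.node (.leaf 245) (.leaf 122)) (.leaf 18))) (.node (.node (.node (.leaf 34) (.leaf 315)) (.leaf 252)) (.node (.leaf 278) (.leaf 335)))) (.node (.node (.node (.node (.leaf 353) (.leaf 355)) (.leaf 290)) (.node (.node (.leaf 233) (.leaf 206)) (.leaf 141))) (.node (.node (.node (.leaf 189) (.leaf 157)) (.leaf 108)) (.node (.leaf 69) (.leaf 77)))))) (.node (.node (.node (.node (.node (.node (.leaf 168) (.leaf 62)) (.leaf 35)) (.node (.node (.leaf 293) (.leaf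 240)) (.leaf 187))) (.node (.node (.node (.leaf 305) (.leaf 175)) (.leaf 261)) (.node (.node (.leaf 155) (.leaf 225)) (.leaf 58)))) (.node (.node (.node (.node (.leaf 148) (.leaf 339)) (.leaf 285)) (.node (.node (.leaf 21) (.leaf 121)) (.leaf 154))) (.node (.node (.node (.leaf 43) (.leaf 48)) (.leaf 273)) (.node (.leaf 352) (.leaf 208))))) (.node (.node (.node (.node (.node (.leaf 83) (.leaf 267)) (.leaf 103)) (.node (.node (.leaf 3) (.leaf 319)) (.leaf 134))) (.node (.node (.node (.leaf 342) (.leaf 336)) (.leaf 159)) (.node (.leaf 87) (.leaf 46)))) (.node (.node (.node (.node (.leaf 70) (.leaf 2)) (.leaf 185)) (.node (.node (.leaf 146) (.leaf 288)) (.leaf 138))) (.node (.node (.node (.leaf 57) (.leaf 179)) (.leaf 72)) (.node (.leaf 114) (.leaf 276)))))))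

def sixOrd2 : Janko.Tree (ℕ) :=
  (.node (.node (.node (.node (.node (.node (.node (.leaf 193) (.leaf 270)) (.leaf 119)) (.node (.node (.leaf 73) (.leaf 254)) (.leaf 303))) (.node (.node (.node (.leaf 33) (.leaf 47)) (.leaf 244)) (.node (.node (.leaf 66) (.leaf 9)) (.leaf 40)))) (.node (.node (.node (.node (.leaf 320) (.leaf 213)) (.leaf 299)) (.node (.node (.leaf 272) (.leaf 190)) (.leaf 16))) (.node (.node (.node (.leaf 182) (.leaf 275)) (.leaf 235)) (.node (.leaf 112) (.leaf 15))))) (.node (.node (.node (.node (.node (.leaf 287) (.leaf 10)) (.leaf 71)) (.node (.node (.leaf 195) (.leaf 90)) (.leaf 131))) (.node (.node (.node (.leaf 22) (.leaf 344)) (.leaf 324)) (.node (.leaf 347) (.leaf 266)))) (.node (.node (.node (.node (.leaf 345) (.leaf 96)) (.leaf 246)) (.node (.node (.leaf 237) (.leaf 297)) (.leaf 74))) (.node (.node (.node (.leaf 291) (.leaf 105)) (.leaf 120)) (.node (.leaf 45) (.leaf 232)))))) (.node (.node (.node (.node (.node (.node (.leaf 128) (.leaf 42)) (.leaf 20)) (.node (.node (.leaf 153) (.leaf 286))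 (.leaf 296))) (.node (.node (.node (.leaf 165) (.leaf 274)) (.leaf 313)) (.node (.node (.leaf 253) (.leaf 1)) (.leaf 54)))) (.node (.node (.node (.node (.leaf 152) (.leaf 197)) (.leaf 321)) (.node (.node (.leaf 13) (.leaf 160)) (.leaf 115))) (.node (.node (.node (.leaf 164) (.leaf 32)) (.leaf 337)) (.node (.leaf 310) (.leaf 242))))) (.node (.node (.node (.node (.node (.leaf 59) (.leaf 220)) (.leaf 137)) (.node (.node (.leaf 79) (.leaf 333)) (.leaf 280))) (.node (.node (.node (.leaf 53) (.leaf 184)) (.leaf 217)) (.node (.leaf 29) (.leaf 30)))) (.node (.node (.node (.node (.leaf 100) (.leaf 93)) (.leaf 61)) (.node (.node (.leaf 143) (.leaf 163)) (.leaf 149))) (.node (.node (.node (.leaf 171) (.leaf 191)) (.leaf 178)) (.node (.leaf 84) (.leaf 209)))))))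

def sixOrd3 : Janko.Tree (ℕ) :=
  (.node (.node (.node (.node (.node (.node (.node (.leaf 243) (.leaf 341)) (.leaf 88)) (.node (.node (.leaf 271) (.leaf 348)) (.leaf 94))) (.node (.node (.node (.leaf 27) (.leaf 68)) (.leaf 289)) (.node (.node (.leaf 294) (.leaf 5)) (.leaf 60)))) (.node (.node (.node (.node (.leaf 64) (.leaf 166)) (.leaf 156)) (.node (.node (.leaf 181) (.leaf 26)) (.leaf 25))) (.node (.node (.node (.leaf 140) (.leaf 358)) (.leaf 282)) (.node (.leaf 357) (.leaf 135))))) (.node (.node (.node (.node (.node (.leaf 109) (.leaf 150)) (.leaf 247)) (.node (.node (.leaf 317) (.leaf 226)) (.leaf 11))) (.node (.node (.node (.leaf 186) (.leaf 325)) (.leaf 350)) (.node (.leaf 328) (.leaf 307)))) (.node (.node (.node (.node (.leaf 332) (.leaf 359)) (.leaf 174)) (.node (.node (.leaf 284) (.leaf 256)) (.leaf 106))) (.node (.node (.node (.leaf 214) (.leaf 204)) (.leaf 78)) (.node (.leaf 95) (.leaf 279)))))) (.node (.node (.node (.node (.node (.node (.leaf 221) (.leaf 249)) (.leaf 52)) (.node (.node (.leaf 326) (.leaf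 262)) (.leaf 239))) (.node (.node (.node (.leaf 126) (.leaf 224)) (.leaf 340)) (.node (.node (.leaf 205) (.leaf 0)) (.leaf 81)))) (.node (.node (.node (.node (.leaf 196) (.leaf 311)) (.leaf 80)) (.node (.node (.leaf 219) (.leaf 7)) (.leaf 308))) (.node (.node (.node (.leaf 211) (.leaf 167)) (.leaf 312)) (.node (.leaf 338) (.leaf 255))))) (.node (.node (.node (.node (.node (.leaf 86) (.leaf 331)) (.leaf 125)) (.node (.node (.leaf 6) (.leaf 302)) (.leaf 234))) (.node (.node (.node (.leaf 75) (.leaf 306)) (.leaf 207)) (.node (.leaf 118) (.leaf 301)))) (.node (.node (.node (.node (.leaf 133) (.leaf 67)) (.leaf 236)) (.node (.node (.leaf 107) (.leaf 210)) (.leaf 180))) (.node (.node (.node (.leaf 38) (.leaf 231)) (.leaf 228)) (.node (.leaf 8) (.leaf 229)))))))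

def sixOrd : Janko.Tree (ℕ) := (.node (.node sixOrd0 sixOrd2) (.node sixOrd1 sixOrd3))

def sixRels : List (List ℕ) := [[0, 0],
  [1, 1, 1, 1],
  [0, 1, 0, 1, 0, 1, 0, 1, 0, 1],
  [0, 1, 1, 0, 1, 1, 0, 1, 1, 0, 1, 1, 0, 1, 1],
  [0, 1, 0, 1, 0, 1, 0, 1, 1, 0, 1, 0, 1, 0, 1, 0, 1, 1],
  [0, 1, 0, 1, 0, 1, 0, 1, 1, 1, 0, 1, 1, 0, 1, 1, 0, 1, 1, 0, 1, 1, 1],
  [0, 1, 0, 1, 1, 1, 0, 1, 0, 1, 1, 1, 0, 1, 0, 1, 1, 1, 0, 1, 0, 1, 1, 1],
  [0, 1, 0, 1, 1, 0, 1, 0, 1, 1, 0, 1, 0, 1, 1, 0, 1, 0, 1, 1, 0, 1, 0, 1, 1],
  [0, 1, 0, 1, 1, 0, 1, 1, 0, 1, 1, 0, 1, 0, 1, 1, 1, 0, 1, 1, 1, 0, 1, 1, 1],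
  [0, 1, 0, 1, 0, 1, 1, 0, 1, 1, 1, 0, 1, 0, 1, 1, 1, 0, 1, 0, 1, 1, 1, 0, 1, 1],
  [0, 1, 0, 1, 1, 0, 1, 1, 1, 0, 1, 0, 1, 1, 0, 1, 1, 1, 0, 1, 0, 1, 1, 0, 1, 1, 1],
  [0, 1, 0, 1, 1, 1, 0, 1, 1, 0, 1, 0, 1, 1, 1, 0, 1, 1, 0, 1, 0, 1, 1, 1, 0, 1, 1],
  [0, 1, 0, 1, 0, 1, 1, 0, 1, 1, 1, 0, 1, 1, 0, 1, 0, 1, 0, 1, 1, 0, 1, 1, 1, 0, 1, 1],
  [0, 1, 0, 1, 1, 0, 1, 1, 1, 0, 1, 1, 1, 0, 1, 1, 0, 1, 0, 1, 1, 1, 0, 1, 0, 1, 1, 1],
  [0, 1, 0, 1, 0, 1, 1, 0, 1, 0, 1, 1, 0, 1, 1, 1, 0, 1, 0, 1, 1, 1, 0, 1, 1, 0, 1, 0, 1, 1],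
  [0, 1, 0, 1, 0, 1, 1, 0, 1, 1, 1, 0, 1, 1, 0, 1, 0, 1, 1, 1, 0, 1, 1, 0, 1, 1, 0, 1, 0, 1, 1],
  [0, 1, 0, 1, 0, 1, 1, 0, 1, 0, 1, 1, 0, 1, 1, 1, 0, 1, 1, 0, 1, 0, 1, 0, 1, 1, 1, 0, 1, 0, 1, 1],
  [0, 1, 0, 1, 0, 1, 1, 0, 1, 0, 1, 1, 1, 0, 1, 0, 1, 0, 1, 1, 0, 1, 1, 1, 0, 1, 1, 0, 1, 0, 1, 1],
  [0, 1, 0, 1, 1, 0, 1, 0, 1, 1, 0, 1, 0, 1, 1, 1, 0, 1, 0, 1, 1, 0, 1, 0, 1, 1, 0, 1, 0, 1, 1, 1],
  [0, 1, 0, 1, 1, 0, 1, 0, 1, 1, 1, 0, 1, 0, 1, 1, 0, 1, 1, 0, 1, 0, 1, 1, 0, 1, 1, 1, 0, 1, 1, 1],
  [0, 1, 0, 1, 1, 0, 1, 0, 1, 1, 1, 0, 1, 1, 1, 0, 1, 1, 0, 1, 0, 1, 1, 0, 1, 1, 0, 1, 0, 1, 1, 1]]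

/-- the certificate -/
def sixCert : CentralLocal.Cert :=
  { act := actP sixGens, one := idP, N := 360, k := 2, q := 0, rels := sixRels, P := 4,
    elt := sixElt, next := sixNext, word := sixWord, par := sixPar, L := sixL, kind := sixKind, rank := sixRank,
    via := sixVia, pv := [720, 721, 722, 723] }

theorem six_edges0 : ((List.range 360).all fun i => sixCert.edgeCheck (Nat.add 0 i)) = true := by decide +kernel

theorem six_edges : ∀ i < 360, sixCert.edgeCheck i = true := by
  intro i hi
  have := List.all_eq_true.1 six_edges0 (i - 0) (List.mem_range.2 (by omega)); rwa [show Nat.add 0 (i - 0) = i from Nat.add_sub_cancel' (by omega)] at this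


theorem six_tree0 : ((List.range 360).all fun i => sixCert.treeCheck (Nat.add 0 i)) = true := by decide +kernel

theorem six_tree : ∀ i < 360, sixCert.treeCheck i = true := by
  intro i hi
  have := List.all_eq_true.1 six_tree0 (i - 0) (List.mem_range.2 (by omega)); rwa [show Nat.add 0 (i - 0) = i from Nat.add_sub_cancel' (by omega)] at this


theorem six_vars0 : ((List.range 512).all fun i => sixCert.varCheck (Nat.add 0 i)) = true := by decide +kernel

theorem six_vars1 : ((List.range 229).all fun i => sixCert.varCheck (Nat.add 512 i)) = true := by decide +kernel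

theorem six_vars : ∀ i < 741, sixCert.varCheck i = true := by
  intro i hi
  by_cases h0 : i < 512
  · have := List.all_eq_true.1 six_vars0 (i - 0) (List.mem_range.2 (by omega)); rwa [show Nat.add 0 (i - 0) = i from Nat.add_sub_cancel' (by omega)] at this
  have := List.all_eq_true.1 six_vars1 (i - 512) (List.mem_range.2 (by omega)); rwa [show Nat.add 512 (i - 512) = i from Nat.add_sub_cancel' (by omega)] at this


theorem six_ord0 : ((List.range 360).all fun i => sixCert.ordCheck sixOrd (Nat.add 0 i)) = true := by decide +kernel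

theorem six_ord : ∀ i < 360, sixCert.ordCheck sixOrd i = true := by
  intro i hi
  have := List.all_eq_true.1 six_ord0 (i - 0) (List.mem_range.2 (by omega)); rwa [show Nat.add 0 (i - 0) = i from Nat.add_sub_cancel' (by omega)] at this


theorem six_rels : (sixCert.rels.all fun w => sixCert.relCheck w) = true := by decide +kernel

theorem six_valid : sixCert.Valid where
  npos := Nat.succ_pos _
  kpos := Nat.succ_pos _
  edges := six_edges
  tree := six_tree
  rels := List.all_eq_true.1 six_rels
  vars := six_vars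

theorem six_gens : sixGens.all (memOK [23, 0, 1]) = true := by decide +kernel

end Cfsg.Agent.Lie.LThreeFourMult
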