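import Cfsg.Agent.Lib.Lie.GolayCover

/-!
A central table on a Sylow 2-subgroup of the linear group of degree three over four elements (generated).
-/

set_option autoImplicit false
set_option maxRecDepth 100000
set_option maxHeartbeats 0
set_option Elab.async false

namespace Cfsg.Agent.Lie.LThreeFourMult

open Cfsg.Agent.Lie GolayCover

/-- generators of the subgroup -/
def twoGens : List (ℕ × ℕ) := [(975362158564839855078191020298578976, 975358466417116351383961261436947488),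
  (983552564803651922167152084415270944, 983537822839434715056621516468890656),
  (984810071145455332016797941801004064, 984810071145455332016797941801004064),
  (983546742359401761950027366892935200, 983544137801256700974816809949705248)]

def twoElt : Janko.Tree (ℕ) :=
  (.node (.node (.node (.node (.node (.node (.leaf 984818244535754528103549039458486304) (.leaf 984795341472366346341846312132136992)) (.node (.leaf 971578366476940486264408460794904608) (.leaf 983540135237665879549348711827096608))) (.node (.node (.leaf 971581182864271678899575794811652128) (.leaf 975363711102424373320767757736843296)) (.node (.leaf 975347416522021219043571860318048288) (.leaf 975348453537376004971263367568279584)))) (.node (.node (.node (.leaf 983546742359401761950027366892935200) (.leaf 984801637148211260229913135071469600)) (.node (.leaf 983556246130271117336005798311071776) (.leaf 975354635540339156191227561498493984))) (.node (.node (.leaf 984808994324989787920432733968517152)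 (.leaf 971582110291725965799410783885562912)) (.node (.leaf 971591173215681553856898597547780128) (.leaf 983541516225060479104368592531082272))))) (.node (.node (.node (.node (.leaf 983552564803651922167152084415270944) (.leaf 984815315284307595950796905296016416)) (.node (.leaf 983547815612311827640989344707231776) (.leaf 984802512756263237727643185327479840))) (.node (.node (.leaf 984806227379088838201018984694921248) (.leaf 984799016615329826603595760505294880)) (.node (.leaf 975361086756581496892182068807709728) (.leaf 975365413159956401147756746068047904)))) (.node (.node (.node (.leaf 971594099268302134235014375640515616) (.leaf 984812680889878029252177586422913056)) (.node (.leaf 983544137801256700974816809949705248) (.leaf 975357409952564270728548521747791904))) (.node (.node (.leaf 983560732202510771760283209707927584) (.leaf 983559493361839570066624664967418912)) (.node (.leaf 971577517287551343866186961985312800) (.leaf 971571204264824937494339288311122976))))))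 (.node (.node (.node (.node (.node (.leaf 975362158564839855078191020298578976) (.leaf 983555191475459848604701580050147360)) (.node (.leaf 984805329143595020694614473516885024) (.leaf 983551488910455724623650023706565664))) (.node (.node (.leaf 971592882964418941354553515258775584) (.leaf 984804261842214368737105645013149728)) (.node (.leaf 971574890228893021438368355574721568) (.leaf 975353707611207438835147944369429536)))) (.node (.node (.node (.leaf 984797642623984997567594628879848480) (.leaf 971588568309376260803081219592003616)) (.node (.leaf 984813758347425676314344326265162784) (.leaf 971575929332064763884533976411511840))) (.node (.node (.leaf 975346028712660580592452217730074656) (.leaf 984817004766599741392780192652575776)) (.node (.leaf 975350025879593372277885042986952736) (.leaf 975343734576450893697959488627249184))))) (.node (.node (.node (.node (.leaf 984810071145455332016797941801004064) (.leaf 975352659925863149606257692249268256))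 (.node (.leaf 975358466417116351383961261436947488) (.leaf 983545006800104212873683927772022816))) (.node (.node (.leaf 983548720921252936276249910206105632) (.leaf 971573502535564247891880895701956640)) (.node (.leaf 971589622301678508399150763893444640) (.leaf 971584878481603836252719053300409376)))) (.node (.node (.node (.leaf 975366630392323105260605610366440480) (.leaf 971580112106585279659743217479431200)) (.node (.leaf 983537822839434715056621516468890656) (.leaf 975350898799001004677460016809223200))) (.node (.node (.leaf 983542532495266868534560915354395680) (.leaf 984800045175449534942630167704616992)) (.node (.leaf 971585946539763897960642657725288480) (.leaf 983557785946333995028011165933477920)))))))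

def twoNext0 : Janko.Tree (ℕ) :=
  (.node (.node (.node (.node (.node (.node (.node (.leaf 1) (.leaf 58)) (.node (.leaf 22) (.leaf 62))) (.node (.node (.leaf 4) (.leaf 50)) (.node (.leaf 45) (.leaf 41)))) (.node (.node (.node (.leaf 16) (.leaf 56)) (.node (.leaf 44) (.leaf 32))) (.node (.node (.leaf 35) (.leaf 2)) (.node (.leaf 49) (.leaf 6))))) (.node (.node (.node (.node (.leaf 9) (.leaf 57)) (.node (.leaf 30) (.leaf 26))) (.node (.node (.leaf 24) (.leaf 52)) (.node (.leaf 17) (.leaf 42)))) (.node (.node (.node (.leaf 23) (.leaf 55)) (.node (.leaf 8) (.leaf 36))) (.node (.node (.leaf 25) (.leaf 31)) (.node (.leaf 51) (.leaf 14)))))) (.node (.node (.node (.node (.node (.leaf 5) (.leaf 59)) (.node (.leaf 40) (.leaf 37))) (.node (.node (.leaf 20) (.leaf 54)) (.node (.leaf 48) (.leaf 38)))) (.node (.node (.node (.leaf 19) (.leaf 15)) (.node (.leaf 7) (.leaf 33))) (.node (.node (.leaf 21) (.leaf 61)) (.node (.leaf 12) (.leaf 10))))) (.node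 (.node (.node (.node (.leaf 13) (.leaf 47)) (.node (.leaf 0) (.leaf 39))) (.node (.node (.leaf 27) (.leaf 60)) (.node (.leaf 46) (.leaf 63)))) (.node (.node (.node (.leaf 3) (.leaf 18)) (.node (.leaf 43) (.leaf 34))) (.node (.node (.leaf 28) (.leaf 29)) (.node (.leaf 11) (.leaf 53))))))) (.node (.node (.node (.node (.node (.node (.leaf 3) (.leaf 10)) (.node (.leaf 39) (.leaf 60))) (.node (.node (.leaf 30) (.leaf 57)) (.node (.leaf 52) (.leaf 29)))) (.node (.node (.node (.leaf 18) (.leaf 12)) (.node (.leaf 46) (.leaf 24))) (.node (.node (.leaf 36) (.leaf 27)) (.node (.leaf 53) (.leaf 48))))) (.node (.node (.node (.node (.leaf 11) (.leaf 50)) (.node (.leaf 4) (.leaf 34))) (.node (.node (.leaf 32) (.leaf 45)) (.node (.leaf 55) (.leaf 61)))) (.node (.node (.node (.leaf 25) (.leaf 17)) (.node (.leaf 51) (.leaf 35))) (.node (.node (.leaf 23) (.leaf 20)) (.node (.leaf 8) (.leaf 43)))))) (.node (.node (.node (.node (.node (.leaf 7) (.leaf 15))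 (.node (.leaf 38) (.leaf 63))) (.node (.node (.leaf 31) (.leaf 47)) (.node (.leaf 6) (.leaf 40)))) (.node (.node (.node (.leaf 21) (.leaf 59)) (.node (.leaf 5) (.leaf 28))) (.node (.node (.leaf 19) (.leaf 42)) (.node (.leaf 56) (.leaf 58))))) (.node (.node (.node (.node (.leaf 0) (.leaf 54)) (.node (.leaf 13) (.leaf 22))) (.node (.node (.leaf 2) (.leaf 62)) (.node (.leaf 44) (.leaf 37)))) (.node (.node (.node (.leaf 1) (.leaf 16)) (.node (.leaf 14) (.leaf 26))) (.node (.node (.leaf 33) (.leaf 41)) (.node (.leaf 9) (.leaf 49))))))))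

def twoNext1 : Janko.Tree (ℕ) :=
  (.node (.node (.node (.node (.node (.node (.node (.leaf 2) (.leaf 11)) (.node (.leaf 35) (.leaf 42))) (.node (.node (.leaf 29) (.leaf 8)) (.node (.leaf 44) (.leaf 30)))) (.node (.node (.node (.leaf 17) (.leaf 49)) (.node (.leaf 45) (.leaf 25))) (.node (.node (.leaf 22) (.leaf 1)) (.node (.leaf 56) (.leaf 5))))) (.node (.node (.node (.node (.leaf 10) (.leaf 51)) (.node (.leaf 41) (.leaf 63))) (.node (.node (.leaf 23) (.leaf 46)) (.node (.leaf 16) (.leaf 62)))) (.node (.node (.node (.leaf 24) (.leaf 18)) (.node (.leaf 50) (.leaf 39))) (.node (.node (.leaf 32) (.leaf 21)) (.node (.leaf 57) (.leaf 13)))))) (.node (.node (.node (.node (.node (.leaf 6) (.leaf 47)) (.node (.leaf 33) (.leaf 34))) (.node (.node (.leaf 19) (.leaf 15)) (.node (.leaf 7) (.leaf 28)))) (.node (.node (.node (.leaf 20) (.leaf 54)) (.node (.leaf 48) (.leaf 40))) (.node (.node (.leaf 31) (.leaf 60)) (.node (.leaf 53) (.leaf 9)))))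 (.node (.node (.node (.node (.leaf 14) (.leaf 59)) (.node (.leaf 43) (.leaf 36))) (.node (.node (.leaf 3) (.leaf 61)) (.node (.leaf 52) (.leaf 26)))) (.node (.node (.node (.leaf 27) (.leaf 55)) (.node (.leaf 0) (.leaf 37))) (.node (.node (.leaf 38) (.leaf 4)) (.node (.leaf 58) (.leaf 12))))))) (.node (.node (.node (.node (.node (.node (.leaf 4) (.leaf 18)) (.node (.leaf 1) (.leaf 41))) (.node (.node (.leaf 19) (.leaf 6)) (.node (.leaf 53) (.leaf 25)))) (.node (.node (.node (.leaf 5) (.leaf 48)) (.node (.leaf 47) (.leaf 30))) (.node (.node (.leaf 20) (.leaf 35)) (.node (.leaf 13) (.leaf 17))))) (.node (.node (.node (.node (.leaf 12) (.leaf 46)) (.node (.leaf 42) (.leaf 60))) (.node (.node (.leaf 33) (.leaf 51)) (.node (.leaf 43) (.leaf 39)))) (.node (.node (.node (.leaf 26) (.leaf 11)) (.node (.leaf 0) (.leaf 62))) (.node (.node (.leaf 36) (.leaf 38)) (.node (.leaf 58) (.leaf 56)))))) (.node (.node (.node (.node (.node (.leaf 8) (.leaf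 45)) (.node (.leaf 23) (.leaf 3))) (.node (.node (.leaf 29) (.leaf 14)) (.node (.leaf 54) (.leaf 27)))) (.node (.node (.node (.leaf 22) (.leaf 7)) (.node (.leaf 49) (.leaf 61))) (.node (.node (.leaf 37) (.leaf 63)) (.node (.leaf 44) (.leaf 59))))) (.node (.node (.node (.node (.leaf 15) (.leaf 9)) (.node (.leaf 16) (.leaf 32))) (.node (.node (.leaf 34) (.leaf 40)) (.node (.leaf 55) (.leaf 24)))) (.node (.node (.node (.leaf 28) (.leaf 52)) (.node (.leaf 50) (.leaf 31))) (.node (.node (.leaf 21) (.leaf 2)) (.node (.leaf 57) (.leaf 10))))))))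

def twoNext : Janko.Tree (ℕ) := (.node twoNext0 twoNext1)

def twoWord : Janko.Tree (ℕ) :=
  (.node (.node (.node (.node (.node (.node (.leaf 1) (.leaf 4370)) (.node (.leaf 304) (.leaf 65569))) (.node (.node (.leaf 259) (.leaf 4880)) (.node (.leaf 4113) (.leaf 66097)))) (.node (.node (.node (.leaf 19) (.leaf 4402)) (.node (.leaf 4097) (.leaf 65810))) (.node (.node (.leaf 275) (.leaf 65552)) (.node (.leaf 4131) (.leaf 1048592))))) (.node (.node (.node (.node (.leaf 17) (.leaf 4387)) (.node (.leaf 306) (.leaf 65585))) (.node (.node (.leaf 273) (.leaf 4899)) (.node (.leaf 4115) (.leaf 66339)))) (.node (.node (.node (.leaf 257) (.leaf 4657)) (.node (.leaf 4099) (.leaf 65827))) (.node (.node (.leaf 289) (.leaf 65554)) (.node (.leaf 4146) (.leaf 1048594)))))) (.node (.node (.node (.node (.node (.leaf 16) (.leaf 4371)) (.node (.leaf 305) (.leaf 65571))) (.node (.node (.leaf 272) (.leaf 4897)) (.node (.leaf 4114) (.leaf 66337)))) (.node (.node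 (.node (.leaf 256) (.leaf 4611)) (.node (.leaf 4098) (.leaf 65811))) (.node (.node (.leaf 288) (.leaf 65553)) (.node (.leaf 4145) (.leaf 1048593))))) (.node (.node (.node (.node (.leaf 18) (.leaf 4400)) (.node (.leaf 4096) (.leaf 65586))) (.node (.node (.leaf 274) (.leaf 65537)) (.node (.leaf 4129) (.leaf 69936)))) (.node (.node (.node (.leaf 258) (.leaf 4866)) (.node (.leaf 4112) (.leaf 65842))) (.node (.node (.leaf 291) (.leaf 65555)) (.node (.leaf 4354) (.leaf 1048851)))))))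

def twoPar : Janko.Tree (ℕ) :=
  (.node (.node (.node (.node (.node (.node (.leaf 0) (.leaf 162)) (.node (.leaf 64) (.leaf 337))) (.node (.node (.leaf 19) (.leaf 272)) (.node (.leaf 97) (.leaf 449)))) (.node (.node (.node (.leaf 3) (.leaf 194)) (.node (.leaf 81) (.leaf 386))) (.node (.node (.leaf 35) (.leaf 320)) (.node (.leaf 115) (.leaf 688))))) (.node (.node (.node (.node (.leaf 1) (.leaf 179)) (.node (.leaf 66) (.leaf 353))) (.node (.node (.leaf 33) (.leaf 291)) (.node (.leaf 99) (.leaf 483)))) (.node (.node (.node (.leaf 17) (.leaf 241)) (.node (.leaf 83) (.leaf 403))) (.node (.node (.leaf 49) (.leaf 322)) (.node (.leaf 130) (.leaf 690)))))) (.node (.node (.node (.node (.node (.leaf 0) (.leaf 163)) (.node (.leaf 65) (.leaf 339))) (.node (.node (.leaf 32) (.leaf 289)) (.node (.leaf 98) (.leaf 481)))) (.node (.node (.node (.leaf 16) (.leaf 211)) (.node (.leaf 82) (.leaf 387))) (.node (.node (.leaf 48) (.leaf 321)) (.node (.leaf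 129) (.leaf 689))))) (.node (.node (.node (.node (.leaf 2) (.leaf 192)) (.node (.leaf 80) (.leaf 354))) (.node (.node (.leaf 34) (.leaf 305)) (.node (.leaf 113) (.leaf 528)))) (.node (.node (.node (.leaf 18) (.leaf 258)) (.node (.leaf 96) (.leaf 418))) (.node (.node (.leaf 51) (.leaf 323)) (.node (.leaf 146) (.leaf 723)))))))

def twoL0 : Janko.Tree (List ℤ) :=
  (.node (.node (.node (.node (.node (.node (.node (.leaf []) (.leaf [1, 0, 0, 0, 0, 0, 0, 0, 0, 0, 0])) (.leaf [-32, -13, 229, -224, 487, -44, -303, 73, -3, -38, 1])) (.node (.leaf [-1, 0, 0, -1, 2]) (.leaf [0, 0, 2, -2, 4, -1, -3, 1]))) (.node (.node (.node (.leaf [-2, -2, 28, -27, 59, -6, -38, 10, 0, -5]) (.leaf [0, 0, 6, -4, 8, 0, -6, 1])) (.leaf [-44, -12, 272, -289, 610, -76, -362, 90, 10, -42])) (.node (.leaf [-2, -3, 12, -13, 32, 0, -20, 8, -2, -4]) (.leaf [-13, -13, 295, -214, 483, -23, -363, 69, -19, -35, -1])))) (.node (.node (.node (.node (.leaf []) (.leaf [0, 0,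 3, -2, 4, 0, -4, 2])) (.leaf [-5, 20, -238, 162, -384, 11, 313, -76, 24, 35, 1])) (.node (.leaf []) (.leaf [-13, -3, 35, -54, 110, -16, -51, 16, 6, -8]))) (.node (.node (.node (.leaf []) (.leaf [-30, -3, 61, -91, 189, -20, -80, 19, 7, -14, 1])) (.leaf [-31, -6, 76, -132, 266, -46, -116, 40, 18, -20])) (.node (.leaf [-3, -2, 33, -30, 65, -6, -43, 10, 0, -5]) (.leaf [13, 2, -28, 45, -90, 14, 40, -12, -6, 6]))))) (.node (.node (.node (.node (.node (.leaf []) (.leaf [0, 0, 0, 0, 0, 0, 0, 0, 1, 0, 0])) (.leaf [-7, -8, 230, -155, 352, -13, -275, 46, -16, -25, -1])) (.node (.leaf [-2, 0, 7, -8, 17, -2, -9, 2, 0, -1]) (.leaf [0, 0, 8, -6, 14, -1, -10, 2, -1, -1]))) (.node (.node (.node (.leaf [6, 1, -20, 27, -56, 8, 28, -8, -2, 4]) (.leaf [-5, 6, -62, 33, -89, -4, 84, -21, 14, 10])) (.leaf [-16, -4, 1, -45, 93, -20, -21, 19, 7, -10, 1])) (.node (.leaf [3, 0, -8, 10, -20, 3, 10, -2, -1, 1]) (.leaf [2, -2, 25, -15, 38, 0, -33, 8, -4, -4]))))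 (.node (.node (.node (.node (.leaf []) (.leaf [-24, -8, 136, -158, 331, -45, -188, 52, 10, -24])) (.leaf [-49, -12, 288, -302, 628, -77, -371, 84, 18, -41, -1])) (.node (.leaf [-4, 0, 8, -15, 27, -6, -10, 2, 4, -1]) (.leaf [36, -6, 53, 51, -69, 47, -51, -1, -33, 1, -1]))) (.node (.node (.node (.leaf [-2, 0, -2, 0, 0, 1, 3, -1]) (.leaf [-30, -13, 180, -211, 444, -62, -255, 77, 13, -33, -1])) (.leaf [-2, 0, 7, -13, 26, -6, -11, 4, 2, -2])) (.node (.leaf [0, 0, -5, 5, -11, 2, 7, -2, 0, 1]) (.leaf [-10, -2, 40, -56, 114, -19, -57, 17, 6, -8])))))) (.node (.node (.node (.node (.node (.node (.leaf []) (.leaf [0, 0, 0, 0, 1, 0, 0, 0, 0, 0, 0])) (.leaf [])) (.node (.leaf []) (.leaf [3, 2, -34, 30, -65, 6, 44, -10, 0, 5]))) (.node (.node (.node (.leaf [-2, 0, -8, 0, -2, -2, 8, 0, 2]) (.leaf [-1, -17, 135, -112, 261, -14, -192, 59, -9, -26, -1])) (.leaf [2, -25, 314, -204, 496, -1, -409, 94, -44, -45, 1])) (.node (.leaf [9, -2, -24, 35, -66,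 15, 29, -5, -6, 2]) (.leaf [24, -2, -75, 89, -169, 27, 81, -7, -17, 7, 1])))) (.node (.node (.node (.node (.leaf []) (.leaf [2, -2, 32, -12, 32, 7, -36, 4, -6, -2])) (.leaf [1, 0, 0, 1, -3, 0, 0, 0, 0, 1])) (.node (.leaf [0, 0, 3, -2, 4, 0, -3]) (.leaf [-49, -11, 156, -234, 477, -78, -230, 74, 26, -35]))) (.node (.node (.node (.leaf [-1, 0, 2, -2, 4, 0, -2]) (.leaf [-5, -19, 255, -178, 421, -8, -330, 75, -29, -36, 1])) (.leaf [14, 1, -28, 52, -100, 20, 40, -12, -10, 6])) (.node (.leaf [4, 0, -4, 13, -22, 7, 6, -2, -5, 1]) (.leaf [-2, -1, 8, -13, 26, -4, -12, 4, 2, -2]))))) (.node (.node (.node (.node (.node (.leaf []) (.leaf [0, 0, 3, -2, 4, 0, -3, 1])) (.leaf [5, -2, 40, -8, 28, 10, -44, 4, -10, -2])) (.node (.leaf [1]) (.leaf [1, 0, -1, 1, -2, 0, 1]))) (.node (.node (.node (.leaf [31, 6, -76, 132, -266, 47, 117, -41, -18, 20]) (.leaf [-51, -15, 193, -228, 495, -44, -268, 73, -1, -40, 3])) (.leaf [])) (.node (.leaf [-2, 0, -2, 0, 0,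 1, 3, -1]) (.leaf [7, 0, 8, 21, -38, 16, 0, -8, -8, 4])))) (.node (.node (.node (.node (.leaf [0, 0, -1, 0, 0, 0, 1]) (.leaf [12, 2, -28, 44, -89, 14, 40, -12, -4, 6])) (.leaf [0, 0, -1, 0, 0, 0, 1])) (.node (.leaf [6, 0, 0, 17, -30, 10, 4, -4, -6, 2]) (.leaf [6, 7, -125, 101, -219, 19, 159, -35, 1, 15, 1]))) (.node (.node (.leaf [-3, -2, 33, -30, 65, -6, -43, 10, 0, -5]) (.leaf [-1, -2, 32, -29, 64, -7, -44, 12, -1, -5])) (.node (.leaf [0, 0, -1, 0, 0, 0, 1]) (.leaf [7, -1, 16, 1, 5, 4, -20, 4, -6, -1])))))))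

def twoL1 : Janko.Tree (List ℤ) :=
  (.node (.node (.node (.node (.node (.node (.node (.leaf []) (.leaf [0, 1, 0, 0, 0, 0, 0, 0, 0, 0, 0])) (.leaf [0, 0, 3, -2, 4, 0, -4, 1])) (.node (.leaf [0, 2, -40, 23, -55, -1, 48, -8, 5, 4]) (.leaf [17, -6, 96, -30, 89, 12, -118, 23, -21, -8, -1]))) (.node (.node (.node (.leaf []) (.leaf [5, 4, -83, 79, -173, 22, 114, -31, 1, 14, 1])) (.leaf [-27, -8, 144, -169, 351, -49, -198, 54, 12, -25])) (.node (.leaf [0, 1, 0, 0, 0, -1]) (.leaf [6, -20, 232, -157, 372, -10, -306, 75, -23, -34, -1])))) (.node (.node (.node (.node (.leaf []) (.leaf [0, 0, 0, 0, 0, 0, 0, 0, 0, 0, 1])) (.leaf [-14, 20, -209, 126, -315, 0, 278, -70, 30, 32, 1])) (.node (.leaf []) (.leaf [0, 0, 3, -2, 4, 0, -4, 1]))) (.node (.node (.node (.leaf [-1, 0, 0, -1, 1, 0, 0, 0, 1]) (.leaf [-28, -2, 69, -97, 200, -25, -90, 21, 8, -14, 1])) (.leaf [0, 0, 0, 0, 0, 1])) (.node (.leaf []) (.leaf [0, 0, 0, 0, 0, 1]))))) (.node (.node (.node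 (.node (.node (.leaf []) (.leaf [0, 0, 0, 0, 0, 0, 0, 0, 0, 1, 0])) (.leaf [-6, -7, 119, -97, 209, -18, -152, 34, 0, -14, -1])) (.node (.leaf []) (.leaf [6, 1, 0, 14, -26, 6, 4, -4, -4, 2]))) (.node (.node (.node (.leaf [0, 1, 0, 0, 0, -1]) (.leaf [-3, -2, 31, -29, 64, -6, -40, 10, 0, -5])) (.leaf [-7, 13, -155, 112, -261, 16, 210, -56, 13, 24, 1])) (.node (.leaf [0, 0, 0, -3, 6, -2, -2, 2, 1, -1]) (.leaf [40, 12, -251, 255, -545, 56, 328, -76, -3, 40, -1])))) (.node (.node (.node (.node (.leaf []) (.leaf [-1, 0, 2, -2, 4, 1, -1])) (.leaf [-15, -4, 120, -106, 222, -20, -144, 25, 5, -14, -1])) (.node (.leaf []) (.leaf [-3, 25, -309, 199, -486, 0, 402, -92, 44, 45, -1]))) (.node (.node (.node (.leaf [-2, -1, -2, 0, 0, 2, 2]) (.leaf [9, 11, -135, 119, -271, 19, 187, -50, 11, 24, -1])) (.leaf [0, 0, 3, -2, 4, 0, -4, 1])) (.node (.leaf []) (.leaf [1, 0, 0, 0, 0, 0, -1, 1])))))) (.node (.node (.node (.node (.node (.node (.leaf []) (.leaf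 [0, 0, 0, 0, 0, 1, 0, 0, 0, 0, 0])) (.leaf [20, 6, -76, 104, -215, 32, 110, -34, -9, 16])) (.node (.leaf [-16, -3, 44, -68, 138, -22, -64, 20, 8, -10]) (.leaf [13, -4, 19, 12, -9, 14, -26, 7, -13, -2]))) (.node (.node (.node (.leaf [-1, 0, 0, 0, 0, 1]) (.leaf [10, -2, -20, 33, -61, 14, 24, -3, -6, 2])) (.leaf [41, 9, -236, 248, -514, 64, 300, -65, -17, 34, 1])) (.node (.leaf [0, 0, 3, -2, 4, 0, -4, 1]) (.leaf [8, 8, -234, 159, -362, 14, 280, -47, 17, 26, 1])))) (.node (.node (.node (.node (.leaf []) (.leaf [12, 4, -72, 78, -165, 21, 98, -26, -2, 12])) (.leaf [7, -8, 82, -46, 117, 2, -109, 27, -13, -12])) (.node (.leaf []) (.leaf [45, 14, -308, 319, -677, 83, 410, -102, -8, 47]))) (.node (.node (.node (.leaf [0, 0, 2, -2, 4, -1, -3, 1]) (.leaf [-13, -3, 42, -58, 118, -16, -59, 18, 6, -8])) (.leaf [0, 1, 0, 0, 0, -1])) (.node (.leaf [6, 1, -4, 16, -30, 6, 8, -4, -4, 2]) (.leaf [1, 1, 0, 0, 0, -1]))))) (.node (.node (.node (.node (.node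 (.leaf []) (.leaf [-7, 0, -4, -20, 36, -13, -2, 6, 8, -3])) (.leaf [-10, -2, 36, -51, 105, -17, -52, 16, 5, -8])) (.node (.leaf []) (.leaf [1, 0, -1, 1, -1, 0, 0, 1, -1]))) (.node (.node (.node (.leaf [0, 0, 3, -2, 4, 0, -4, 1]) (.leaf [-18, 0, 33, -46, 95, -8, -38, 5, 3, -6, 1])) (.leaf [])) (.node (.leaf [-2, -1, -6, 2, -4, 2, 6]) (.leaf [13, 3, -36, 58, -118, 20, 54, -18, -7, 9])))) (.node (.node (.node (.node (.leaf []) (.leaf [-17, -12, 101, -137, 289, -46, -160, 61, 11, -24, -1])) (.leaf [0, 0, 3, 1, -2, 2, -2, -1, -1, 1])) (.node (.leaf [0, 0, 0, 0, 0, 1]) (.leaf [24, 10, -128, 166, -345, 56, 189, -62, -14, 26, 1]))) (.node (.node (.leaf []) (.leaf [1, 0, 0, 0, -1, 0, 0, 0, 1])) (.node (.leaf [-8, -2, 57, -62, 125, -19, -74, 18, 7, -8, -1]) (.leaf [0, 0, 4, -6, 15, -2, -8, 4, -1, -2])))))))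

def twoL2 : Janko.Tree (List ℤ) :=
  (.node (.node (.node (.node (.node (.node (.node (.leaf []) (.leaf [0, 0, 1, 0, 0, 0, 0, 0, 0, 0, 0])) (.leaf [0, 0, 1])) (.node (.leaf []) (.leaf [0, 0, 0, 0, 0, -1, 0, 1]))) (.node (.node (.node (.leaf []) (.leaf [-8, 6, -54, 21, -63, -8, 72, -17, 14, 8])) (.leaf [-44, -8, 217, -251, 521, -73, -290, 73, 16, -35])) (.node (.leaf []) (.leaf [12, -18, 178, -110, 272, -2, -238, 62, -23, -28, -1])))) (.node (.node (.node (.node (.leaf []) (.leaf [51, -9, -36, 103, -188, 38, 36, 4, -20, 6, -3])) (.leaf [0, 0, 1])) (.node (.leaf []) (.leaf [0, 0, 1]))) (.node (.node (.node (.leaf []) (.leaf [6, 19, -261, 183, -433, 8, 338, -75, 31, 38, -1])) (.leaf [2, 0, 5, -2, 4, -1, -6, 1])) (.node (.leaf [5, -5, 63, -38, 92, -4, -82, 21, -7, -8, -1]) (.leaf [0, 0, 1, 0, 0, 1, 0, -1]))))) (.node (.node (.node (.node (.node (.leaf []) (.leaf [0, 0, 3, -2, 4, 0, -2])) (.leaf [9, 12, -145, 130, -295, 22, 202, -55, 10,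 26, -1])) (.node (.leaf [0, 0, 1]) (.leaf [-5, 5, -48, 28, -67, 2, 64, -17, 4, 6, 1]))) (.node (.node (.node (.leaf []) (.leaf [-23, -20, 241, -217, 495, -30, -330, 87, -19, -44, 3])) (.leaf [-36, 3, 11, -82, 145, -42, -20, 9, 25, -6, 1])) (.node (.leaf []) (.leaf [26, 5, -141, 162, -331, 48, 186, -45, -15, 22, 1])))) (.node (.node (.node (.node (.leaf []) (.leaf [-5, -4, 72, -63, 138, -12, -94, 23, -2, -10])) (.leaf [24, 3, -80, 101, -210, 26, 108, -26, -5, 14, -1])) (.node (.leaf []) (.leaf [11, 6, -49, 60, -135, 11, 76, -25, 3, 13, -1]))) (.node (.node (.node (.leaf [0, 0, 4, -2, 4, -1, -4, 1]) (.leaf [0, 0, -4, 1, -3, -1, 5, 0, 2])) (.leaf [0, 0, 1])) (.node (.leaf [0, 0, 1]) (.leaf [0, 0, 1])))))) (.node (.node (.node (.node (.node (.node (.leaf []) (.leaf [0, 0, 0, 0, 0, 0, 1, 0, 0, 0, 0])) (.leaf [7, 4, -32, 46, -94, 16, 48, -17, -7, 8, 1])) (.node (.leaf [12, 4, -117, 94, -200, 14, 138, -22, -1, 12, 1]) (.leaf [-24, -8, 109,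 -140, 292, -44, -156, 49, 11, -22, -1]))) (.node (.node (.node (.leaf []) (.leaf [-12, -19, 209, -168, 399, -12, -286, 75, -27, -38, 3])) (.leaf [-1, 0, 8, -4, 9, 0, -8, 1, -1])) (.node (.leaf [0, 0, 1]) (.leaf [44, 8, -216, 251, -521, 73, 290, -73, -16, 35])))) (.node (.node (.node (.node (.leaf []) (.leaf [13, 4, -40, 57, -116, 18, 58, -18, -6, 8])) (.leaf [-37, -13, 168, -226, 467, -76, -247, 81, 21, -35, -1])) (.node (.leaf [0, 0, 1]) (.leaf [22, 11, -178, 191, -410, 54, 248, -71, -5, 32, 1]))) (.node (.node (.node (.leaf [-1, 0, 0, 0, 0, 0, 1]) (.leaf [-3, 0, 8, -13, 26, -4, -11, 4, 2, -2])) (.leaf [45, 9, -70, 161, -323, 60, 122, -51, -25, 26, -1])) (.node (.leaf [-20, 8, -81, 12, -56, -20, 100, -20, 23, 8, 1]) (.leaf [-1, -10, 108, -93, 207, -18, -150, 43, -3, -18, -1]))))) (.node (.node (.node (.node (.node (.leaf [0, 0, 1]) (.leaf [0, 0, 0, -3, 7, -2, -2, 2, 1, -1])) (.leaf [7, -8, 102, -52, 135, 7, -130, 27, -19, -13, 1]))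 (.node (.leaf [1, 0, -3, 2, -4, 0, 3]) (.leaf [0, 0, 1]))) (.node (.node (.node (.leaf [0, 0, 1]) (.leaf [-15, 3, -13, -15, 25, -8, 18, -5, 7, -2, 1])) (.leaf [])) (.node (.leaf [0, 0, 4, -2, 4, -1, -4, 1]) (.leaf [-8, 0, 15, -18, 41, 0, -19, 3, -3, -3, 1])))) (.node (.node (.node (.node (.leaf [0, 0, 1]) (.leaf [3, 1, -12, 14, -29, 4, 16, -4, 0, 2])) (.leaf [0, 0, 1])) (.node (.leaf [2, 0, 1, 0, 0, -1, -2, 1]) (.leaf [0, 0, 1]))) (.node (.node (.leaf [-4, -4, 25, -36, 72, -14, -38, 15, 7, -6, -1]) (.leaf [1, 0, -7, 4, -9, 0, 8, -1, 1])) (.node (.leaf [0, 0, 1]) (.leaf [-19, 2, -28, -23, 34, -18, 26, 1, 13, -2, 1])))))))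

def twoL3 : Janko.Tree (List ℤ) :=
  (.node (.node (.node (.node (.node (.node (.node (.leaf []) (.leaf [0, 0, 0, 1, 0, 0, 0, 0, 0, 0, 0])) (.leaf [15, 3, -52, 69, -142, 20, 72, -19, -5, 10, -1])) (.node (.leaf [1, 0, -4, 6, -12, 2, 6, -2, 0, 1]) (.leaf [-24, -10, 136, -168, 353, -52, -196, 61, 12, -28, -1]))) (.node (.node (.node (.leaf [-1, 0, 0, 0, 1]) (.leaf [-23, -6, 84, -128, 262, -46, -128, 44, 15, -20])) (.leaf [-41, -8, 204, -238, 493, -71, -274, 70, 17, -33])) (.node (.leaf []) (.leaf [0, 0, -3, 2, -4, 0, 4, -1, 1])))) (.node (.node (.node (.node (.leaf [-1, 0, 0, 0, 1]) (.leaf [0, 0, -1, 2, -2, 0, 2])) (.leaf [25, 5, -139, 152, -313, 42, 180, -42, -11, 20, 1])) (.node (.leaf []) (.leaf [-38, -7, 168, -198, 404, -56, -220, 53, 19, -26, -1]))) (.node (.node (.node (.leaf [0, 0, 0, -1, 1, -2, 0, 0, 2]) (.leaf [6, 1, -8, 17, -33, 6, 12, -4, -2, 2])) (.leaf [-4, 2, -52, 17, -47, -8, 58, -6, 10, 3])) (.node (.leaf [0, 0, -1, 1,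 -1, 0, 1]) (.leaf [29, 8, -148, 174, -363, 51, 204, -56, -11, 26]))))) (.node (.node (.node (.node (.node (.leaf []) (.leaf [0, 0, -1, 1, -1, 0, 2])) (.leaf [-9, 6, -58, 23, -67, -8, 76, -18, 14, 8])) (.node (.leaf []) (.leaf [0, 0, 0, 0, 0, -1, 0, 0, 1]))) (.node (.node (.node (.leaf []) (.leaf [-40, -6, 65, -137, 279, -46, -108, 41, 15, -22, 3])) (.leaf [-1, 0, -2, 1, -1, 0, 2])) (.node (.leaf [0, 0, -8, 3, -7, -2, 8, 0, 2]) (.leaf [16, 14, -194, 179, -392, 36, 262, -68, 4, 31])))) (.node (.node (.node (.node (.leaf []) (.leaf [2, -13, 99, -75, 185, -4, -144, 45, -15, -20, 1])) (.leaf [0, 0, -3, 2, -4, 0, 4, -1, 1])) (.node (.leaf [1, 0, 0, 1, -1]) (.leaf [-9, 6, -54, 21, -63, -8, 72, -18, 14, 8]))) (.node (.node (.node (.leaf [-26, -5, 133, -149, 306, -42, -172, 40, 13, -20, -1]) (.leaf [1, 0, -5, 5, -11, 1, 7, -1, 1, 1])) (.leaf [9, -6, 61, -24, 71, 8, -80, 19, -15, -8])) (.node (.leaf []) (.leaf [-8, 6, -55, 21, -63, -8, 72, -17,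 13, 8])))))) (.node (.node (.node (.node (.node (.node (.leaf []) (.leaf [0, 0, 0, 0, 0, 0, 0, 1, 0, 0, 0])) (.leaf [-15, -2, 24, -51, 97, -20, -36, 12, 12, -6])) (.node (.leaf [0, 0, 0, 0, 0, -1, 0, 0, 1]) (.leaf [1, 0, -2, 2, -3, 0, 2]))) (.node (.node (.node (.leaf [-3, 0, -4, -6, 7, -5, 4, 0, 5]) (.leaf [-2, 0, -4, -6, 7, -6, 4, 1, 6])) (.leaf [26, 10, -142, 171, -360, 50, 202, -61, -10, 28, 1])) (.node (.leaf []) (.leaf [19, 3, -40, 78, -156, 30, 64, -25, -12, 12, 1])))) (.node (.node (.node (.node (.leaf []) (.leaf [-44, -12, 280, -298, 630, -79, -373, 94, 10, -44])) (.leaf [0, 0, 1, 0, 1, 0, -1])) (.node (.leaf []) (.leaf [2, 0, -12, 14, -29, 4, 16, -4, 0, 2]))) (.node (.node (.node (.leaf []) (.leaf [0, 0, 6, -4, 8, 0, -7, 2])) (.leaf [])) (.node (.leaf [0, 0, 0, 0, 0, -1, 0, 0, 1]) (.leaf [-22, -3, 60, -96, 191, -34, -86, 26, 14, -13]))))) (.node (.node (.node (.node (.node (.leaf []) (.leaf [-3, -2, 32, -29, 64, -6, -41, 10,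 0, -5])) (.leaf [1, -2, 32, -16, 40, 2, -38, 6, -4, -3])) (.node (.leaf [2, 0, -8, 8, -17, 2, 10, -2, 0, 1]) (.leaf [-15, -1, 26, -42, 89, -10, -36, 9, 1, -6, 1]))) (.node (.node (.node (.leaf []) (.leaf [-28, -2, 67, -93, 193, -22, -86, 19, 7, -14, 1])) (.leaf [37, 14, -268, 273, -586, 67, 360, -92, -3, 43])) (.node (.leaf [8, -1, -11, 18, -38, 4, 14, -2, 1, 2, -1]) (.leaf [24, 5, -80, 112, -230, 34, 114, -34, -10, 17])))) (.node (.node (.node (.node (.leaf []) (.leaf [-2, -4, 70, -55, 126, -8, -92, 23, -6, -10])) (.leaf [5, -9, 94, -60, 150, -2, -128, 33, -15, -15, 1])) (.node (.leaf [0, 0, -12, 10, -23, 3, 16, -4, 1, 2]) (.leaf [-8, 1, 4, -15, 31, -5, -6, 1, 1, -2, 1]))) (.node (.node (.leaf [-1, 0, -2, 1, -1, 0, 2]) (.leaf [1, 0, -4, 1, -3, -2, 4, 0, 2])) (.node (.leaf [13, 1, -33, 52, -109, 17, 50, -16, -2, 8, -1]) (.leaf [-6, -2, 12, -24, 49, -8, -20, 8, 4, -4])))))))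

def twoL : Janko.Tree (List ℤ) := (.node (.node twoL0 twoL2) (.node twoL1 twoL3))

def twoKind0 : Janko.Tree (ℕ) :=
  (.node (.node (.node (.node (.node (.node (.node (.leaf 0) (.leaf 2)) (.leaf 3)) (.node (.leaf 3) (.leaf 3))) (.node (.node (.node (.leaf 3) (.leaf 3)) (.leaf 3)) (.node (.leaf 3) (.leaf 3)))) (.node (.node (.node (.node (.leaf 0) (.leaf 3)) (.leaf 3)) (.node (.leaf 0) (.leaf 3))) (.node (.node (.node (.leaf 0) (.leaf 3)) (.leaf 3)) (.node (.leaf 3) (.leaf 3))))) (.node (.node (.node (.node (.node (.leaf 0) (.leaf 2)) (.leaf 3)) (.node (.leaf 3) (.leaf 3))) (.node (.node (.node (.leaf 3) (.leaf 3)) (.leaf 3)) (.node (.leaf 3) (.leaf 3)))) (.node (.node (.node (.node (.leaf 0) (.leaf 3)) (.leaf 3)) (.node (.leaf 3) (.leaf 3))) (.node (.node (.node (.leaf 3) (.leaf 3)) (.leaf 3)) (.node (.leaf 3) (.leaf 3)))))) (.node (.node (.node (.node (.node (.node (.leaf 0) (.leaf 2)) (.leaf 0)) (.node (.leaf 0) (.leaf 3))) (.node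 (.node (.node (.leaf 3) (.leaf 3)) (.leaf 3)) (.node (.leaf 3) (.leaf 3)))) (.node (.node (.node (.node (.leaf 0) (.leaf 3)) (.leaf 3)) (.node (.leaf 3) (.leaf 3))) (.node (.node (.node (.leaf 3) (.leaf 3)) (.leaf 3)) (.node (.leaf 3) (.leaf 3))))) (.node (.node (.node (.node (.node (.leaf 0) (.leaf 3)) (.leaf 3)) (.node (.leaf 3) (.leaf 3))) (.node (.node (.node (.leaf 3) (.leaf 3)) (.leaf 0)) (.node (.leaf 3) (.leaf 3)))) (.node (.node (.node (.node (.leaf 3) (.leaf 3)) (.leaf 3)) (.node (.leaf 3) (.leaf 3))) (.node (.node (.leaf 3) (.leaf 3)) (.node (.leaf 3) (.leaf 3)))))))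

def twoKind1 : Janko.Tree (ℕ) :=
  (.node (.node (.node (.node (.node (.node (.node (.leaf 0) (.leaf 2)) (.leaf 3)) (.node (.leaf 3) (.leaf 3))) (.node (.node (.node (.leaf 0) (.leaf 3)) (.leaf 3)) (.node (.leaf 3) (.leaf 3)))) (.node (.node (.node (.node (.leaf 0) (.leaf 2)) (.leaf 3)) (.node (.leaf 0) (.leaf 3))) (.node (.node (.node (.leaf 3) (.leaf 3)) (.leaf 3)) (.node (.leaf 0) (.leaf 3))))) (.node (.node (.node (.node (.node (.leaf 0) (.leaf 2)) (.leaf 3)) (.node (.leaf 0) (.leaf 3))) (.node (.node (.node (.leaf 3) (.leaf 3)) (.leaf 3)) (.node (.leaf 3) (.leaf 3)))) (.node (.node (.node (.node (.leaf 0) (.leaf 3)) (.leaf 3)) (.node (.leaf 0) (.leaf 3))) (.node (.node (.node (.leaf 3) (.leaf 3)) (.leaf 3)) (.node (.leaf 0) (.leaf 3)))))) (.node (.node (.node (.node (.node (.node (.leaf 0) (.leaf 2)) (.leaf 3)) (.node (.leaf 3) (.leaf 3))) (.node (.node (.node (.leaf 3) (.leaf 3)) (.leaf 3)) (.node (.leaf 3) (.leaf 3)))) (.node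 (.node (.node (.node (.leaf 0) (.leaf 3)) (.leaf 3)) (.node (.leaf 0) (.leaf 3))) (.node (.node (.node (.leaf 3) (.leaf 3)) (.leaf 3)) (.node (.leaf 3) (.leaf 3))))) (.node (.node (.node (.node (.node (.leaf 0) (.leaf 3)) (.leaf 3)) (.node (.leaf 0) (.leaf 3))) (.node (.node (.node (.leaf 3) (.leaf 3)) (.leaf 0)) (.node (.leaf 3) (.leaf 3)))) (.node (.node (.node (.node (.leaf 0) (.leaf 3)) (.leaf 3)) (.node (.leaf 3) (.leaf 3))) (.node (.node (.leaf 0) (.leaf 3)) (.node (.leaf 3) (.leaf 3)))))))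

def twoKind2 : Janko.Tree (ℕ) :=
  (.node (.node (.node (.node (.node (.node (.node (.leaf 0) (.leaf 2)) (.leaf 3)) (.node (.leaf 0) (.leaf 3))) (.node (.node (.node (.leaf 0) (.leaf 3)) (.leaf 3)) (.node (.leaf 0) (.leaf 3)))) (.node (.node (.node (.node (.leaf 0) (.leaf 3)) (.leaf 3)) (.node (.leaf 0) (.leaf 3))) (.node (.node (.node (.leaf 0) (.leaf 3)) (.leaf 3)) (.node (.leaf 3) (.leaf 3))))) (.node (.node (.node (.node (.node (.leaf 0) (.leaf 3)) (.leaf 3)) (.node (.leaf 3) (.leaf 3))) (.node (.node (.node (.leaf 0) (.leaf 3)) (.leaf 3)) (.node (.leaf 0) (.leaf 3)))) (.node (.node (.node (.node (.leaf 0) (.leaf 3)) (.leaf 3)) (.node (.leaf 0) (.leaf 3))) (.node (.node (.node (.leaf 3) (.leaf 3)) (.leaf 3)) (.node (.leaf 3) (.leaf 3)))))) (.node (.node (.node (.node (.node (.node (.leaf 0) (.leaf 2)) (.leaf 3)) (.node (.leaf 3) (.leaf 3))) (.node (.node (.node (.leaf 0) (.leaf 3)) (.leaf 3)) (.node (.leaf 3) (.leaf 3)))) (.node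 (.node (.node (.node (.leaf 0) (.leaf 3)) (.leaf 3)) (.node (.leaf 3) (.leaf 3))) (.node (.node (.node (.leaf 3) (.leaf 3)) (.leaf 3)) (.node (.leaf 3) (.leaf 3))))) (.node (.node (.node (.node (.node (.leaf 3) (.leaf 3)) (.leaf 3)) (.node (.leaf 3) (.leaf 3))) (.node (.node (.node (.leaf 3) (.leaf 3)) (.leaf 0)) (.node (.leaf 3) (.leaf 3)))) (.node (.node (.node (.node (.leaf 3) (.leaf 3)) (.leaf 3)) (.node (.leaf 3) (.leaf 3))) (.node (.node (.leaf 3) (.leaf 3)) (.node (.leaf 3) (.leaf 3)))))))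

def twoKind3 : Janko.Tree (ℕ) :=
  (.node (.node (.node (.node (.node (.node (.node (.leaf 0) (.leaf 2)) (.leaf 3)) (.node (.leaf 3) (.leaf 3))) (.node (.node (.node (.leaf 3) (.leaf 3)) (.leaf 3)) (.node (.leaf 0) (.leaf 3)))) (.node (.node (.node (.node (.leaf 3) (.leaf 3)) (.leaf 3)) (.node (.leaf 0) (.leaf 3))) (.node (.node (.node (.leaf 3) (.leaf 3)) (.leaf 3)) (.node (.leaf 3) (.leaf 3))))) (.node (.node (.node (.node (.node (.leaf 0) (.leaf 3)) (.leaf 3)) (.node (.leaf 0) (.leaf 3))) (.node (.node (.node (.leaf 0) (.leaf 3)) (.leaf 3)) (.node (.leaf 3) (.leaf 3)))) (.node (.node (.node (.node (.leaf 0) (.leaf 3)) (.leaf 3)) (.node (.leaf 3) (.leaf 3))) (.node (.node (.node (.leaf 3) (.leaf 3)) (.leaf 3)) (.node (.leaf 0) (.leaf 3)))))) (.node (.node (.node (.node (.node (.node (.leaf 0) (.leaf 2)) (.leaf 3)) (.node (.leaf 3) (.leaf 3))) (.node (.node (.node (.leaf 3) (.leaf 3)) (.leaf 3)) (.node (.leaf 0) (.leaf 3)))) (.node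 (.node (.node (.node (.leaf 0) (.leaf 3)) (.leaf 3)) (.node (.leaf 0) (.leaf 3))) (.node (.node (.node (.leaf 0) (.leaf 3)) (.leaf 0)) (.node (.leaf 3) (.leaf 3))))) (.node (.node (.node (.node (.node (.leaf 0) (.leaf 3)) (.leaf 3)) (.node (.leaf 3) (.leaf 3))) (.node (.node (.node (.leaf 0) (.leaf 3)) (.leaf 3)) (.node (.leaf 3) (.leaf 3)))) (.node (.node (.node (.node (.leaf 0) (.leaf 3)) (.leaf 3)) (.node (.leaf 3) (.leaf 3))) (.node (.node (.leaf 3) (.leaf 3)) (.node (.leaf 3) (.leaf 3)))))))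

def twoKind : Janko.Tree (ℕ) := (.node (.node twoKind0 twoKind2) (.node twoKind1 twoKind3))

def twoRank0 : Janko.Tree (ℕ) :=
  (.node (.node (.node (.node (.node (.node (.node (.leaf 0) (.leaf 63)) (.leaf 301)) (.node (.leaf 88) (.leaf 121))) (.node (.node (.node (.leaf 183) (.leaf 118)) (.leaf 225)) (.node (.leaf 213) (.leaf 289)))) (.node (.node (.node (.node (.leaf 15) (.leaf 127)) (.leaf 264)) (.node (.leaf 43) (.leaf 175))) (.node (.node (.node (.leaf 34) (.leaf 303)) (.leaf 197)) (.node (.leaf 223) (.leaf 174))))) (.node (.node (.node (.node (.node (.leaf 8) (.leaf 139)) (.leaf 291)) (.node (.leaf 191) (.leaf 160))) (.node (.node (.node (.leaf 168) (.leaf 230)) (.leaf 282)) (.node (.leaf 180) (.leaf 219)))) (.node (.node (.node (.node (.leaf 22) (.leaf 204)) (.leaf 287)) (.node (.leaf 218) (.leaf 267))) (.node (.node (.node (.leaf 134) (.leaf 284)) (.leaf 163)) (.node (.leaf 192) (.leaf 177)))))) (.node (.node (.node (.node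 (.node (.node (.leaf 4) (.leaf 84)) (.leaf 58)) (.node (.leaf 39) (.leaf 222))) (.node (.node (.node (.leaf 186) (.leaf 311)) (.leaf 297)) (.node (.leaf 215) (.leaf 278)))) (.node (.node (.node (.node (.leaf 18) (.leaf 239)) (.leaf 151)) (.node (.leaf 112) (.leaf 201))) (.node (.node (.node (.leaf 106) (.leaf 296)) (.leaf 211)) (.node (.leaf 207) (.leaf 165))))) (.node (.node (.node (.node (.node (.leaf 12) (.leaf 120)) (.leaf 189)) (.node (.leaf 64) (.leaf 99))) (.node (.node (.node (.leaf 198) (.leaf 307)) (.leaf 59)) (.node (.leaf 129) (.leaf 195)))) (.node (.node (.node (.node (.leaf 110) (.leaf 173)) (.leaf 100)) (.node (.leaf 185) (.leaf 294))) (.node (.node (.leaf 221) (.leaf 199)) (.node (.leaf 115) (.leaf 203)))))))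

def twoRank1 : Janko.Tree (ℕ) :=
  (.node (.node (.node (.node (.node (.node (.node (.leaf 1) (.leaf 65)) (.leaf 138)) (.node (.leaf 188) (.leaf 261))) (.node (.node (.node (.leaf 28) (.leaf 312)) (.leaf 205)) (.node (.leaf 93) (.leaf 263)))) (.node (.node (.node (.node (.leaf 16) (.leaf 243)) (.leaf 266)) (.node (.leaf 44) (.leaf 132))) (.node (.node (.node (.leaf 148) (.leaf 302)) (.leaf 92)) (.node (.leaf 55) (.leaf 90))))) (.node (.node (.node (.node (.node (.leaf 9) (.leaf 150)) (.leaf 293)) (.node (.leaf 40) (.leaf 170))) (.node (.node (.node (.leaf 97) (.leaf 184)) (.leaf 258)) (.node (.leaf 158) (.leaf 300)))) (.node (.node (.node (.node (.leaf 23) (.leaf 111)) (.leaf 277)) (.node (.leaf 49) (.leaf 298))) (.node (.node (.node (.leaf 137) (.leaf 268)) (.leaf 128)) (.node (.leaf 56) (.leaf 117)))))) (.node (.node (.node (.node (.node (.node (.leaf 5) (.leaf 89)) (.leaf 200)) (.node (.leaf 179) (.leaf 236))) (.node (.node (.node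 (.leaf 94) (.leaf 214)) (.leaf 288)) (.node (.leaf 133) (.leaf 290)))) (.node (.node (.node (.node (.leaf 19) (.leaf 228)) (.leaf 232)) (.node (.leaf 47) (.leaf 226))) (.node (.node (.node (.leaf 126) (.leaf 176)) (.leaf 91)) (.node (.leaf 172) (.leaf 95))))) (.node (.node (.node (.node (.node (.leaf 13) (.leaf 196)) (.leaf 181)) (.node (.leaf 42) (.leaf 149))) (.node (.node (.node (.leaf 124) (.leaf 306)) (.leaf 60)) (.node (.leaf 131) (.leaf 178)))) (.node (.node (.node (.node (.leaf 26) (.leaf 313)) (.leaf 157)) (.node (.leaf 96) (.leaf 286))) (.node (.node (.leaf 37) (.leaf 141)) (.node (.leaf 271) (.leaf 194)))))))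

def twoRank2 : Janko.Tree (ℕ) :=
  (.node (.node (.node (.node (.node (.node (.node (.leaf 2) (.leaf 66)) (.leaf 74)) (.node (.leaf 38) (.leaf 123))) (.node (.node (.node (.leaf 29) (.leaf 233)) (.leaf 242)) (.node (.leaf 51) (.leaf 265)))) (.node (.node (.node (.node (.leaf 17) (.leaf 315)) (.leaf 73)) (.node (.leaf 45) (.leaf 69))) (.node (.node (.node (.leaf 35) (.leaf 299)) (.leaf 130)) (.node (.leaf 251) (.leaf 122))))) (.node (.node (.node (.node (.node (.leaf 10) (.leaf 107)) (.leaf 269)) (.node (.leaf 79) (.leaf 292))) (.node (.node (.node (.leaf 31) (.leaf 309)) (.leaf 260)) (.node (.leaf 54) (.leaf 272)))) (.node (.node (.node (.node (.leaf 24) (.leaf 224)) (.leaf 257)) (.node (.leaf 50) (.leaf 281))) (.node (.node (.node (.leaf 119) (.leaf 155)) (.leaf 71)) (.node (.leaf 76) (.leaf 67)))))) (.node (.node (.node (.node (.node (.node (.leaf 6) (.leaf 98)) (.leaf 252)) (.node (.leaf 276) (.leaf 247))) (.node (.node (.node (.leaf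 30) (.leaf 310)) (.leaf 142)) (.node (.leaf 77) (.leaf 217)))) (.node (.node (.node (.node (.leaf 20) (.leaf 227)) (.leaf 285)) (.node (.leaf 78) (.leaf 248))) (.node (.node (.node (.leaf 113) (.leaf 164)) (.leaf 283)) (.node (.leaf 262) (.leaf 259))))) (.node (.node (.node (.node (.node (.leaf 82) (.leaf 159)) (.leaf 244)) (.node (.leaf 108) (.leaf 70))) (.node (.node (.node (.leaf 80) (.leaf 305)) (.leaf 61)) (.node (.leaf 136) (.leaf 256)))) (.node (.node (.node (.node (.leaf 81) (.leaf 167)) (.leaf 72)) (.node (.leaf 135) (.leaf 68))) (.node (.node (.leaf 255) (.leaf 143)) (.node (.leaf 75) (.leaf 280)))))))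

def twoRank3 : Janko.Tree (ℕ) :=
  (.node (.node (.node (.node (.node (.node (.node (.leaf 3) (.leaf 83)) (.leaf 245)) (.node (.leaf 162) (.leaf 249))) (.node (.node (.node (.leaf 85) (.leaf 202)) (.leaf 216)) (.node (.leaf 52) (.leaf 145)))) (.node (.node (.node (.node (.leaf 86) (.leaf 103)) (.leaf 274)) (.node (.leaf 46) (.leaf 275))) (.node (.node (.node (.leaf 193) (.leaf 171)) (.leaf 190)) (.node (.leaf 114) (.leaf 206))))) (.node (.node (.node (.node (.node (.leaf 11) (.leaf 101)) (.leaf 235)) (.node (.leaf 41) (.leaf 140))) (.node (.node (.node (.leaf 32) (.leaf 308)) (.leaf 104)) (.node (.leaf 156) (.leaf 234)))) (.node (.node (.node (.node (.leaf 25) (.leaf 314)) (.leaf 147)) (.node (.leaf 87) (.leaf 231))) (.node (.node (.node (.leaf 273) (.leaf 152)) (.leaf 237)) (.node (.leaf 57) (.leaf 238)))))) (.node (.node (.node (.node (.node (.node (.leaf 7) (.leaf 116)) (.leaf 210)) (.node (.leaf 146) (.leaf 105))) (.node (.node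 (.node (.leaf 208) (.leaf 209)) (.leaf 250)) (.node (.leaf 53) (.leaf 246)))) (.node (.node (.node (.node (.leaf 21) (.leaf 241)) (.leaf 109)) (.node (.leaf 48) (.leaf 166))) (.node (.node (.node (.leaf 36) (.leaf 125)) (.leaf 62)) (.node (.leaf 144) (.leaf 212))))) (.node (.node (.node (.node (.node (.leaf 14) (.leaf 220)) (.leaf 187)) (.node (.leaf 153) (.leaf 295))) (.node (.node (.node (.leaf 33) (.leaf 304)) (.leaf 229)) (.node (.leaf 253) (.leaf 182)))) (.node (.node (.node (.node (.leaf 27) (.leaf 240)) (.leaf 270)) (.node (.leaf 161) (.leaf 254))) (.node (.node (.leaf 102) (.leaf 154)) (.node (.leaf 279) (.leaf 169)))))))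

def twoRank : Janko.Tree (ℕ) := (.node (.node twoRank0 twoRank2) (.node twoRank1 twoRank3))

def twoVia0 : Janko.Tree (ℕ × ℕ) :=
  (.node (.node (.node (.node (.node (.node (.node (.leaf (0, 0)) (.leaf (0, 0))) (.leaf (59, 32))) (.node (.leaf (4, 4)) (.leaf (12, 43)))) (.node (.node (.node (.leaf (51, 8)) (.leaf (32, 1))) (.leaf (26, 40))) (.node (.leaf (58, 24)) (.leaf (59, 56))))) (.node (.node (.node (.node (.leaf (0, 0)) (.leaf (16, 62))) (.leaf (59, 36))) (.node (.leaf (0, 0)) (.leaf (58, 60)))) (.node (.node (.node (.leaf (0, 0)) (.leaf (48, 52))) (.leaf (13, 44))) (.node (.leaf (9, 28)) (.leaf (28, 60)))))) (.node (.node (.node (.node (.node (.leaf (0, 0)) (.leaf (8, 0))) (.leaf (59, 19))) (.node (.leaf (58, 35)) (.leaf (14, 43)))) (.node (.node (.node (.leaf (30, 61)) (.leaf (40, 7))) (.leaf (59, 35))) (.node (.leaf (5, 33)) (.leaf (41, 16))))) (.node (.node (.node (.node (.leaf (0, 0)) (.leaf (24, 59))) (.leaf (59, 38))) (.node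 (.leaf (39, 16)) (.leaf (59, 54)))) (.node (.node (.node (.leaf (25, 1)) (.leaf (56, 42))) (.leaf (58, 1))) (.node (.leaf (41, 18)) (.leaf (53, 62))))))) (.node (.node (.node (.node (.node (.node (.leaf (0, 0)) (.leaf (4, 0))) (.leaf (0, 0))) (.node (.leaf (0, 0)) (.leaf (9, 49)))) (.node (.node (.node (.leaf (51, 23)) (.leaf (36, 52))) (.leaf (52, 57))) (.node (.leaf (37, 25)) (.leaf (59, 57))))) (.node (.node (.node (.node (.leaf (0, 0)) (.leaf (20, 40))) (.leaf (9, 21))) (.node (.leaf (25, 13)) (.leaf (59, 11)))) (.node (.node (.node (.leaf (4, 3)) (.leaf (52, 15))) (.leaf (58, 45))) (.node (.leaf (51, 17)) (.leaf (54, 61)))))) (.node (.node (.node (.node (.node (.leaf (0, 0)) (.leaf (12, 7))) (.leaf (51, 50))) (.node (.leaf (0, 19)) (.leaf (6, 51)))) (.node (.node (.node (.leaf (55, 44)) (.leaf (44, 52))) (.leaf (0, 0))) (.node (.leaf (25, 5)) (.leaf (54, 59))))) (.node (.node (.node (.node (.leaf (4, 7)) (.leaf (28, 61))) (.leaf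 (6, 39))) (.node (.leaf (41, 62)) (.leaf (59, 55)))) (.node (.node (.leaf (15, 19)) (.leaf (41, 11))) (.node (.leaf (6, 31)) (.leaf (35, 63))))))))

def twoVia1 : Janko.Tree (ℕ × ℕ) :=
  (.node (.node (.node (.node (.node (.node (.node (.leaf (0, 0)) (.leaf (1, 0))) (.leaf (16, 14))) (.node (.leaf (59, 31)) (.leaf (59, 25)))) (.node (.node (.node (.leaf (0, 0)) (.leaf (33, 52))) (.leaf (24, 50))) (.node (.leaf (1, 44)) (.leaf (58, 39))))) (.node (.node (.node (.node (.leaf (0, 0)) (.leaf (10, 0))) (.leaf (58, 15))) (.node (.leaf (0, 0)) (.leaf (16, 27)))) (.node (.node (.node (.leaf (8, 12)) (.leaf (49, 62))) (.leaf (5, 20))) (.node (.leaf (0, 0)) (.leaf (5, 43)))))) (.node (.node (.node (.node (.node (.leaf (0, 0)) (.leaf (9, 0))) (.leaf (55, 29))) (.node (.leaf (0, 0)) (.leaf (8, 50)))) (.node (.node (.node (.leaf (1, 23)) (.leaf (41, 13))) (.leaf (59, 17))) (.node (.leaf (12, 51)) (.leaf (50, 46))))) (.node (.node (.node (.node (.leaf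 (0, 0)) (.leaf (25, 7))) (.leaf (58, 51))) (.node (.leaf (0, 0)) (.leaf (59, 41)))) (.node (.node (.node (.leaf (7, 14)) (.leaf (57, 54))) (.leaf (16, 60))) (.node (.leaf (0, 0)) (.leaf (7, 62))))))) (.node (.node (.node (.node (.node (.node (.leaf (0, 0)) (.leaf (5, 0))) (.leaf (51, 26))) (.node (.leaf (54, 33)) (.leaf (59, 20)))) (.node (.node (.node (.leaf (5, 19)) (.leaf (37, 24))) (.leaf (55, 26))) (.node (.leaf (55, 0)) (.leaf (55, 47))))) (.node (.node (.node (.node (.leaf (0, 0)) (.leaf (21, 40))) (.leaf (59, 43))) (.node (.leaf (0, 0)) (.leaf (51, 47)))) (.node (.node (.node (.leaf (55, 48)) (.leaf (53, 52))) (.leaf (1, 60))) (.node (.leaf (51, 61)) (.leaf (1, 61)))))) (.node (.node (.node (.node (.node (.leaf (0, 0)) (.leaf (13, 59))) (.leaf (51, 12))) (.node (.leaf (0, 0)) (.leaf (7, 51)))) (.node (.node (.node (.leaf (12, 31)) (.leaf (45, 52))) (.leaf (0, 0))) (.node (.leaf (7, 27)) (.leaf (59, 62))))) (.node (.node (.node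 (.node (.leaf (0, 0)) (.leaf (29, 52))) (.leaf (59, 51))) (.node (.leaf (5, 6)) (.leaf (55, 51)))) (.node (.node (.leaf (0, 0)) (.leaf (8, 47))) (.node (.leaf (58, 52)) (.leaf (51, 20))))))))

def twoVia2 : Janko.Tree (ℕ × ℕ) :=
  (.node (.node (.node (.node (.node (.node (.node (.leaf (0, 0)) (.leaf (2, 0))) (.leaf (2, 32))) (.node (.leaf (0, 0)) (.leaf (2, 60)))) (.node (.node (.node (.leaf (0, 0)) (.leaf (34, 19))) (.leaf (2, 57))) (.node (.leaf (0, 0)) (.leaf (58, 59))))) (.node (.node (.node (.node (.leaf (0, 0)) (.leaf (18, 58))) (.leaf (2, 36))) (.node (.leaf (0, 0)) (.leaf (2, 52)))) (.node (.node (.node (.leaf (0, 0)) (.leaf (50, 49))) (.leaf (55, 27))) (.node (.leaf (59, 53)) (.leaf (12, 48)))))) (.node (.node (.node (.node (.node (.leaf (0, 0)) (.leaf (10, 5))) (.leaf (57, 60))) (.node (.leaf (2, 18)) (.leaf (59, 34)))) (.node (.node (.node (.leaf (0, 0)) (.leaf (42, 52))) (.leaf (58, 23))) (.node (.leaf (0, 0)) (.leaf (59,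 46))))) (.node (.node (.node (.node (.leaf (0, 0)) (.leaf (26, 47))) (.leaf (59, 37))) (.node (.leaf (0, 0)) (.leaf (59, 49)))) (.node (.node (.node (.leaf (32, 21)) (.leaf (58, 2))) (.leaf (2, 46))) (.node (.leaf (2, 30)) (.leaf (2, 62))))))) (.node (.node (.node (.node (.node (.node (.leaf (0, 0)) (.leaf (6, 0))) (.leaf (58, 26))) (.node (.leaf (59, 8)) (.leaf (59, 63)))) (.node (.node (.node (.leaf (0, 0)) (.leaf (38, 52))) (.leaf (32, 51))) (.node (.leaf (2, 25)) (.leaf (59, 18))))) (.node (.node (.node (.node (.leaf (0, 0)) (.leaf (22, 40))) (.leaf (56, 59))) (.node (.leaf (2, 21)) (.leaf (58, 47)))) (.node (.node (.node (.leaf (25, 21)) (.leaf (54, 43))) (.leaf (59, 42))) (.node (.leaf (59, 22)) (.leaf (59, 58)))))) (.node (.node (.node (.node (.node (.leaf (2, 3)) (.leaf (14, 0))) (.leaf (17, 62))) (.node (.leaf (6, 13)) (.leaf (2, 51)))) (.node (.node (.node (.leaf (2, 11)) (.leaf (46, 52))) (.leaf (0, 0))) (.node (.leaf (55,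 14)) (.leaf (58, 12))))) (.node (.node (.node (.node (.leaf (2, 7)) (.leaf (30, 19))) (.leaf (2, 39))) (.node (.leaf (12, 14)) (.leaf (2, 55)))) (.node (.node (.leaf (59, 33)) (.leaf (2, 47))) (.node (.leaf (2, 31)) (.leaf (59, 40))))))))

def twoVia3 : Janko.Tree (ℕ × ℕ) :=
  (.node (.node (.node (.node (.node (.node (.node (.leaf (0, 0)) (.leaf (3, 0))) (.leaf (59, 4))) (.node (.leaf (59, 7)) (.leaf (59, 47)))) (.node (.node (.node (.leaf (4, 19)) (.leaf (35, 53))) (.leaf (41, 14))) (.node (.leaf (0, 0)) (.leaf (8, 28))))) (.node (.node (.node (.node (.leaf (4, 5)) (.leaf (19, 21))) (.leaf (58, 48))) (.node (.leaf (0, 0)) (.leaf (59, 60)))) (.node (.node (.node (.leaf (59, 30)) (.leaf (51, 10))) (.leaf (59, 21))) (.node (.leaf (11, 19)) (.leaf (59, 13)))))) (.node (.node (.node (.node (.node (.leaf (0, 0)) (.leaf (11, 51))) (.leaf (34, 5))) (.node (.leaf (0, 0)) (.leaf (8, 60)))) (.node (.node (.node (.leaf (0, 0)) (.leaf (43, 52)))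 (.leaf (19, 51))) (.node (.leaf (58, 43)) (.leaf (34, 26))))) (.node (.node (.node (.node (.leaf (0, 0)) (.leaf (27, 52))) (.leaf (8, 15))) (.node (.leaf (3, 22)) (.leaf (40, 61)))) (.node (.node (.node (.leaf (59, 61)) (.leaf (59, 2))) (.leaf (3, 46))) (.node (.leaf (0, 0)) (.leaf (34, 1))))))) (.node (.node (.node (.node (.node (.node (.leaf (0, 0)) (.leaf (7, 0))) (.leaf (39, 60))) (.node (.leaf (8, 23)) (.leaf (19, 5)))) (.node (.node (.node (.leaf (59, 3)) (.leaf (39, 1))) (.leaf (58, 14))) (.node (.leaf (0, 0)) (.leaf (59, 44))))) (.node (.node (.node (.node (.leaf (0, 0)) (.leaf (23, 17))) (.leaf (19, 19))) (.node (.leaf (0, 0)) (.leaf (58, 61)))) (.node (.node (.node (.leaf (0, 0)) (.leaf (55, 31))) (.leaf (0, 0))) (.node (.leaf (8, 44)) (.leaf (51, 1)))))) (.node (.node (.node (.node (.node (.leaf (0, 0)) (.leaf (15, 22))) (.leaf (41, 46))) (.node (.leaf (59, 48)) (.leaf (59, 10)))) (.node (.node (.node (.leaf (0, 0)) (.leaf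 (47, 52))) (.leaf (21, 24))) (.node (.leaf (59, 26)) (.leaf (59, 52))))) (.node (.node (.node (.node (.leaf (0, 0)) (.leaf (31, 40))) (.leaf (59, 50))) (.node (.leaf (58, 50)) (.leaf (58, 31)))) (.node (.node (.leaf (11, 5)) (.leaf (59, 39))) (.node (.leaf (59, 45)) (.leaf (58, 10))))))))

def twoVia : Janko.Tree (ℕ × ℕ) := (.node (.node twoVia0 twoVia2) (.node twoVia1 twoVia3))

def twoOrd : Janko.Tree (ℕ) :=
  (.node (.node (.node (.node (.node (.node (.leaf 62) (.leaf 23)) (.node (.leaf 61) (.leaf 32))) (.node (.node (.leaf 44) (.leaf 11)) (.node (.leaf 52) (.leaf 10)))) (.node (.node (.node (.leaf 30) (.leaf 22)) (.node (.leaf 29) (.leaf 36))) (.node (.node (.leaf 27) (.leaf 20)) (.node (.leaf 1) (.leaf 21))))) (.node (.node (.node (.node (.leaf 25) (.leaf 60)) (.node (.leaf 24) (.leaf 42))) (.node (.node (.leaf 31) (.leaf 2)) (.node (.leaf 19) (.leaf 3)))) (.node (.node (.node (.leaf 39) (.leaf 4)) (.node (.leaf 35) (.leaf 41)))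 (.node (.node (.leaf 9) (.leaf 46)) (.node (.leaf 58) (.leaf 45)))))) (.node (.node (.node (.node (.node (.leaf 43) (.leaf 48)) (.node (.leaf 13) (.leaf 5))) (.node (.node (.leaf 59) (.leaf 49)) (.node (.leaf 54) (.leaf 12)))) (.node (.node (.node (.leaf 16) (.leaf 51)) (.node (.leaf 55) (.leaf 50))) (.node (.node (.leaf 28) (.leaf 63)) (.node (.leaf 40) (.leaf 34))))) (.node (.node (.node (.node (.leaf 53) (.leaf 15)) (.node (.leaf 56) (.leaf 47))) (.node (.node (.leaf 37) (.leaf 33)) (.node (.leaf 26) (.leaf 38)))) (.node (.node (.node (.leaf 8) (.leaf 18)) (.node (.leaf 57) (.leaf 17))) (.node (.node (.leaf 6) (.leaf 14)) (.node (.leaf 7) (.leaf 0)))))))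

def twoRels : List (List ℕ) := [[0, 0, 0, 0],
  [1, 1, 1, 1],
  [2, 2],
  [3, 3, 3, 3],
  [0, 0, 3, 3],
  [0, 1, 0, 1],
  [0, 2, 0, 2],
  [1, 2, 1, 2],
  [1, 3, 1, 3],
  [0, 0, 0, 3, 0, 3],
  [0, 0, 2, 0, 0, 2],
  [0, 0, 2, 3, 3, 2],
  [0, 1, 2, 1, 0, 2],
  [0, 1, 3, 0, 3, 1],
  [0, 1, 3, 1, 0, 3],
  [0, 2, 3, 0, 3, 2],
  [1, 1, 2, 1, 1, 2],
  [1, 2, 3, 1, 2, 3],
  [1, 3, 2, 1, 3, 2],
  [2, 3, 3, 2, 3, 3],
  [0, 0, 0, 1, 0, 0, 0, 1],
  [0, 0, 0, 1, 0, 3, 3, 1],
  [0, 0, 0, 1, 1, 0, 1, 1],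
  [0, 0, 0, 1, 2, 0, 2, 1],
  [0, 0, 0, 1, 3, 3, 0, 1],
  [0, 0, 0, 2, 1, 0, 1, 2],
  [0, 0, 1, 0, 0, 2, 1, 2],
  [0, 0, 1, 1, 2, 3, 2, 3],
  [0, 0, 1, 1, 3, 1, 1, 3],
  [0, 0, 1, 1, 3, 2, 3, 2],
  [0, 0, 1, 1, 3, 3, 1, 1],
  [0, 0, 1, 2, 0, 0, 1, 2],
  [0, 0, 1, 2, 1, 0, 0, 2],
  [0, 0, 1, 2, 3, 2, 3, 1],
  [0, 0, 1, 2, 3, 3, 1, 2],
  [0, 0, 1, 3, 0, 0, 1, 3],
  [0, 0, 1, 3, 2, 3, 2, 1],
  [0, 0, 1, 3, 3, 2, 1, 2],
  [0, 0, 2, 1, 1, 3, 2, 3],
  [0, 0, 2, 1, 2, 3, 3, 1],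
  [0, 0, 2, 1, 3, 3, 2, 1],
  [0, 0, 2, 3, 0, 3, 0, 2],
  [0, 0, 2, 3, 1, 1, 2, 3],
  [0, 0, 2, 3, 2, 1, 1, 3],
  [0, 0, 2, 3, 2, 3, 1, 1],
  [0, 0, 3, 1, 1, 2, 3, 2],
  [0, 0, 3, 2, 1, 1, 3, 2],
  [0, 0, 3, 2, 3, 1, 1, 2],
  [0, 0, 3, 2, 3, 2, 1, 1],
  [0, 1, 0, 3, 1, 2, 3, 2],
  [0, 1, 1, 0, 2, 3, 2, 3],
  [0, 1, 1, 0, 3, 1, 1, 3],
  [0, 1, 1, 0, 3, 2, 3, 2],
  [0, 1, 1, 2, 0, 1, 1, 2],
  [0, 1, 1, 2, 0, 2, 1, 1],
  [0, 1, 1, 2, 1, 1, 0, 2],
  [0, 1, 1, 3, 2, 0, 3, 2],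
  [0, 1, 2, 0, 1, 3, 2, 3],
  [0, 1, 2, 0, 2, 1, 3, 3],
  [0, 1, 2, 3, 0, 1, 3, 2]]

/-- the certificate -/
def twoCert : CentralLocal.Cert :=
  { act := actP twoGens, one := idP, N := 64, k := 4, q := 0, rels := twoRels, P := 11,
    elt := twoElt, next := twoNext, word := twoWord, par := twoPar, L := twoL, kind := twoKind, rank := twoRank,
    via := twoVia, pv := [256, 257, 258, 259, 260, 261, 262, 263, 264, 265, 273] }

theorem two_edges0 : ((List.range 64).all fun i => twoCert.edgeCheck (Nat.add 0 i)) = true := by decide +kernel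

theorem two_edges : ∀ i < 64, twoCert.edgeCheck i = true := by
  intro i hi
  have := List.all_eq_true.1 two_edges0 (i - 0) (List.mem_range.2 (by omega)); rwa [show Nat.add 0 (i - 0) = i from Nat.add_sub_cancel' (by omega)] at this


theorem two_tree0 : ((List.range 64).all fun i => twoCert.treeCheck (Nat.add 0 i)) = true := by decide +kernel

theorem two_tree : ∀ i < 64, twoCert.treeCheck i = true := by
  intro i hi
  have := List.all_eq_true.1 two_tree0 (i - 0) (List.mem_range.2 (by omega)); rwa [show Nat.add 0 (i - 0) = i from Nat.add_sub_cancel' (by omega)] at this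


theorem two_vars0 : ((List.range 316).all fun i => twoCert.varCheck (Nat.add 0 i)) = true := by decide +kernel

theorem two_vars : ∀ i < 316, twoCert.varCheck i = true := by
  intro i hi
  have := List.all_eq_true.1 two_vars0 (i - 0) (List.mem_range.2 (by omega)); rwa [show Nat.add 0 (i - 0) = i from Nat.add_sub_cancel' (by omega)] at this


theorem two_ord0 : ((List.range 64).all fun i => twoCert.ordCheck twoOrd (Nat.add 0 i)) = true := by decide +kernel

theorem two_ord : ∀ i < 64, twoCert.ordCheck twoOrd i = true := by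
  intro i hi
  have := List.all_eq_true.1 two_ord0 (i - 0) (List.mem_range.2 (by omega)); rwa [show Nat.add 0 (i - 0) = i from Nat.add_sub_cancel' (by omega)] at this


theorem two_rels : (twoCert.rels.all fun w => twoCert.relCheck w) = true := by decide +kernel

theorem two_valid : twoCert.Valid where
  npos := Nat.succ_pos _
  kpos := Nat.succ_pos _
  edges := two_edges
  tree := two_tree
  rels := List.all_eq_true.1 two_rels
  vars := two_vars

/-- the lattice -/
def twoLat : CentralBound.Lat :=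
  { basis := [[1, 0, 2, 0, 0, 0, -2, 0, 0, 0, 0],
      [0, 1, -2, 0, 0, -2, 2, 0, 0, 0, 0],
      [0, 0, -2, 1, -2, 0, 2, 0, 0, 0, 0],
      [0, 0, -2, 0, 0, -1, 1, 1, 0, 0, 0],
      [0, 0, -2, 0, -1, -1, 2, 0, 1, 0, 0],
      [0, 0, 1, 0, -1, 0, -1, 0, 0, 1, 0],
      [0, 0, -3, 0, -1, -1, 2, 0, 0, 0, 1]],
    compl := [[0, 0, 0, 0, 1, 0, 0, 0, 0, 0, 0], [0, 0, 0, 0, -1, 1, 0, 0, 0, 0, 0], [0, 0, 1, 0, 0, 0, 0, 0, 0, 0, 0], [0, 0, -1, 0, -1, 0, 1, 0, 0, 0, 0]],
    counts := [[2, 0, 0, 2], [0, 2, 0, -2], [0, 0, 2, 0], [0, 0, 0, -2]],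
    piv := [0, 1, 2, 3],
    coord := [([1, 0, 0, 0, 0, 0, 0], [2, 0, 0, 2]),
      ([0, 1, 0, 0, 0, 0, 0], [0, 2, 0, -2]),
      ([0, 0, 0, 0, 0, 0, 0], [0, 0, 1, 0]),
      ([0, 0, 1, 0, 0, 0, 0], [0, 0, 0, -2]),
      ([0, 0, 0, 0, 0, 0, 0], [1, 0, 0, 0]),
      ([0, 0, 0, 0, 0, 0, 0], [1, 1, 0, 0]),
      ([0, 0, 0, 0, 0, 0, 0], [1, 0, 1, 1]),
      ([0, 0, 0, 1, 0, 0, 0], [0, 1, 1, -1]),
      ([0, 0, 0, 0, 1, 0, 0], [0, 1, 0, -2]),
      ([0, 0, 0, 0, 0, 1, 0], [2, 0, 0, 1]),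
      ([0, 0, 0, 0, 0, 0, 1], [0, 1, 1, -2])],
    gens := [[0, 0, -23, 0, -9, -8, 15, 0, 0, 1, 8], [0, 0, -3, 0, -1, -1, 2, 0, 0, 0, 1]],
    ord := [4, 4],
    red := [([26, 16], ([(-12, 0), (8, 1)], [(31, (0, 10)), (-15, (0, 4)), (16, (0, 34))]), [-4, 3, 7, -8, 11, 4, -4]),
      ([0, -30], ([(26, 0), (18, 1)], [(-27, (0, 34)), (12, (0, 4)), (3, (0, 10))]), [-1, -7, -65, 31, -16, -15, 1]),
      ([6, 24], ([(20, 0), (32, 1)], [(17, (0, 4)), (-26, (0, 10)), (22, (0, 34))]), [28, 2, 152, -34, -13, 18, -1]),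
      ([16, 28], ([(19, 0), (10, 1)], [(22, (0, 4)), (-30, (0, 10)), (16, (0, 34))]), [23, 3, 138, -34, -10, 17, -2]),
      ([-26, 19], ([(3, 1), (3, 0)], [(-19, (0, 4)), (2, (0, 10)), (-1, (0, 34))]), [-2, -1, -14, 5, 0, -2, 3]),
      ([1, -8], ([], []), [0, 0, 0, 0, 0, 0, 0]),
      ([0, 1], ([], []), [0, 0, 0, 0, 0, 0, 0])],
    kill := [(([(24, 0), (16, 1)], [(5, (0, 3)), (-2, (0, 4)), (-18, (0, 10)), (24, (0, 34))]), [23, 4, 153, -39, -7, 20, 1]), (([(-10, 0), (-16, 1)], [(-29, (0, 11)), (-31, (0, 4)), (30, (0, 10)), (8, (0, 34))]), [-1, 6, 28, -20, 8, 9, 0])] }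

/-- conjugate commuting pairs -/
def twoSpecs : List Spec := [(([0, 0], [0, 2], [0, 3, 2, 3], [2, 1]), (976531636853126291160407323722221600, 972606645568131968584696805283956768)),
  (([3, 1], [1, 1, 2], [0, 3, 2, 3], [0, 0, 1, 0]), (976888774479474864997516652471158816, 976620311940227580045552674370193440))]

theorem two_gens : twoGens.all (memOK [23, 0, 1]) = true ∧ twoSpecs.all (specOK [23, 0, 1] twoCert twoGens) = true := by decide +kernel

theorem two_lat : CentralBound.latOK twoCert (twoSpecs.map extOf) (2 ^ 6) twoLat = true := by decide +kernel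

end Cfsg.Agent.Lie.LThreeFourMult
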